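import Cfsg.Agent.J4Local.Order.PairValue

/-!
The value of a pair of elements from the check, and the splitting of the counted pairs.
-/

set_option autoImplicit false
set_option maxRecDepth 100000

namespace CfsgLib.J4Order

open Cfsg CfsgLib.J4CentT CfsgLib.Golay CfsgLib.Golay.Cert MulAction
open scoped Pointwise

theorem joinCount_card {α : Type*} [DecidableEq α] (n : ℕ) (A B : List α) (fa fb : α → ℕ) (hA : A.Nodup)
    (hB : B.Nodup) (ha : ∀ a ∈ A, fa a < 2 ^ n) (hb : ∀ b ∈ B, fb b < 2 ^ n) :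
    joinCount n (A.map fa) (B.map fb) = ((A.toFinset ×ˢ B.toFinset).filter fun q => fa q.1 = fb q.2).card := by
  rw [joinCount_eq n _ _ (by simpa using ha) (by simpa using hb), List.map_map, Finset.card_filter,
    Finset.sum_product, List.sum_toFinset _ hA]
  refine congrArg List.sum (List.map_congr_left fun a _ => ?_)
  simp only [Function.comp_apply]
  rw [← Finset.card_filter,
    show (B.toFinset.filter fun i => fa a = fb i) = (B.filter fun i => decide (fa a = fb i)).toFinset by ext; simp,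
    List.toFinset_card_of_nodup (hB.filter _), List.count,
    List.countP_map, List.countP_eq_length_filter]
  refine congrArg List.length (List.filter_congr fun b _ => ?_)
  simp only [Function.comp_apply]
  by_cases h : fb b = fa a
  · rw [beq_iff_eq.mpr h, decide_eq_true h.symm]
  · rw [beq_eq_false_iff_ne.mpr h, decide_eq_false (fun e => h e.symm)]

variable {G : Type*} [Group G] [Finite G] {z : G} (S : Setup z)

theorem GoodT.form {q : G × G} (h : S.GoodT q) :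
    (∃ σ : M24, (σ * σ = 1 ∧ actG σ (pairNo 0 1) = pairNo 0 1) ∧ S.Over σ q.1) ∧
      ∃ τ : M24, (τ * τ = 1 ∧ actG τ (pairNo 0 1) = pairNo 0 1) ∧ S.Over τ q.2 := by
  obtain ⟨hu, hv, hp⟩ := h
  obtain ⟨g, hg⟩ := isConj_iff.mp hu
  obtain ⟨g', hg'⟩ := isConj_iff.mp hv
  have ou : orderOf q.1 = 2 := by rw [← hg, order_conj, z_invol S]
  have ov : orderOf q.2 = 2 := by rw [← hg', order_conj, tt_invol S]
  have ht2 : S.tt * S.tt = 1 := S.F.b_sq (cd_lt _)
  have key : ∀ x : G, orderOf x = 2 → x * S.tt = S.tt * x →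
      ∃ σ : M24, (σ * σ = 1 ∧ actG σ (pairNo 0 1) = pairNo 0 1) ∧ S.Over σ x := by
    intro x ox hx
    obtain ⟨i, hi, σ, rfl⟩ := S.F.form ((S.F.pair_out 1 (by norm_num) 0 (by norm_num)).2
      (Subgroup.mem_centralizer_singleton_iff.mpr hx))
    exact ⟨σ, ⟨(invol_form S ox hi rfl).1, (S.F.comm_iff σ hi (cd_lt _)).mp hx⟩, i, hi, rfl⟩
  obtain ⟨k, hk⟩ := hp
  have hk' : (q.1 * q.2) ^ k = S.tt := hk
  have sq : ∀ x : G, orderOf x = 2 → x * x = 1 := fun x hx => by rw [← pow_two, ← hx]; exact pow_orderOf_eq_one x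
  have iu : q.1⁻¹ = q.1 := inv_eq_of_mul_eq_one_right (sq _ ou)
  have iv : q.2⁻¹ = q.2 := inv_eq_of_mul_eq_one_right (sq _ ov)
  have hc1 : q.1 * (q.1 * q.2) * q.1⁻¹ = (q.1 * q.2)⁻¹ := by
    rw [mul_inv_rev, iu, iv, ← mul_assoc q.1 q.1 q.2, sq _ ou, one_mul]
  have hc2 : q.2 * (q.1 * q.2) * q.2⁻¹ = (q.1 * q.2)⁻¹ := by
    rw [mul_inv_rev, iu, iv, mul_assoc q.2 (q.1 * q.2) q.2, mul_assoc q.1 q.2 q.2, sq _ ov, mul_one]
  have comm : ∀ x : G, x * (q.1 * q.2) * x⁻¹ = (q.1 * q.2)⁻¹ → x * S.tt = S.tt * x := fun x hx => by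
    rw [← mul_inv_eq_iff_eq_mul, ← hk', ← conj_zpow, hx, inv_zpow, hk']
    exact inv_eq_of_mul_eq_one_right ht2
  exact ⟨key _ ou (comm _ hc1), key _ ov (comm _ hc2)⟩

theorem Over.unique {σ τ : M24} {x : G} (h : S.Over σ x) (h' : S.Over τ x) : σ = τ := by
  obtain ⟨i, hi, rfl⟩ := h
  obtain ⟨j, hj, e⟩ := h'
  exact (S.F.form_inj hi hj e).2

/-- The counted pairs split by the two elements of the Mathieu group. -/
theorem card_goodT (U : Finset M24) (hU : ∀ σ : M24, σ ∈ U ↔ σ * σ = 1 ∧ actG σ (pairNo 0 1) = pairNo 0 1) :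
    Nat.card {q : G × G // S.GoodT q} = ∑ σ ∈ U, ∑ τ ∈ U, S.fT σ τ := by
  classical
  haveI := Fintype.ofFinite G
  rw [← Finset.sum_product', Nat.card_eq_fintype_card, Fintype.card_subtype]
  have hfib : ∀ p : M24 × M24, S.fT p.1 p.2 =
      ((Finset.univ.filter fun q => S.GoodT q).filter fun q => S.Over p.1 q.1 ∧ S.Over p.2 q.2).card := fun p => by
    rw [Setup.fT, Nat.card_eq_fintype_card, Fintype.card_subtype, Finset.filter_filter]
  rw [Finset.sum_congr rfl (fun p _ => hfib p), ← Finset.card_biUnion]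
  · refine congrArg Finset.card ?_
    ext q
    simp only [Finset.mem_biUnion, Finset.mem_filter, Finset.mem_univ, true_and, Finset.mem_product]
    refine ⟨fun h => ?_, fun ⟨_, _, h, _⟩ => h⟩
    obtain ⟨⟨σ, hσ, h1⟩, τ, hτ, h2⟩ := GoodT.form S h
    exact ⟨(σ, τ), ⟨(hU σ).mpr hσ, (hU τ).mpr hτ⟩, h, h1, h2⟩
  · intro p _ p' _ hne
    show Disjoint _ _
    rw [Finset.disjoint_left]
    intro q h h'
    simp only [Finset.mem_filter] at h h'
    exact hne (Prod.ext (Over.unique S h.2.1 h'.2.1) (Over.unique S h.2.2 h'.2.2))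

/-- The value is unchanged under conjugation by an element fixing the pair. -/
theorem fT_conj (g : M24) (hg : actG g (pairNo 0 1) = pairNo 0 1) (σ τ : M24) :
    S.fT (g * σ * g⁻¹) (g * τ * g⁻¹) = S.fT σ τ := by
  symm
  set k := S.F.kap g with hk
  have hkt : k * S.tt * k⁻¹ = S.tt := by
    show S.F.kap g * S.F.b (pairNo 0 1) * (S.F.kap g)⁻¹ = _
    rw [S.F.b_conj g (pairNo 0 1) (cd_lt _)]
    exact congrArg S.F.b hg
  have hov : ∀ (ρ : M24) (x : G), S.Over ρ x ↔ S.Over (g * ρ * g⁻¹) (k * x * k⁻¹) := by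
    intro ρ x
    constructor
    · rintro ⟨i, hi, rfl⟩
      exact ⟨actG g i, act_lt _ _, S.F.conj_kap g ρ hi⟩
    · rintro ⟨i, hi, e⟩
      refine ⟨actG g⁻¹ i, act_lt _ _, ?_⟩
      have h := S.F.conj_kap g⁻¹ (g * ρ * g⁻¹) hi
      rw [show g⁻¹ * (g * ρ * g⁻¹) * g⁻¹⁻¹ = ρ by group, ← e, map_inv, ← hk] at h
      rw [← h]
      group
  have hgood : ∀ q : G × G, S.GoodT q ↔ S.GoodT (k * q.1 * k⁻¹, k * q.2 * k⁻¹) := by
    intro q
    refine and_congr (conj_z_iff k _).symm (and_congr (conj_z_iff (z := S.tt) k _).symm ?_)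
    show _ ↔ S.tt ∈ Subgroup.zpowers (k * q.1 * k⁻¹ * (k * q.2 * k⁻¹))
    rw [show k * q.1 * k⁻¹ * (k * q.2 * k⁻¹) = k * (q.1 * q.2) * k⁻¹ by group, Subgroup.mem_zpowers_iff,
      Subgroup.mem_zpowers_iff]
    refine exists_congr fun n => ?_
    rw [conj_zpow]
    exact ⟨fun h => by rw [h, hkt], fun h => mul_left_cancel (mul_right_cancel (h.trans hkt.symm))⟩
  exact Nat.card_congr (Equiv.subtypeEquiv ((MulAut.conj k).toEquiv.prodCongr (MulAut.conj k).toEquiv)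
    fun q => and_congr (hgood q) (and_congr (hov σ q.1) (hov τ q.2)))

theorem colsX_eq {ρ M : M24} (m : ℕ) :
    colsX (toList ρ.1) m (toList M.1) = (List.range 11).map fun k => Nsum ρ m (actG M⁻¹ (2 ^ k)) := by
  refine List.map_congr_left fun k _ => ?_
  rw [Nsum_eq, ← toList_inv]
  rfl

theorem colsY_eq {ρ σ M : M24} (m : ℕ) :
    colsY (toList ρ.1) m (toList σ.1) (toList M.1) =
      (List.range 11).map fun k => Nsum ρ m (actG σ (actG M⁻¹ (2 ^ k))) := by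
  refine List.map_congr_left fun k _ => ?_
  rw [Nsum_eq]
  show _ = NsumL (toList ρ.1) m (act (toList σ.1) (act (toList (M⁻¹ : M24).1) (2 ^ k)))
  rw [Subgroup.coe_inv, toList_inv]

include S in
theorem Nsum_xor (ρ : M24) : ∀ m, ∀ x < 2048, ∀ y < 2048, Nsum ρ m (x ^^^ y) = Nsum ρ m x ^^^ Nsum ρ m y
  | 0, _, _, _, _ => (Nat.xor_self 0).symm
  | m + 1, x, hx, y, hy => by
    show (x ^^^ y) ^^^ actG ρ (Nsum ρ m (x ^^^ y)) = (x ^^^ actG ρ (Nsum ρ m x)) ^^^ (y ^^^ actG ρ (Nsum ρ m y))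
    rw [Nsum_xor ρ m x hx y hy, S.F.act_xor ρ (Nsum_lt ρ hx m) (Nsum_lt ρ hy m)]
    ac_rfl

/-- The value of a pair with a checked entry. -/
theorem fT_eq (hs : S.SplitFacts) (hz2 : S.rootZ 2) {A B : List ℕ}
    {c : ℕ × List ℕ × ℕ × List ℕ × ℕ × List ℕ × List ℕ × ℕ} (h : pairOK A B c = true) :
    S.fT (ofList A) (ofList B) = c.2.2.2.2.2.2.2 := by
  classical
  obtain ⟨k, M, l, N, m, cX, cY, v⟩ := c
  simp only [pairOK, Bool.and_eq_true, decide_eq_true_eq, beq_iff_eq, List.all_eq_true, List.mem_range,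
    Bool.or_eq_true, bne_iff_ne] at h
  obtain ⟨⟨⟨⟨⟨⟨⟨⟨⟨⟨⟨⟨⟨hk, hl⟩, gA⟩, gB⟩, gM⟩, gN⟩, cA⟩, cB⟩, hm⟩, hpow⟩, hmin⟩, hcX⟩, hcY⟩, hv⟩ := h
  show S.fT (ofList A) (ofList B) = v
  set σ := ofList A with hσd
  set τ := ofList B with hτd
  set n := ofList M with hnd
  set n' := ofList N with hn'd
  have eA : toList σ.1 = A := toList_ofList gA
  have eB : toList τ.1 = B := toList_ofList gB
  have hn : n * σ * n⁻¹ = repM k := by
    rw [mul_inv_eq_iff_eq_mul]
    exact conjB_iff.mp (by rw [eA, repM_list hk, toList_ofList gM]; exact cA)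
  have hn' : n' * τ * n'⁻¹ = repM l := by
    rw [mul_inv_eq_iff_eq_mul]
    exact conjB_iff.mp (by rw [eB, repM_list hl, toList_ofList gN]; exact cB)
  have eR : toList (σ * τ).1 = compL A B := by rw [Subgroup.coe_mul, toList_mul, eA, eB]
  have hord : orderOf (σ * τ) = m := by
    refine (orderOf_eq_iff hm).mpr ⟨toList_coe_injective ?_, fun j hj h0 e => ?_⟩
    · show toList ((σ * τ) ^ m : M24).1 = toList (1 : Equiv.Perm GolayPt)
      rw [SubgroupClass.coe_pow, toList_pow, eR, hpow, toList_one]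
    · refine (hmin j hj).elim (fun h => h0.ne' h) fun h => h ?_
      rw [← eR, ← toList_pow, ← SubgroupClass.coe_pow, e]
      exact toList_one
  set fX : ℕ → ℕ := fun a => Nsum (σ * τ) m (actG n⁻¹ a) with hfX
  set fY : ℕ → ℕ := fun a => Nsum (σ * τ) m (actG σ (actG n'⁻¹ a)) with hfY
  have hX : ∀ a < 2048, comb cX a = fX a := by
    intro a ha
    rw [hcX, ← eR, ← toList_ofList gM, ← hnd, colsX_eq]
    exact comb_linear 11 fX (fun x hx y hy => by
      show Nsum _ m (actG n⁻¹ (x ^^^ y)) = _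
      rw [S.F.act_xor _ hx hy, Nsum_xor S _ m _ (act_lt _ _) _ (act_lt _ _)]) a ha
  have hY : ∀ a < 2048, comb cY a = fY a := by
    intro a ha
    rw [hcY, ← eR, ← toList_ofList gN, ← hn'd, ← eA, colsY_eq]
    exact comb_linear 11 fY (fun x hx y hy => by
      show Nsum _ m (actG σ (actG n'⁻¹ (x ^^^ y))) = _
      rw [S.F.act_xor _ hx hy, S.F.act_xor _ (act_lt _ _) (act_lt _ _),
        Nsum_xor S _ m _ (act_lt _ _) _ (act_lt _ _)]) a ha
  obtain ⟨hzn, -, hzl, -⟩ := fix_nodup_lt k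
  obtain ⟨-, htn, -, htl⟩ := fix_nodup_lt l
  have hp : tP < 2048 := by rw [← ck_tP.1]; exact cd_lt _
  rw [← hv, pairCount, List.map_congr_left (g := fun a => Nat.xor tP (fX a)) (fun a ha => by rw [hX a (hzl a ha)]),
    List.map_congr_left (g := fY) (fun a ha => hY a (htl a ha)),
    joinCount_card 11 (zFix k) (tFix l) (fun a => Nat.xor tP (fX a)) fY hzn htn (fun a ha => xor_lt hp (Nsum_lt _ (act_lt _ _) _))
      (fun a _ => Nsum_lt _ (act_lt _ _) _)]
  haveI := Fintype.ofFinite G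
  rw [Setup.fT, Nat.card_eq_fintype_card, Fintype.card_subtype]
  symm
  have back : ∀ (ρ : M24) {i : ℕ}, i < 2048 → actG ρ⁻¹ (actG ρ i) = i := fun ρ i hi => by
    rw [← S.F.act_mul _ _ hi, inv_mul_cancel, S.F.act_one hi]
  have fwd : ∀ (ρ : M24) {i : ℕ}, i < 2048 → actG ρ (actG ρ⁻¹ i) = i := fun ρ i hi => by
    rw [← S.F.act_mul _ _ hi, mul_inv_cancel, S.F.act_one hi]
  have cond : ∀ i < 2048, ∀ j < 2048,
      (S.tt ∈ Subgroup.zpowers (S.F.b i * S.F.kap σ * (S.F.b j * S.F.kap τ)) ↔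
        Nat.xor tP (Nsum (σ * τ) m i) = Nsum (σ * τ) m (actG σ j)) := by
    intro i hi j hj
    rw [Setup.tt, ck_tP.1, pair_zpowers_iff S.F σ τ hi hj hp ck_tP.2 hord]
    show Nsum _ m (i ^^^ actG σ j) = tP ↔ tP ^^^ Nsum (σ * τ) m i = Nsum (σ * τ) m (actG σ j)
    rw [Nsum_xor S _ m i hi _ (act_lt _ _)]
    constructor <;> intro h <;> rw [← h] <;> simp [Nat.xor_assoc, Nat.xor_comm]
  refine Finset.card_bij (fun a _ => (S.F.b (actG n⁻¹ a.1) * S.F.kap σ, S.F.b (actG n'⁻¹ a.2) * S.F.kap τ))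
    (fun a ha => ?_) (fun a ha a' ha' e => ?_) (fun q hq => ?_)
  · simp only [Finset.mem_filter, Finset.mem_product, List.mem_toFinset] at ha
    obtain ⟨⟨h1, h2⟩, h3⟩ := ha
    refine Finset.mem_filter.mpr ⟨Finset.mem_univ _, ⟨?_, ?_, ?_⟩, ⟨_, act_lt _ _, rfl⟩, ⟨_, act_lt _ _, rfl⟩⟩
    · exact (over_iff hs hz2 (act_lt _ _) hn).1.mpr (by rw [fwd n (hzl _ h1)]; exact h1)
    · exact (over_iff hs hz2 (act_lt _ _) hn').2.mpr (by rw [fwd n' (htl _ h2)]; exact h2)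
    · exact (cond _ (act_lt _ _) _ (act_lt _ _)).mpr h3
  · simp only [Finset.mem_filter, Finset.mem_product, List.mem_toFinset] at ha ha'
    have e1 := (S.F.form_inj (act_lt _ _) (act_lt _ _) (Prod.ext_iff.mp e).1).1
    have e2 := (S.F.form_inj (act_lt _ _) (act_lt _ _) (Prod.ext_iff.mp e).2).1
    exact Prod.ext ((fwd n (hzl _ ha.1.1)).symm.trans ((congrArg (actG n) e1).trans (fwd n (hzl _ ha'.1.1))))
      ((fwd n' (htl _ ha.1.2)).symm.trans ((congrArg (actG n') e2).trans (fwd n' (htl _ ha'.1.2))))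
  · obtain ⟨⟨g1, g2, g3⟩, ⟨i, hi, e1⟩, ⟨j, hj, e2⟩⟩ := (Finset.mem_filter.mp hq).2
    rw [e1] at g1 g3
    rw [e2] at g2 g3
    refine ⟨(actG n i, actG n' j), ?_, ?_⟩
    · simp only [Finset.mem_filter, Finset.mem_product, List.mem_toFinset]
      refine ⟨⟨(over_iff hs hz2 hi hn).1.mp g1, (over_iff hs hz2 hj hn').2.mp g2⟩, ?_⟩
      show Nat.xor tP (Nsum _ m (actG n⁻¹ (actG n i))) = Nsum _ m (actG σ (actG n'⁻¹ (actG n' j)))
      rw [back n hi, back n' hj]
      exact (cond i hi j hj).mp g3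
    · show (S.F.b (actG n⁻¹ (actG n i)) * S.F.kap σ, S.F.b (actG n'⁻¹ (actG n' j)) * S.F.kap τ) = q
      rw [back n hi, back n' hj, ← e1, ← e2]

end CfsgLib.J4Order
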