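import Cfsg.Agent.J4Local.Order.OrbitsP
import Cfsg.Agent.J4Local.Order.PairSum

/-!
The number of pairs with the element of the second class among the powers of the product.
-/

set_option autoImplicit false
set_option maxRecDepth 100000

namespace CfsgLib.J4Order

open Cfsg CfsgLib.J4CentT CfsgLib.Golay CfsgLib.Golay.Cert
open scoped Pointwise

/-- Entries for orbit 0 of the first element. -/
def certT0 : List (ℕ × List ℕ × ℕ × List ℕ × ℕ × List ℕ × List ℕ × ℕ) := [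
  (2, [17,14,7,18,16,11,6,5,10,23,9,1,2,12,22,0,13,4,20,3,15,19,8,21], 2, [17,14,7,18,16,11,6,5,10,23,9,1,2,12,22,0,13,4,20,3,15,19,8,21], 1, [1974,1956,811,1716,1543,961,343,1460,2036,1972,1968], [871,33,1140,65,5,1182,1025,1741,257,1354,434], 32),
  (2, [17,14,7,18,16,11,6,5,10,23,9,1,2,12,22,0,13,4,20,3,15,19,8,21], 1, [17,14,21,22,13,11,20,1,5,9,0,19,6,8,18,15,12,4,3,2,23,10,16,7], 2, [398,45,356,206,45,356,398,398,206,398,426], [356,356,426,206,320,426,227,329,320,320,320], 0),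
  (2, [17,14,7,18,16,11,6,5,10,23,9,1,2,12,22,0,13,4,20,3,15,19,8,21], 2, [17,14,21,22,13,11,20,1,5,9,0,19,6,8,18,15,12,4,3,2,23,10,16,7], 3, [1763,1763,989,1141,1763,823,417,1355,1183,1858,1024], [159,159,1960,1183,1342,1858,636,468,468,989,2013], 256),
  (2, [17,14,7,18,16,11,6,5,10,23,9,1,2,12,22,0,13,4,20,3,15,19,8,21], 2, [2,23,1,17,8,5,21,19,13,9,10,22,4,12,14,20,11,3,16,6,15,7,18,0], 2, [1100,1816,1134,852,830,1134,830,1134,1062,1134,106], [886,796,1872,72,1850,1028,1872,0,1850,0,72], 0),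
  (2, [17,14,7,18,16,11,6,5,10,23,9,1,2,12,22,0,13,4,20,3,15,19,8,21], 1, [18,12,11,17,22,3,21,6,23,20,15,2,1,4,5,9,13,14,0,7,10,19,16,8], 4, [1441,1441,1781,0,1441,1781,1441,1781,0,1781,1441], [1781,1441,1441,0,1441,1441,1781,1781,0,1781,1441], 0),
  (2, [17,14,7,18,16,11,6,5,10,23,9,1,2,12,22,0,13,4,20,3,15,19,8,21], 1, [2,23,12,15,6,22,0,11,16,14,21,4,9,5,20,7,17,13,10,1,3,8,19,18], 8, [0,0,1441,0,0,1441,0,1441,0,1441,0], [0,1441,1441,1441,1441,1441,0,1441,1441,1441,1441], 0),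
  (2, [17,14,7,18,16,11,6,5,10,23,9,1,2,12,22,0,13,4,20,3,15,19,8,21], 2, [17,14,7,15,3,23,13,8,10,11,4,1,2,19,0,22,6,9,20,16,18,12,5,21], 5, [234,0,1355,318,318,1441,318,234,1141,468,1141], [234,0,1355,1183,1183,1441,1183,234,468,1141,468], 512),
  (2, [17,14,7,18,16,11,6,5,10,23,9,1,2,12,22,0,13,4,20,3,15,19,8,21], 1, [23,17,20,0,22,19,21,9,12,8,13,1,3,2,6,15,5,14,18,11,7,4,16,10], 6, [218,218,0,234,218,0,218,234,234,234,218], [234,234,218,0,218,0,234,218,234,234,218], 0),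
  (2, [17,14,7,18,16,11,6,5,10,23,9,1,2,12,22,0,13,4,20,3,15,19,8,21], 2, [3,5,14,0,22,1,7,21,11,15,9,12,18,4,2,20,13,23,8,6,10,19,16,17], 4, [1441,1441,723,0,1441,723,1441,723,0,723,1441], [1441,0,1906,1441,0,1906,1441,1906,1441,1906,0], 0),
  (2, [17,14,7,18,16,11,6,5,10,23,9,1,2,12,22,0,13,4,20,3,15,19,8,21], 1, [13,4,11,16,7,18,14,17,19,1,2,20,10,9,12,5,15,22,6,0,3,23,21,8], 4, [1441,1441,391,0,1441,391,1441,391,0,391,1441], [1062,0,0,1062,1062,0,1062,391,391,1062,1062], 0),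
  (2, [17,14,7,18,16,11,6,5,10,23,9,1,2,12,22,0,13,4,20,3,15,19,8,21], 2, [21,7,10,22,3,13,15,6,12,2,18,23,1,16,17,0,14,5,8,19,11,20,4,9], 2, [958,1567,1980,1441,1567,1980,569,1980,1062,1980,1944], [1441,958,1944,1980,569,1567,1062,1980,1980,1980,958], 0),
  (2, [17,14,7,18,16,11,6,5,10,23,9,1,2,12,22,0,13,4,20,3,15,19,8,21], 2, [13,4,15,1,18,19,16,22,14,6,21,8,5,11,7,0,3,2,12,9,23,10,17,20], 4, [0,0,1702,0,0,1702,1441,1702,1441,1702,1441], [1441,775,1441,775,775,0,0,1441,775,0,775], 0),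
  (2, [17,14,7,18,16,11,6,5,10,23,9,1,2,12,22,0,13,4,20,3,15,19,8,21], 1, [11,8,13,10,9,20,12,22,14,5,2,0,23,21,6,3,15,19,17,16,1,18,7,4], 2, [340,1953,1973,1781,1574,1973,340,1973,1781,1973,1953], [1973,1973,1906,1574,1973,1781,1973,1953,340,211,1973], 0),
  (2, [17,14,7,18,16,11,6,5,10,23,9,1,2,12,22,0,13,4,20,3,15,19,8,21], 1, [5,23,18,17,14,2,0,13,11,8,20,10,21,15,19,16,1,6,22,4,7,3,9,12], 4, [1062,1062,1441,0,1062,1441,1062,1441,0,1441,1062], [0,0,391,391,1441,391,0,391,1441,1441,1441], 0),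
  (2, [17,14,7,18,16,11,6,5,10,23,9,1,2,12,22,0,13,4,20,3,15,19,8,21], 1, [1,0,11,16,13,19,9,3,5,10,17,4,12,15,21,7,20,18,14,2,23,6,8,22], 2, [1430,1925,1918,1748,1583,1918,1084,1430,1748,916,426], [1748,1918,0,1258,1344,391,337,834,1748,251,744], 0),
  (2, [17,14,7,18,16,11,6,5,10,23,9,1,2,12,22,0,13,4,20,3,15,19,8,21], 2, [13,4,12,19,21,9,3,1,2,14,0,7,8,17,15,10,5,18,23,22,16,20,11,6], 6, [1960,1960,1024,1024,1960,1024,1960,1960,1024,0,0], [1024,0,936,936,0,1024,936,1024,1024,1024,0], 0),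
  (2, [17,14,7,18,16,11,6,5,10,23,9,1,2,12,22,0,13,4,20,3,15,19,8,21], 2, [13,4,11,18,7,16,23,0,20,2,1,19,6,9,22,3,15,12,10,17,5,14,21,8], 11, [0,234,0,0,234,234,234,0,234,0,0], [234,0,234,0,0,0,0,234,234,234,234], 1024),
  (2, [17,14,7,18,16,11,6,5,10,23,9,1,2,12,22,0,13,4,20,3,15,19,8,21], 1, [14,23,16,12,4,0,2,1,21,5,3,11,8,7,17,10,15,22,9,20,6,19,13,18], 12, [931,931,0,931,931,0,931,931,931,931,931], [931,931,0,931,931,931,931,931,0,931,931], 0),
  (2, [17,14,7,18,16,11,6,5,10,23,9,1,2,12,22,0,13,4,20,3,15,19,8,21], 1, [23,17,9,16,14,8,19,10,3,2,1,0,13,6,4,21,5,7,20,12,18,15,11,22], 4, [0,0,1538,1538,0,1538,0,0,1538,0,0], [0,1538,1538,1538,1538,0,0,1538,0,1538,1538], 0),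
  (2, [17,14,7,18,16,11,6,5,10,23,9,1,2,12,22,0,13,4,20,3,15,19,8,21], 2, [13,4,8,12,21,18,10,19,23,3,1,17,0,15,16,2,7,22,14,6,5,20,9,11], 4, [391,1249,1249,0,1249,1249,391,391,0,391,1249], [391,1249,0,391,1249,0,391,1249,391,1249,1249], 0),
  (2, [17,14,7,18,16,11,6,5,10,23,9,1,2,12,22,0,13,4,20,3,15,19,8,21], 1, [0,23,22,8,2,16,10,17,19,4,15,12,6,21,3,9,14,5,13,1,18,7,20,11], 4, [0,1382,1382,0,1382,1382,0,0,0,0,1382], [1382,1382,0,1382,1382,0,1382,1382,1382,1382,1382], 0),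
  (2, [17,14,7,18,16,11,6,5,10,23,9,1,2,12,22,0,13,4,20,3,15,19,8,21], 1, [1,23,0,18,5,8,3,22,17,7,20,9,6,10,2,13,19,11,4,15,14,21,16,12], 10, [0,0,0,349,349,0,349,0,349,349,349], [349,349,349,349,349,0,349,0,0,0,349], 0),
  (2, [17,14,7,18,16,11,6,5,10,23,9,1,2,12,22,0,13,4,20,3,15,19,8,21], 1, [19,6,12,4,10,15,0,23,2,5,3,20,21,17,9,16,1,18,14,11,8,22,7,13], 8, [0,0,45,45,0,45,0,0,45,0,0], [45,45,0,45,45,45,45,0,45,45,45], 0),
  (2, [17,14,7,18,16,11,6,5,10,23,9,1,2,12,22,0,13,4,20,3,15,19,8,21], 1, [4,13,2,22,19,23,3,12,17,18,5,7,10,14,0,20,8,1,11,21,6,15,9,16], 6, [868,199,0,199,199,0,868,868,199,868,199], [868,868,0,0,0,931,868,931,868,868,0], 0),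
  (2, [17,14,7,18,16,11,6,5,10,23,9,1,2,12,22,0,13,4,20,3,15,19,8,21], 1, [2,3,22,15,20,18,7,0,1,6,5,19,4,9,8,13,10,11,14,17,23,16,12,21], 2, [958,1960,1878,1788,1583,1878,569,1468,1788,1468,1960], [1221,1915,0,1346,711,45,1346,1788,340,711,832], 0),
  (2, [17,14,7,18,16,11,6,5,10,23,9,1,2,12,22,0,13,4,20,3,15,19,8,21], 0, [0,1,2,3,4,5,6,7,8,9,10,11,12,13,14,15,16,17,18,19,20,21,22,23], 2, [1233,1925,1887,1781,1538,1887,1366,889,1781,766,1538], [766,1583,1276,889,1403,1403,1035,1062,1035,391,1960], 0)]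

/-- Entries for orbit 1 of the first element. -/
def certT1 : List (ℕ × List ℕ × ℕ × List ℕ × ℕ × List ℕ × List ℕ × ℕ) := [
  (1, [17,14,21,22,13,11,20,1,5,9,0,19,6,8,18,15,12,4,3,2,23,10,16,7], 2, [17,14,7,18,16,11,6,5,10,23,9,1,2,12,22,0,13,4,20,3,15,19,8,21], 2, [227,227,426,329,320,426,356,206,320,320,320], [9,45,227,329,45,227,9,9,329,9,426], 0),
  (1, [17,14,21,22,13,11,20,1,5,9,0,19,6,8,18,15,12,4,3,2,23,10,16,7], 1, [17,14,21,22,13,11,20,1,5,9,0,19,6,8,18,15,12,4,3,2,23,10,16,7], 1, [272,179,1439,264,1280,1397,260,1850,1996,1099,2019], [260,288,1439,1716,2019,1397,272,257,768,256,1280], 16),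
  (1, [17,14,21,22,13,11,20,1,5,9,0,19,6,8,18,15,12,4,3,2,23,10,16,7], 2, [2,23,1,17,8,5,21,19,13,9,10,22,4,12,14,20,11,3,16,6,15,7,18,0], 4, [391,391,1441,0,391,1441,391,0,1441,1441,391], [1062,1441,1062,1441,1441,1062,1062,0,1441,0,1441], 0),
  (1, [17,14,21,22,13,11,20,1,5,9,0,19,6,8,18,15,12,4,3,2,23,10,16,7], 1, [18,12,11,17,22,3,21,6,23,20,15,2,1,4,5,9,13,14,0,7,10,19,16,8], 4, [1745,1745,1441,0,1745,1441,1745,1441,0,1441,1745], [0,880,880,1441,880,880,0,1441,1441,1441,880], 0),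
  (1, [17,14,21,22,13,11,20,1,5,9,0,19,6,8,18,15,12,4,3,2,23,10,16,7], 1, [2,23,12,15,6,22,0,11,16,14,21,4,9,5,20,7,17,13,10,1,3,8,19,18], 3, [340,106,1439,1441,1313,1397,340,106,1057,1099,106], [1183,1525,62,190,1057,1227,468,1525,1227,62,1057], 128),
  (1, [17,14,21,22,13,11,20,1,5,9,0,19,6,8,18,15,12,4,3,2,23,10,16,7], 2, [17,14,7,15,3,23,13,8,10,11,4,1,2,19,0,22,6,9,20,16,18,12,5,21], 6, [237,7,7,0,7,7,237,237,0,237,7], [237,237,234,234,237,234,237,0,234,0,237], 0),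
  (1, [17,14,21,22,13,11,20,1,5,9,0,19,6,8,18,15,12,4,3,2,23,10,16,7], 1, [23,17,20,0,22,19,21,9,12,8,13,1,3,2,6,15,5,14,18,11,7,4,16,10], 4, [1441,1441,1745,0,1441,1745,1441,1745,0,1745,1441], [0,1745,880,1745,880,0,0,880,0,1745,880], 0),
  (1, [17,14,21,22,13,11,20,1,5,9,0,19,6,8,18,15,12,4,3,2,23,10,16,7], 1, [1,2,12,13,22,14,20,7,0,10,21,8,11,3,17,15,5,4,23,6,19,9,16,18], 2, [404,1744,384,1860,1440,384,404,384,1860,384,1744], [0,1056,868,1460,1872,20,0,384,1460,752,1056], 0),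
  (1, [17,14,21,22,13,11,20,1,5,9,0,19,6,8,18,15,12,4,3,2,23,10,16,7], 1, [13,4,11,16,7,18,14,17,19,1,2,20,10,9,12,5,15,22,6,0,3,23,21,8], 2, [886,1872,234,1980,1056,234,6,0,1228,0,1872], [1978,1062,0,1226,236,1228,1226,1878,1228,924,924], 0),
  (1, [17,14,21,22,13,11,20,1,5,9,0,19,6,8,18,15,12,4,3,2,23,10,16,7], 1, [17,14,7,18,16,11,6,5,10,23,9,1,2,12,22,0,13,4,20,3,15,19,8,21], 2, [958,958,541,1441,1567,541,569,1062,541,541,1944], [569,1944,1980,1441,1944,1980,958,1980,1062,1980,1567], 0),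
  (1, [17,14,21,22,13,11,20,1,5,9,0,19,6,8,18,15,12,4,3,2,23,10,16,7], 2, [14,17,10,1,18,23,7,19,3,2,22,20,5,12,13,4,6,16,15,11,0,8,21,9], 8, [0,0,1441,0,0,1441,0,1441,0,1441,0], [0,0,1441,1441,0,1441,0,0,1441,0,0], 0),
  (1, [17,14,21,22,13,11,20,1,5,9,0,19,6,8,18,15,12,4,3,2,23,10,16,7], 1, [16,22,4,3,2,17,7,6,12,15,10,11,8,23,14,9,0,5,18,19,20,21,1,13], 2, [521,910,759,541,254,759,521,541,541,541,254], [254,868,880,868,910,0,254,521,377,868,910], 0),
  (1, [17,14,21,22,13,11,20,1,5,9,0,19,6,8,18,15,12,4,3,2,23,10,16,7], 2, [5,3,8,22,9,11,13,19,14,10,17,20,2,4,23,1,15,0,21,6,7,12,18,16], 2, [337,251,426,251,1344,426,1918,1918,1258,744,744], [1467,531,214,1583,953,214,953,380,0,337,1041], 0),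
  (1, [17,14,21,22,13,11,20,1,5,9,0,19,6,8,18,15,12,4,3,2,23,10,16,7], 1, [1,0,11,16,13,19,9,3,5,10,17,4,12,15,21,7,20,18,14,2,23,6,8,22], 2, [24,434,0,24,1024,0,1968,1562,1450,936,936], [1562,1562,0,1450,1024,0,434,514,1968,24,936], 0),
  (1, [17,14,21,22,13,11,20,1,5,9,0,19,6,8,18,15,12,4,3,2,23,10,16,7], 2, [22,16,21,2,9,12,13,11,1,18,4,14,5,0,8,20,6,19,7,15,3,17,10,23], 12, [339,339,0,339,339,0,339,0,0,339,339], [0,339,339,0,339,339,0,0,0,0,339], 0),
  (1, [17,14,21,22,13,11,20,1,5,9,0,19,6,8,18,15,12,4,3,2,23,10,16,7], 2, [6,19,12,4,5,18,22,0,21,17,7,14,20,16,9,10,3,15,2,23,1,11,8,13], 4, [1538,1538,0,1538,1538,0,1538,1538,1538,1538,1538], [1538,1538,1538,1538,1538,1538,1538,0,1538,0,1538], 0),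
  (1, [17,14,21,22,13,11,20,1,5,9,0,19,6,8,18,15,12,4,3,2,23,10,16,7], 1, [23,17,9,16,14,8,19,10,3,2,1,0,13,6,4,21,5,7,20,12,18,15,11,22], 4, [1583,1583,0,1583,1538,0,1583,1583,1538,1538,1538], [0,1583,1583,1538,1538,0,0,1538,0,1583,1538], 0),
  (1, [17,14,21,22,13,11,20,1,5,9,0,19,6,8,18,15,12,4,3,2,23,10,16,7], 2, [3,5,16,18,2,15,19,12,23,17,1,0,22,21,4,10,14,9,11,6,7,13,20,8], 10, [327,327,0,327,0,0,327,0,327,0,0], [0,0,0,327,327,0,327,0,327,327,327], 0),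
  (1, [17,14,21,22,13,11,20,1,5,9,0,19,6,8,18,15,12,4,3,2,23,10,16,7], 2, [13,4,8,12,21,18,10,19,23,3,1,17,0,15,16,2,7,22,14,6,5,20,9,11], 4, [1382,1382,1382,0,0,1382,1382,0,0,0,0], [0,1382,0,0,1382,0,0,1382,0,1382,1382], 0),
  (1, [17,14,21,22,13,11,20,1,5,9,0,19,6,8,18,15,12,4,3,2,23,10,16,7], 1, [0,23,22,8,2,16,10,17,19,4,15,12,6,21,3,9,14,5,13,1,18,7,20,11], 4, [1249,1249,1249,0,391,1249,1249,0,391,391,391], [1249,1249,0,1249,1382,0,1249,1249,1382,1382,1382], 0),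
  (1, [17,14,21,22,13,11,20,1,5,9,0,19,6,8,18,15,12,4,3,2,23,10,16,7], 1, [1,23,0,18,5,8,3,22,17,7,20,9,6,10,2,13,19,11,4,15,14,21,16,12], 5, [1967,234,1439,560,1861,1397,1967,1967,560,1861,1861], [730,1967,1439,560,730,1861,730,560,1397,1967,730], 256),
  (1, [17,14,21,22,13,11,20,1,5,9,0,19,6,8,18,15,12,4,3,2,23,10,16,7], 1, [19,6,12,4,10,15,0,23,2,5,3,20,21,17,9,16,1,18,14,11,8,22,7,13], 4, [880,538,0,880,538,0,880,538,880,538,538], [538,538,0,880,880,880,538,0,538,538,880], 0),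
  (1, [17,14,21,22,13,11,20,1,5,9,0,19,6,8,18,15,12,4,3,2,23,10,16,7], 1, [4,13,2,22,3,1,20,18,10,8,9,17,7,15,23,19,12,0,11,5,14,6,21,16], 6, [0,403,234,234,403,234,0,403,234,403,403], [0,234,0,0,403,403,0,234,234,403,403], 0),
  (1, [17,14,21,22,13,11,20,1,5,9,0,19,6,8,18,15,12,4,3,2,23,10,16,7], 1, [0,1,23,16,5,4,21,12,11,8,19,17,10,18,13,14,6,2,7,15,9,3,20,22], 6, [0,19,384,384,19,384,0,19,384,19,19], [19,19,403,19,0,0,19,19,0,403,0], 0),
  (1, [17,14,21,22,13,11,20,1,5,9,0,19,6,8,18,15,12,4,3,2,23,10,16,7], 1, [0,23,22,8,4,3,21,20,19,7,10,13,12,15,5,1,9,16,6,14,17,2,18,11], 4, [880,538,0,880,538,0,880,538,880,538,538], [538,538,0,880,538,0,538,0,0,880,538], 0),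
  (1, [17,14,21,22,13,11,20,1,5,9,0,19,6,8,18,15,12,4,3,2,23,10,16,7], 1, [6,19,1,22,12,23,13,9,7,8,21,18,5,4,17,14,11,3,15,20,10,0,2,16], 4, [1960,1960,0,1960,1960,0,1960,1960,1960,1960,1960], [0,0,0,1960,0,0,0,1960,1960,1960,0], 0),
  (1, [17,14,21,22,13,11,20,1,5,9,0,19,6,8,18,15,12,4,3,2,23,10,16,7], 1, [19,6,12,20,1,21,4,15,11,5,8,0,23,10,2,3,17,14,22,9,16,18,7,13], 2, [340,211,426,1788,1346,426,340,1915,711,711,1221], [1083,1468,1960,1878,1915,1583,1468,1745,569,569,1915], 0),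
  (1, [17,14,21,22,13,11,20,1,5,9,0,19,6,8,18,15,12,4,3,2,23,10,16,7], 1, [2,3,22,15,20,18,7,0,1,6,5,19,4,9,8,13,10,11,14,17,23,16,12,21], 2, [48,439,0,1586,1026,0,439,1586,903,903,1413], [1413,1973,0,1026,903,0,1026,1973,48,903,512], 0),
  (1, [17,14,21,22,13,11,20,1,5,9,0,19,6,8,18,15,12,4,3,2,23,10,16,7], 2, [13,4,11,6,9,19,18,16,14,1,3,0,23,21,10,2,15,20,17,22,5,12,7,8], 2, [958,958,759,1071,1403,759,569,1071,410,410,1276], [1461,1752,1448,1558,1887,1448,1074,211,1937,340,1887], 0),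
  (1, [17,14,21,22,13,11,20,1,5,9,0,19,6,8,18,15,12,4,3,2,23,10,16,7], 1, [2,5,4,22,17,14,12,7,16,19,1,13,6,3,8,9,21,23,20,11,0,15,10,18], 4, [377,0,0,910,377,0,377,910,910,910,377], [910,910,0,910,377,0,910,910,377,377,377], 0),
  (1, [17,14,21,22,13,11,20,1,5,9,0,19,6,8,18,15,12,4,3,2,23,10,16,7], 0, [0,1,2,3,4,5,6,7,8,9,10,11,12,13,14,15,16,17,18,19,20,21,22,23], 2, [20,403,0,1980,739,0,20,1595,1228,1355,739], [880,1583,1375,759,1375,1240,1355,1355,1355,391,1960], 0)]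

/-- Entries for orbit 2 of the first element. -/
def certT2 : List (ℕ × List ℕ × ℕ × List ℕ × ℕ × List ℕ × List ℕ × ℕ) := [
  (1, [18,12,11,17,22,3,21,6,23,20,15,2,1,4,5,9,13,14,0,7,10,19,16,8], 2, [17,14,7,18,16,11,6,5,10,23,9,1,2,12,22,0,13,4,20,3,15,19,8,21], 4, [1781,1441,1441,0,1441,1441,1781,1781,0,1781,1441], [1441,1441,1781,0,1441,1781,1441,1781,0,1781,1441], 0),
  (1, [18,12,11,17,22,3,21,6,23,20,15,2,1,4,5,9,13,14,0,7,10,19,16,8], 1, [17,14,21,22,13,11,20,1,5,9,0,19,6,8,18,15,12,4,3,2,23,10,16,7], 4, [0,880,880,1441,880,880,0,1441,1441,1441,880], [1745,1745,1441,0,1745,1441,1745,1441,0,1441,1745], 0),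
  (1, [18,12,11,17,22,3,21,6,23,20,15,2,1,4,5,9,13,14,0,7,10,19,16,8], 2, [17,14,21,22,13,11,20,1,5,9,0,19,6,8,18,15,12,4,3,2,23,10,16,7], 4, [0,880,880,1745,880,880,0,1745,1745,1745,880], [1441,1441,1745,0,1441,1745,1441,1745,0,1745,1441], 0),
  (1, [18,12,11,17,22,3,21,6,23,20,15,2,1,4,5,9,13,14,0,7,10,19,16,8], 2, [2,23,1,17,8,5,21,19,13,9,10,22,4,12,14,20,11,3,16,6,15,7,18,0], 2, [987,987,157,454,987,1340,987,347,1127,1274,987], [0,987,1767,1980,1658,1767,0,640,541,640,1658], 0),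
  (1, [18,12,11,17,22,3,21,6,23,20,15,2,1,4,5,9,13,14,0,7,10,19,16,8], 1, [18,12,11,17,22,3,21,6,23,20,15,2,1,4,5,9,13,14,0,7,10,19,16,8], 1, [1861,970,1018,199,2010,1337,1967,474,1134,1302,617], [1967,984,1018,978,617,1337,1861,567,730,858,2010], 0),
  (1, [18,12,11,17,22,3,21,6,23,20,15,2,1,4,5,9,13,14,0,7,10,19,16,8], 1, [2,23,12,15,6,22,0,11,16,14,21,4,9,5,20,7,17,13,10,1,3,8,19,18], 2, [86,174,1702,188,188,1630,86,188,1544,1776,188], [234,1776,1630,1544,86,248,234,234,174,234,86], 0),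
  (1, [18,12,11,17,22,3,21,6,23,20,15,2,1,4,5,9,13,14,0,7,10,19,16,8], 1, [23,17,20,0,22,19,21,9,12,8,13,1,3,2,6,15,5,14,18,11,7,4,16,10], 2, [880,904,922,362,922,922,880,402,738,738,922], [880,738,234,538,234,0,880,904,234,362,234], 512),
  (1, [18,12,11,17,22,3,21,6,23,20,15,2,1,4,5,9,13,14,0,7,10,19,16,8], 1, [13,4,11,16,7,18,14,17,19,1,2,20,10,9,12,5,15,22,6,0,3,23,21,8], 2, [922,922,1369,143,922,1369,922,119,1326,1494,922], [143,1005,1441,1005,1326,0,143,119,1494,1005,1326], 0),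
  (1, [18,12,11,17,22,3,21,6,23,20,15,2,1,4,5,9,13,14,0,7,10,19,16,8], 1, [11,8,13,10,9,20,12,22,14,5,2,0,23,21,6,3,15,19,17,16,1,18,7,4], 2, [0,1040,36,789,1040,1413,0,640,1716,1825,433], [640,0,0,433,1825,0,1825,36,1413,1040,640], 0),
  (1, [18,12,11,17,22,3,21,6,23,20,15,2,1,4,5,9,13,14,0,7,10,19,16,8], 2, [5,3,8,22,9,11,13,19,14,10,17,20,2,4,23,1,15,0,21,6,7,12,18,16], 8, [0,239,0,0,239,239,0,239,239,239,239], [239,239,0,239,239,0,239,239,239,239,239], 0),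
  (1, [18,12,11,17,22,3,21,6,23,20,15,2,1,4,5,9,13,14,0,7,10,19,16,8], 1, [1,0,11,16,13,19,9,3,5,10,17,4,12,15,21,7,20,18,14,2,23,6,8,22], 6, [234,234,33,0,33,33,234,0,234,234,33], [203,203,234,0,203,234,203,234,0,234,203], 1024),
  (1, [18,12,11,17,22,3,21,6,23,20,15,2,1,4,5,9,13,14,0,7,10,19,16,8], 2, [13,4,12,19,21,9,3,1,2,14,0,7,8,17,15,10,5,18,23,22,16,20,11,6], 6, [922,922,955,0,955,955,922,0,922,922,955], [955,922,922,0,922,922,955,955,0,955,922], 0),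
  (1, [18,12,11,17,22,3,21,6,23,20,15,2,1,4,5,9,13,14,0,7,10,19,16,8], 1, [23,0,11,16,7,5,13,12,2,18,4,20,21,1,3,9,17,8,14,19,15,6,10,22], 4, [0,0,904,880,904,904,0,880,880,880,904], [880,880,0,880,904,0,880,880,904,904,904], 0),
  (1, [18,12,11,17,22,3,21,6,23,20,15,2,1,4,5,9,13,14,0,7,10,19,16,8], 1, [19,6,12,4,10,15,0,23,2,5,3,20,21,17,9,16,1,18,14,11,8,22,7,13], 4, [0,0,904,248,904,904,0,248,248,248,904], [880,880,248,248,0,248,880,248,880,880,0], 0),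
  (1, [18,12,11,17,22,3,21,6,23,20,15,2,1,4,5,9,13,14,0,7,10,19,16,8], 1, [4,13,2,22,3,1,20,18,10,8,9,17,7,15,23,19,12,0,11,5,14,6,21,16], 3, [265,1179,1462,1179,36,1598,483,1179,866,0,36], [483,1137,1776,265,940,1598,265,265,1426,1462,940], 0),
  (1, [18,12,11,17,22,3,21,6,23,20,15,2,1,4,5,9,13,14,0,7,10,19,16,8], 1, [2,17,18,22,9,4,10,1,20,8,23,12,21,5,19,3,14,15,11,6,13,0,7,16], 4, [1426,1426,0,1426,0,0,1426,1426,0,0,0], [1426,1426,0,1426,1426,0,1426,1426,1426,1426,1426], 0),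
  (1, [18,12,11,17,22,3,21,6,23,20,15,2,1,4,5,9,13,14,0,7,10,19,16,8], 1, [1,23,10,12,8,13,17,7,19,3,21,18,9,14,4,16,5,15,6,0,2,22,20,11], 2, [880,904,955,647,1946,835,880,647,1326,1494,1890], [51,904,248,203,503,1702,51,880,1042,271,271], 0),
  (1, [18,12,11,17,22,3,21,6,23,20,15,2,1,4,5,9,13,14,0,7,10,19,16,8], 0, [0,1,2,3,4,5,6,7,8,9,10,11,12,13,14,15,16,17,18,19,20,21,22,23], 2, [234,18,0,789,1459,0,234,1005,1716,1612,1459], [1355,1369,1355,1630,1369,1355,1355,775,1023,1702,248], 256)]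

/-- Entries for orbit 3 of the first element. -/
def certT3 : List (ℕ × List ℕ × ℕ × List ℕ × ℕ × List ℕ × List ℕ × ℕ) := [
  (0, [0,1,2,3,4,5,6,7,8,9,10,11,12,13,14,15,16,17,18,19,20,21,22,23], 2, [17,14,7,18,16,11,6,5,10,23,9,1,2,12,22,0,13,4,20,3,15,19,8,21], 2, [766,1583,1276,889,1403,1403,1035,1062,1035,391,1960], [1233,1925,1887,1781,1538,1887,1366,889,1781,766,1538], 0),
  (0, [0,1,2,3,4,5,6,7,8,9,10,11,12,13,14,15,16,17,18,19,20,21,22,23], 1, [17,14,21,22,13,11,20,1,5,9,0,19,6,8,18,15,12,4,3,2,23,10,16,7], 2, [880,1583,1375,759,1375,1240,1355,1355,1355,391,1960], [20,403,0,1980,739,0,20,1595,1228,1355,739], 0),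
  (0, [0,1,2,3,4,5,6,7,8,9,10,11,12,13,14,15,16,17,18,19,20,21,22,23], 1, [18,12,11,17,22,3,21,6,23,20,15,2,1,4,5,9,13,14,0,7,10,19,16,8], 2, [1355,1369,1355,1630,1369,1355,1355,775,1023,1702,248], [234,18,0,789,1459,0,234,1005,1716,1612,1459], 12544),
  (0, [0,1,2,3,4,5,6,7,8,9,10,11,12,13,14,15,16,17,18,19,20,21,22,23], 0, [0,1,2,3,4,5,6,7,8,9,10,11,12,13,14,15,16,17,18,19,20,21,22,23], 1, [1,2,4,8,16,32,64,128,256,512,1024], [1,2,4,8,16,32,64,128,256,512,1024], 231)]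

/-- The entries by orbit. -/
def certT (j : ℕ) : List (ℕ × List ℕ × ℕ × List ℕ × ℕ × List ℕ × List ℕ × ℕ) :=
  [certT0, certT1, certT2, certT3].getD j []

/-- Check of the entry for a pair of orbits. -/
def certOK (j k : ℕ) : Bool :=
  pairOK (unpack24 (tabGet tabP (rootP0.getD j 2872))) (unpack24 (tabGet tabP ((rootS j).getD k 2872)))
    ((certT j).getD k (0, [], 0, [], 0, [], [], 0))

theorem certOK_0_0 : ((List.range 4).all fun d => certOK 0 (0 + d)) = true := by decide +kernel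

theorem certOK_0_1 : ((List.range 4).all fun d => certOK 0 (4 + d)) = true := by decide +kernel

theorem certOK_0_2 : ((List.range 4).all fun d => certOK 0 (8 + d)) = true := by decide +kernel

theorem certOK_0_3 : ((List.range 4).all fun d => certOK 0 (12 + d)) = true := by decide +kernel

theorem certOK_0_4 : ((List.range 4).all fun d => certOK 0 (16 + d)) = true := by decide +kernel

theorem certOK_0_5 : ((List.range 4).all fun d => certOK 0 (20 + d)) = true := by decide +kernel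

theorem certOK_0_6 : ((List.range 2).all fun d => certOK 0 (24 + d)) = true := by decide +kernel

theorem certOK0 : ∀ k < 26, certOK 0 k = true := by
  intro k hk
  by_cases h0 : k < 4
  · have h := List.all_eq_true.mp certOK_0_0 (k - 0) (List.mem_range.mpr (by omega))
    rwa [show 0 + (k - 0) = k by omega] at h
  by_cases h1 : k < 8
  · have h := List.all_eq_true.mp certOK_0_1 (k - 4) (List.mem_range.mpr (by omega))
    rwa [show 4 + (k - 4) = k by omega] at h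
  by_cases h2 : k < 12
  · have h := List.all_eq_true.mp certOK_0_2 (k - 8) (List.mem_range.mpr (by omega))
    rwa [show 8 + (k - 8) = k by omega] at h
  by_cases h3 : k < 16
  · have h := List.all_eq_true.mp certOK_0_3 (k - 12) (List.mem_range.mpr (by omega))
    rwa [show 12 + (k - 12) = k by omega] at h
  by_cases h4 : k < 20
  · have h := List.all_eq_true.mp certOK_0_4 (k - 16) (List.mem_range.mpr (by omega))
    rwa [show 16 + (k - 16) = k by omega] at h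
  by_cases h5 : k < 24
  · have h := List.all_eq_true.mp certOK_0_5 (k - 20) (List.mem_range.mpr (by omega))
    rwa [show 20 + (k - 20) = k by omega] at h
  have h := List.all_eq_true.mp certOK_0_6 (k - 24) (List.mem_range.mpr (by omega))
  rwa [show 24 + (k - 24) = k by omega] at h

theorem certOK_1_0 : ((List.range 4).all fun d => certOK 1 (0 + d)) = true := by decide +kernel

theorem certOK_1_1 : ((List.range 4).all fun d => certOK 1 (4 + d)) = true := by decide +kernel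

theorem certOK_1_2 : ((List.range 4).all fun d => certOK 1 (8 + d)) = true := by decide +kernel

theorem certOK_1_3 : ((List.range 4).all fun d => certOK 1 (12 + d)) = true := by decide +kernel

theorem certOK_1_4 : ((List.range 4).all fun d => certOK 1 (16 + d)) = true := by decide +kernel

theorem certOK_1_5 : ((List.range 4).all fun d => certOK 1 (20 + d)) = true := by decide +kernel

theorem certOK_1_6 : ((List.range 4).all fun d => certOK 1 (24 + d)) = true := by decide +kernel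

theorem certOK_1_7 : ((List.range 3).all fun d => certOK 1 (28 + d)) = true := by decide +kernel

theorem certOK1 : ∀ k < 31, certOK 1 k = true := by
  intro k hk
  by_cases h0 : k < 4
  · have h := List.all_eq_true.mp certOK_1_0 (k - 0) (List.mem_range.mpr (by omega))
    rwa [show 0 + (k - 0) = k by omega] at h
  by_cases h1 : k < 8
  · have h := List.all_eq_true.mp certOK_1_1 (k - 4) (List.mem_range.mpr (by omega))
    rwa [show 4 + (k - 4) = k by omega] at h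
  by_cases h2 : k < 12
  · have h := List.all_eq_true.mp certOK_1_2 (k - 8) (List.mem_range.mpr (by omega))
    rwa [show 8 + (k - 8) = k by omega] at h
  by_cases h3 : k < 16
  · have h := List.all_eq_true.mp certOK_1_3 (k - 12) (List.mem_range.mpr (by omega))
    rwa [show 12 + (k - 12) = k by omega] at h
  by_cases h4 : k < 20
  · have h := List.all_eq_true.mp certOK_1_4 (k - 16) (List.mem_range.mpr (by omega))
    rwa [show 16 + (k - 16) = k by omega] at h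
  by_cases h5 : k < 24
  · have h := List.all_eq_true.mp certOK_1_5 (k - 20) (List.mem_range.mpr (by omega))
    rwa [show 20 + (k - 20) = k by omega] at h
  by_cases h6 : k < 28
  · have h := List.all_eq_true.mp certOK_1_6 (k - 24) (List.mem_range.mpr (by omega))
    rwa [show 24 + (k - 24) = k by omega] at h
  have h := List.all_eq_true.mp certOK_1_7 (k - 28) (List.mem_range.mpr (by omega))
  rwa [show 28 + (k - 28) = k by omega] at h

theorem certOK_2_0 : ((List.range 4).all fun d => certOK 2 (0 + d)) = true := by decide +kernel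

theorem certOK_2_1 : ((List.range 4).all fun d => certOK 2 (4 + d)) = true := by decide +kernel

theorem certOK_2_2 : ((List.range 4).all fun d => certOK 2 (8 + d)) = true := by decide +kernel

theorem certOK_2_3 : ((List.range 4).all fun d => certOK 2 (12 + d)) = true := by decide +kernel

theorem certOK_2_4 : ((List.range 2).all fun d => certOK 2 (16 + d)) = true := by decide +kernel

theorem certOK2 : ∀ k < 18, certOK 2 k = true := by
  intro k hk
  by_cases h0 : k < 4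
  · have h := List.all_eq_true.mp certOK_2_0 (k - 0) (List.mem_range.mpr (by omega))
    rwa [show 0 + (k - 0) = k by omega] at h
  by_cases h1 : k < 8
  · have h := List.all_eq_true.mp certOK_2_1 (k - 4) (List.mem_range.mpr (by omega))
    rwa [show 4 + (k - 4) = k by omega] at h
  by_cases h2 : k < 12
  · have h := List.all_eq_true.mp certOK_2_2 (k - 8) (List.mem_range.mpr (by omega))
    rwa [show 8 + (k - 8) = k by omega] at h
  by_cases h3 : k < 16
  · have h := List.all_eq_true.mp certOK_2_3 (k - 12) (List.mem_range.mpr (by omega))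
    rwa [show 12 + (k - 12) = k by omega] at h
  have h := List.all_eq_true.mp certOK_2_4 (k - 16) (List.mem_range.mpr (by omega))
  rwa [show 16 + (k - 16) = k by omega] at h

theorem certOK_3_0 : ((List.range 4).all fun d => certOK 3 (0 + d)) = true := by decide +kernel

theorem certOK3 : ∀ k < 4, certOK 3 k = true := by
  intro k hk
  have h := List.all_eq_true.mp certOK_3_0 (k - 0) (List.mem_range.mpr (by omega))
  rwa [show 0 + (k - 0) = k by omega] at h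

theorem certOK_all : ∀ j < 4, ∀ k < (rootS j).length, certOK j k = true := by
  have hlen : (rootS 0).length = 26 ∧ (rootS 1).length = 31 ∧ (rootS 2).length = 18 ∧
      (rootS 3).length = 4 := by decide +kernel
  obtain ⟨l0, l1, l2, l3⟩ := hlen
  intro j hj k hk
  interval_cases j
  · exact certOK0 k (l0 ▸ hk)
  · exact certOK1 k (l1 ▸ hk)
  · exact certOK2 k (l2 ▸ hk)
  · exact certOK3 k (l3 ▸ hk)

theorem total_T : (∑ j ∈ Finset.range 4, cntP0.getD j 0 * ∑ k ∈ Finset.range (rootS j).length,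
    (cntS j).getD k 0 * ((certT j).getD k (0, [], 0, [], 0, [], [], 0)).2.2.2.2.2.2.2) = 1544188503 := by
  decide +kernel

variable {G : Type*} [Group G] [Finite G] {z : G}

/-- The number of pairs at the element of the second class. -/
theorem card_pairs_t (S : Setup z) (hs : S.SplitFacts) (hz2 : S.rootZ 2) :
    Nat.card {q : G × G // IsConj z q.1 ∧ IsConj (S.F.b (pairNo 0 1)) q.2 ∧
      S.F.b (pairNo 0 1) ∈ Subgroup.zpowers (q.1 * q.2)} = 1544188503 := by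
  show Nat.card {q : G × G // S.GoodT q} = _
  rw [card_goodT S invSetP mem_invSetP, sum_pairsP S.fT fun g hg => fT_conj S g hg, ← total_T]
  refine Finset.sum_congr rfl fun j hj => congrArg _ (Finset.sum_congr rfl fun k hk => congrArg _ ?_)
  have hj4 : j < 4 := Finset.mem_range.mp hj
  have hkl := Finset.mem_range.mp hk
  have hok := certOK_all j hj4 k hkl
  have hA : j < rootP0.length := by rw [rootP0_len]; exact hj4
  have key := fT_eq S hs hz2 hok
  have hgen : genOK (unpack24 (tabGet tabP (rootP0.getD j 2872))) = true ∧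
      genOK (unpack24 (tabGet tabP ((rootS j).getD k 2872))) = true := by
    revert hok
    rw [certOK]
    generalize (certT j).getD k (0, [], 0, [], 0, [], [], 0) = c
    obtain ⟨c1, c2, c3, c4, c5, c6, c7, c8⟩ := c
    intro h
    simp only [pairOK, Bool.and_eq_true, decide_eq_true_eq] at h
    obtain ⟨⟨⟨⟨⟨⟨⟨⟨⟨⟨⟨⟨⟨-, -⟩, gA⟩, gB⟩, -⟩, -⟩, -⟩, -⟩, -⟩, -⟩, -⟩, -⟩, -⟩, -⟩ := h
    exact ⟨gA, gB⟩
  have h1 := (tabElt_of (toList_ofList hgen.1)).symm
  have h2 := (tabElt_of (toList_ofList hgen.2)).symm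
  rw [← h1, ← h2]
  exact key

end CfsgLib.J4Order
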