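import Cfsg.Agent.J4Local.Order.HexChecks

/-!
The list of the 77 hexads.
-/

set_option autoImplicit false
set_option maxRecDepth 100000

namespace CfsgLib.J4Order

open Cfsg CfsgLib.J4CentT CfsgLib.Golay CfsgLib.Golay.Cert MulAction

variable {G : Type*} [Group G] [Finite G] {z : G} {S : Setup z}

theorem hasMask_base : S.HasMask S.base 0 := by
  refine hasMask_of_gens S S.base (by norm_num) (gs := hexGens 0) (fun c hc => ?_) (ck_hexSpan 0 (by norm_num)).1
  have h := List.all_eq_true.mp ck_base c hc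
  rw [decide_eq_true_eq] at h
  refine ⟨by omega, ?_⟩
  rw [Setup.el, Nat.mod_eq_of_lt h, Nat.div_eq_of_lt h, rg_zero, map_one, mul_one]
  exact ⟨(S.data.b_mem_iff S.unique (ck_code.1 c h).1).mpr (ck_code.1 c h).2.1, S.F.b_mem _ (ck_code.1 c h).1⟩

theorem testBit_foldr_lor {f : ℕ → ℕ} {c : ℕ} : ∀ {l : List ℕ},
    (l.foldr (fun k m => Nat.lor (f k) m) 0).testBit c = true → ∃ k ∈ l, (f k).testBit c = true := by
  intro l
  induction l with
  | nil => simp
  | cons a l ih =>
    intro h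
    rw [List.foldr_cons, show ∀ x y : ℕ, Nat.lor x y = x ||| y from fun _ _ => rfl, Nat.testBit_or,
      Bool.or_eq_true] at h
    rcases h with h | h
    · exact ⟨a, List.mem_cons_self, h⟩
    · obtain ⟨k, hk, hb⟩ := ih h
      exact ⟨k, List.mem_cons_of_mem _ hk, hb⟩

variable (hs : S.SplitFacts) (hz2 : S.rootZ 2)

include hs hz2

theorem exists_hexad_high : ∀ k < 77, k = 0 ∨ 61 ≤ k → ∃ ω : S.Hex, S.HasMask ω k := by
  intro k
  induction k using Nat.strongRecOn with | ind k ih => ?_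
  intro hk hcase
  rcases hcase with rfl | h61
  · exact ⟨S.base, hasMask_base⟩
  rcases eq_or_ne k 61 with rfl | hne
  · have hx8 : rootData61.x < 8192 := by decide +kernel
    have hO := (inO_el hs hz2 hx8).mpr ck_rootX.2.1
    obtain ⟨ω, hω⟩ := exists_hex_of_inO S hO
    obtain ⟨c1, c2, c3, c4, c5, c6, c7⟩ := ck_root61
    exact ⟨ω, hexad_of_root hs hz2 rootData61 hk c1 c2 c3 c4 c5 c6 c7 hω hO
      (fun c _ hb => absurd hb (by simp))⟩
  have h := ck_step k hk (by omega) (by omega) hne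
  simp only [Bool.and_eq_true, Bool.or_eq_true, decide_eq_true_eq, beq_iff_eq] at h
  obtain ⟨⟨⟨hp, hg⟩, hhi⟩, hm⟩ := h
  obtain ⟨ω, hω⟩ := ih _ hp (lt_trans hp hk) (Or.inr (hhi.resolve_left (by omega)))
  exact hasMask_step S (lt_trans hp hk) hk hg hω hm

theorem exists_hexad : ∀ k < 77, ∃ ω : S.Hex, S.HasMask ω k := by
  intro k
  induction k using Nat.strongRecOn with | ind k ih => ?_
  intro hk
  rcases eq_or_ne k 1 with rfl | h1
  · have hx8 : rootData1.x < 8192 := by decide +kernel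
    have hO := (inO_el hs hz2 hx8).mpr ck_rootX.1
    obtain ⟨ω, hω⟩ := exists_hex_of_inO S hO
    obtain ⟨c1, c2, c3, c4, c5, c6, c7⟩ := ck_root1
    refine ⟨ω, hexad_of_root hs hz2 rootData1 hk c1 c2 c3 c4 c5 c6 c7 hω hO ?_⟩
    intro c hc hb hcO hcω
    rw [← ck_excl] at hb
    obtain ⟨j, hj, hbj⟩ := testBit_foldr_lor hb
    have hj' : j = 0 ∨ (61 ≤ j ∧ j < 77) := by
      simp only [knownRows, List.mem_cons, List.mem_range'_1] at hj
      omega
    obtain ⟨ν, hν⟩ := exists_hexad_high hs hz2 j (by omega) (hj'.imp_right And.left)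
    have e := hs.unique _ hcO ω ν hcω ((hν c hc).mpr hbj)
    rw [e] at hω
    have := (hν _ hx8).mp hω
    rw [ck_rootX.2.2 j hj] at this
    exact Bool.noConfusion this
  by_cases hhi : k = 0 ∨ 61 ≤ k
  · exact exists_hexad_high hs hz2 k hk hhi
  have h := ck_step k hk (by omega) h1 (by omega)
  simp only [Bool.and_eq_true, Bool.or_eq_true, decide_eq_true_eq, beq_iff_eq] at h
  obtain ⟨⟨⟨hp, hg⟩, -⟩, hm⟩ := h
  obtain ⟨ω, hω⟩ := ih _ hp (lt_trans hp hk)
  exact hasMask_step S (lt_trans hp hk) hk hg hω hm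

/-- The hexads are the 77 rows of the table. -/
theorem exists_hexEnum : ∃ e : Fin 77 ≃ S.Hex,
    ∀ k : Fin 77, ∀ c < 8192, (S.el c ∈ (e k).1 ↔ (hexMasks.getD k 0).testBit c = true) := by
  choose f hf using exists_hexad hs hz2
  let g : Fin 77 → S.Hex := fun k => f k k.2
  have hinj : Function.Injective g := by
    intro i j e
    by_contra hne
    obtain ⟨c, hc, hb⟩ := List.any_eq_true.mp (ck_separate i i.2 j j.2 (fun h => hne (Fin.ext h)))
    rw [Bool.not_eq_true'] at hb
    obtain ⟨hspan, hlt⟩ := ck_hexSpan i i.2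
    have hc8 : c < 8192 := of_decide_eq_true (List.all_eq_true.mp hlt c hc)
    have hci : S.el c ∈ (g i).1 := by
      refine (hf i i.2 c hc8).mpr ?_
      rw [← hspan, testBit_maskList]
      exact gen_mem_span _ _ hc
    rw [e] at hci
    rw [(hf j j.2 c hc8).mp hci] at hb
    exact Bool.noConfusion hb
  have hbij : Function.Bijective g :=
    (Nat.bijective_iff_injective_and_card g).mpr ⟨hinj, by rw [Nat.card_fin, hs.card]⟩
  exact ⟨Equiv.ofBijective g hbij, fun k c hc => hf k k.2 c hc⟩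

omit hs hz2 in
/-- The hexads are the 77 rows of the table. -/
theorem Setup.hex_enum (S : Setup z) (hs : S.SplitFacts) (hz2 : S.rootZ 2) :
    ∃ e : Fin 77 ≃ S.Hex, S.IsEnum e := exists_hexEnum hs hz2

end CfsgLib.J4Order
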