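import Cfsg.Agent.J4Local.Order.OrbitsKDefs

/-!
Checks of the orbit forests.
-/

set_option autoImplicit false
set_option maxRecDepth 100000

namespace CfsgLib.J4Order

open Cfsg CfsgLib.Golay CfsgLib.Golay.Cert CfsgLib.J4CentT MulAction
open scoped Pointwise

theorem ck_forestK : forestFine invKT 1504 genK forestK = true := by decide +kernel

theorem ck_forest0 : forestFine invKT 1504 centK0 forestK0 = true := by decide +kernel

theorem ck_forest1 : forestFine invKT 1504 centK1 forestK1 = true := by decide +kernel

theorem ck_forest2 : forestFine invKT 1504 centK2 forestK2 = true := by decide +kernel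

theorem ck_forest3 : forestFine invKT 1504 centK3 forestK3 = true := by decide +kernel

theorem ck_forest4 : forestFine invKT 1504 centK4 forestK4 = true := by decide +kernel

theorem ck_forest5 : forestFine invKT 1504 centK5 forestK5 = true := by decide +kernel

theorem ck_forest6 : forestFine invKT 1504 centK6 forestK6 = true := by decide +kernel

theorem ck_pairsRead : pairsRead = repsIdxK ∧ forestK.length = 7 := by decide +kernel

end CfsgLib.J4Order
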