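import Cfsg.Agent.J4Local.Order.OrbitsKChecks
import Cfsg.Agent.J4Local.Order.OrbitsKForests

/-!
The involutions of the sextet stabiliser and the orbits on pairs of them.
-/

set_option autoImplicit false
set_option maxRecDepth 100000

namespace CfsgLib.J4Order

open Cfsg CfsgLib.Golay CfsgLib.Golay.Cert CfsgLib.J4CentT MulAction
open scoped Pointwise

theorem invK_el {i : ℕ} (hi : i < 1504) :
    genOK (blkEl invKT i) = true ∧ act (blkEl invKT i) zIdx = zIdx ∧ invB (blkEl invKT i) = true := by
  have hb : blockFine (i / 32) = true := by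
    have hA := ck_blocksA
    have hB := ck_blocksB
    simp only [List.all_eq_true, List.mem_range, List.mem_map] at hA hB
    by_cases h : i / 32 < 24
    · exact hA _ h
    · exact hB _ ⟨i / 32 - 24, by omega, by omega⟩
  simp only [blockFine, List.all_eq_true, List.mem_range] at hb
  have h := hb (i % 32) (Nat.mod_lt _ (by norm_num))
  rw [Nat.div_add_mod] at h
  simp only [Bool.or_eq_true, Bool.not_eq_true', Bool.and_eq_true, fixZ, beq_iff_eq] at h
  rcases h with h | h
  · rw [← Bool.not_eq_true, Nat.blt_eq] at h; omega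
  · exact ⟨h.1.1, h.1.2, h.2⟩

theorem invK_ok : ∀ i < 1504, genOK (blkEl invKT i) = true := fun _ hi => (invK_el hi).1



theorem mem_masksW : ∀ n m : ℕ, m < 2 ^ n → m ∈ masksW n (wt n m) := by
  intro n
  induction n with
  | zero =>
    intro m hm
    rw [show m = 0 by simpa using hm]
    simp [wt, masksW]
  | succ n ih =>
    intro m hm
    have h := ih (m / 2) (by rw [pow_succ] at hm; omega)
    rcases Nat.mod_two_eq_zero_or_one m with e | e
    · rw [show wt (n + 1) m = wt n (m / 2) by rw [wt, e, Nat.zero_add]]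
      generalize wt n (m / 2) = k at h
      cases k with
      | zero => exact List.mem_map.mpr ⟨_, h, by omega⟩
      | succ k => exact List.mem_append.mpr (Or.inl (List.mem_map.mpr ⟨_, h, by omega⟩))
    · rw [show wt (n + 1) m = wt n (m / 2) + 1 by rw [wt, e, Nat.add_comm]]
      exact List.mem_append.mpr (Or.inr (List.mem_map.mpr ⟨_, h, by omega⟩))

theorem ck_wtStd : ∀ c ∈ sStd, wt 24 c = 4 := by decide +kernel

/-- An element fixing the chosen element permutes the six tetrads. -/
theorem tetrad_image {σ : M24} (h : actG σ zIdx = zIdx) {c : ℕ} (hc : c ∈ sStd) :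
    permF (toList σ.1) c ∈ sStd := by
  obtain ⟨hl, he⟩ := tetrad_ok c hc
  have hz : cd (permF (toList σ.1) c) = zIdx := by rw [← actG_cd σ hl he, ck_zIdx.2.1 c hc]; exact h
  have hw : wt 24 (permF (toList σ.1) c) = 4 := by
    rw [← card_pts, pts_permF, Finset.card_image_of_injective _ σ.1.injective, card_pts, ck_wtStd c hc]
  have hm := mem_masksW 24 _ (permF_lt σ.1 c)
  rw [hw] at hm
  have := ck_tetrads
  simp only [List.all_eq_true, Bool.or_eq_true, Bool.not_eq_true', List.contains_iff_mem] at this
  rcases this _ hm with h' | h'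
  · rw [beq_eq_false_iff_ne] at h'; exact absurd hz h'
  · exact h'

theorem mem_arrs (S : List ℕ) : ∀ l : List ℕ, l.Nodup → (∀ a ∈ l, a ∈ S) → l ∈ arrs S l.length := by
  intro l
  induction l with
  | nil => intros; simp [arrs]
  | cons a l ih =>
    intro hn hS
    rw [List.nodup_cons] at hn
    refine List.mem_flatMap.mpr ⟨l, ih hn.2 (fun b hb => hS b (List.mem_cons_of_mem _ hb)), ?_⟩
    exact List.mem_map.mpr ⟨a, List.mem_filter.mpr ⟨hS a (List.mem_cons_self ..), by simp [hn.1]⟩, rfl⟩

theorem ck_tetK : ∀ t ∈ tetK, genOK t = true := by decide +kernel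

theorem ker_len : ∀ k ∈ sextKer, k.length = 24 := by decide +kernel

theorem getD_compL (A B : List ℕ) {i : ℕ} (hi : i < B.length) : (compL A B).getD i 0 = A.getD (B.getD i 0) 0 := by
  rw [compL, List.getD_eq_getElem _ _ (by simpa using hi), List.getElem_map, List.getD_eq_getElem _ _ hi]

theorem mem_invSetK {σ : M24} : σ ∈ invSetK ↔ σ * σ = 1 ∧ actG σ zIdx = zIdx := by
  constructor
  · intro h
    obtain ⟨i, hi, rfl⟩ := Finset.mem_image.mp h
    obtain ⟨hg, hz, hi2⟩ := invK_el (Finset.mem_range.mp hi)
    exact ⟨sq_of_invB (by rw [toList_ofList hg]; exact hi2), by rw [actG, toList_ofList hg]; exact hz⟩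
  rintro ⟨hσ, hz⟩
  set p := sStd.map (permF (toList σ.1)) with hp
  have hlt : ∀ c ∈ sStd, c < 2 ^ 24 := fun c hc => (tetrad_ok c hc).1
  have hinv : ∀ c ∈ sStd, permF (toList σ.1) (permF (toList σ.1) c) = c := fun c hc => by
    refine pts_inj (permF_lt _ _) (hlt c hc) ?_
    rw [pts_permF, pts_permF, Finset.image_image]
    refine (Finset.image_congr (g := id) fun r _ => ?_).trans Finset.image_id
    show σ.1 (σ.1 r) = r
    rw [← Equiv.Perm.mul_apply, ← Subgroup.coe_mul, hσ]; rfl
  have hpm : p ∈ arrs sStd 6 := by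
    have := mem_arrs sStd p
    rw [hp, List.length_map, show sStd.length = 6 from rfl] at this
    refine this ((by decide : sStd.Nodup).map_on fun a ha b hb e => ?_) fun a ha => ?_
    · rw [← hinv a ha, e, hinv b hb]
    · obtain ⟨c, hc, rfl⟩ := List.mem_map.mp ha
      exact tetrad_image hz hc
  have harr : ∀ c ∈ sStd, arrAt p c = permF (toList σ.1) c := fun c hc => by
    rw [arrAt, hp, List.getD_eq_getElem _ _ (by simpa using List.idxOf_lt_length_of_mem hc),
      List.getElem_map, List.getElem_idxOf]
  have hc := List.all_eq_true.mp ck_cosets p hpm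
  simp only [Bool.or_eq_true, Bool.not_eq_true', List.any_eq_true, beq_iff_eq] at hc
  rcases hc with hc | ⟨t, ht, htp⟩
  · exfalso
    have : (sStd.all fun c => arrAt p (arrAt p c) == c) = true := by
      simp only [List.all_eq_true, beq_iff_eq]
      intro c hc'
      rw [harr c hc', harr _ (tetrad_image hz hc'), hinv c hc']
    exact Bool.false_ne_true (hc.symm.trans this)
  have htg := ck_tetK t ht
  set τ := ofList t with hτ
  have hfix : ∀ c ∈ sStd, (τ⁻¹ * σ) • pts c = pts c := by
    intro c hc'
    have e1 : permF t c = permF (toList σ.1) c := List.map_inj_left.mp (htp.trans hp) c hc'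
    rw [mul_smul, inv_smul_eq_iff, smul_finset_eq_image, smul_finset_eq_image]
    show (pts c).image σ.1 = (pts c).image τ.1
    rw [← pts_permF, ← pts_permF, hτ, toList_ofList htg, e1]
  have hmem : τ⁻¹ * σ ∈ stabilizer M24 (toObj sStd) := by
    refine mem_stabilizer_iff.mpr (Finset.eq_of_subset_of_card_le (fun u hu => ?_) (by rw [Finset.card_smul_finset]))
    obtain ⟨w, hw, rfl⟩ := Finset.mem_smul_finset.mp hu
    obtain ⟨c, hc', rfl⟩ := mem_toObj.mp hw
    rw [hfix c hc']; exact hw
  have hker : toList (τ⁻¹ * σ : M24).1 ∈ sextKer := sKer_list (g := ⟨_, hmem⟩) (mem_sKer.mpr fun u hu => by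
    obtain ⟨c, hc', rfl⟩ := mem_toObj.mp hu
    exact hfix c hc')
  set k := toList (τ⁻¹ * σ : M24).1 with hk
  have hσk : toList σ.1 = compL t k := by
    rw [hk, ← toList_ofList htg, ← hτ, ← toList_mul, ← Subgroup.coe_mul, mul_inv_cancel_left]
  have hf : cosetFine t = true := by
    rw [← List.take_append_drop 38 tetK, List.mem_append] at ht
    rcases ht with ht | ht
    · exact List.all_eq_true.mp ck_cosetFineA t ht
    · exact List.all_eq_true.mp ck_cosetFineB t ht
  simp only [cosetFine, List.all_eq_true, Bool.or_eq_true, Bool.not_eq_true'] at hf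
  rcases hf k hker with hno | hyes
  · exfalso
    have hall : ((List.range 24).all fun i =>
        t.getD (k.getD (t.getD (k.getD i 0) 0) 0) 0 == i) = true := by
      have h2 := invB_of_sq hσ
      simp only [invB, List.all_eq_true, List.mem_range, beq_iff_eq] at h2 ⊢
      intro i hi
      have hl : k.length = 24 := ker_len k hker
      have h1 := h2 i hi
      have hlt' : (toList σ.1).getD i 0 < 24 := by rw [toList_getD _ hi]; exact idx_lt _
      rw [hσk] at h1 hlt'
      rw [getD_compL _ _ (by omega)] at hlt'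
      rw [getD_compL _ _ (show i < k.length by omega), getD_compL _ _ (by omega)] at h1
      exact h1
    exact Bool.false_ne_true (hno.symm.trans hall)
  · obtain ⟨i, hi, e⟩ := findIn_spec hyes
    refine Finset.mem_image.mpr ⟨i, Finset.mem_range.mpr hi, toList_coe_injective ?_⟩
    show toList (ofList (blkEl invKT i)).1 = toList σ.1
    rw [toList_el invK_ok hi, e, hσk]

theorem invSetK_list : invSetK.image (fun σ : M24 => toList σ.1) = invK.toFinset := by
  ext L
  simp only [invSetK, tabSet, invK, Finset.mem_image, Finset.mem_range, List.mem_toFinset, List.mem_map,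
    List.mem_range, exists_exists_and_eq_and]
  exact exists_congr fun i => and_congr_right fun hi => by rw [toList_el invK_ok hi]



/-- The generators are symmetries fixing the chosen element. -/
theorem ck_genK : ∀ g ∈ genK, fixZ g = true := by decide +kernel

theorem ck_repK1 : forestK.map Prod.fst = repIdxK := by decide +kernel

theorem fixZ_spec {g : List ℕ} (h : fixZ g = true) : genOK g = true ∧ actG (ofList g) zIdx = zIdx := by
  simp only [fixZ, Bool.and_eq_true, beq_iff_eq] at h
  exact ⟨h.1, by rw [actG, toList_ofList h.1]; exact h.2⟩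

theorem genK_ok : ∀ g ∈ genK, genOK g = true := fun g hg => (fixZ_spec (ck_genK g hg)).1

/-- Every member is conjugate to a representative by a symmetry fixing the chosen element. -/
theorem conj_repK1 {σ : M24} (h : σ ∈ invSetK) :
    ∃ g : M24, actG g zIdx = zIdx ∧ ∃ r ∈ repK1, g * σ * g⁻¹ = ofList r := by
  let St : Subgroup M24 := Subgroup.closure {g | ∃ L ∈ genK, g = ofList L}
  have hSt : ∀ g ∈ St, actG g zIdx = zIdx := by
    have hone : actG (1 : M24) zIdx = zIdx := by
      show act (toList (1 : Equiv.Perm GolayPt)) zIdx = zIdx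
      rw [toList_one]; decide +kernel
    let M : Submonoid M24 :=
      { carrier := {g | actG g zIdx = zIdx}
        one_mem' := hone
        mul_mem' := fun {a b} ha hb => by
          show actG (a * b) zIdx = zIdx
          rw [actG_mul a b ck_zIdx.1, show actG b zIdx = zIdx from hb]
          exact ha }
    have hle : Subgroup.closure {g | ∃ L ∈ genK, g = ofList L} ≤
        { M with
          inv_mem' := fun {a} (ha : actG a zIdx = zIdx) => by
            show actG a⁻¹ zIdx = zIdx
            conv_lhs => rw [← ha]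
            rw [← actG_mul a⁻¹ a ck_zIdx.1, inv_mul_cancel]
            exact hone } := by
      refine (Subgroup.closure_le _).mpr ?_
      rintro _ ⟨L, hL, rfl⟩
      exact (fixZ_spec (ck_genK L hL)).2
    exact fun g hg => hle hg
  let cl : M24 → Set M24 := fun x => {y | ∃ g ∈ St, y = g * x * g⁻¹}
  have hcl : ∀ L ∈ genK, ∀ x, cl (ofList L * x * (ofList L)⁻¹) = cl x := by
    intro L hL x
    have hm : ofList L ∈ St := Subgroup.subset_closure ⟨L, hL, rfl⟩
    ext y
    constructor
    · rintro ⟨g, hg, rfl⟩; exact ⟨g * ofList L, mul_mem hg hm, by group⟩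
    · rintro ⟨g, hg, rfl⟩; exact ⟨g * (ofList L)⁻¹, mul_mem hg (inv_mem hm), by group⟩
  obtain ⟨i, hi, rfl⟩ := Finset.mem_image.mp h
  obtain ⟨o, ho, hio⟩ := forest_cover ck_forestK (Finset.mem_range.mp hi)
  have he := (forest_spec invK_ok genK_ok cl hcl ck_forestK o ho i hio).2
  obtain ⟨g, hg, e⟩ : ofList (blkEl invKT o.1) ∈ cl (ofList (blkEl invKT i)) := by
    rw [he]; exact ⟨1, one_mem _, by group⟩
  exact ⟨g, hSt g hg, _, List.mem_map.mpr ⟨o.1, ck_repK1 ▸ List.mem_map_of_mem ho, rfl⟩, e.symm⟩

theorem sum_pairsK (f : M24 → M24 → ℕ)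
    (hf : ∀ g : M24, actG g zIdx = zIdx → ∀ s t, f (g * s * g⁻¹) (g * t * g⁻¹) = f s t) :
    ∑ s ∈ invSetK, ∑ t ∈ invSetK, f s t =
      (repsK.map fun r => r.2.2 * f (ofList r.1) (ofList r.2.1)).sum := by
  have hF : ∀ L ∈ genK, ∀ x, (∑ t ∈ invSetK, f (ofList L * x * (ofList L)⁻¹) t) = ∑ t ∈ invSetK, f x t := by
    intro L hL x
    have hz := (fixZ_spec (ck_genK L hL)).2
    have hzi : actG (ofList L)⁻¹ zIdx = zIdx := by
      conv_lhs => rw [← hz]
      rw [← actG_mul (ofList L)⁻¹ (ofList L) ck_zIdx.1, inv_mul_cancel]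
      show act (toList (1 : Equiv.Perm GolayPt)) zIdx = zIdx
      rw [toList_one]; decide +kernel
    refine Finset.sum_bij' (fun t _ => (ofList L)⁻¹ * t * ofList L) (fun t _ => ofList L * t * (ofList L)⁻¹)
      ?_ ?_ (fun t _ => by group) (fun t _ => by group) (fun t _ => ?_)
    · intro t ht
      rw [mem_invSetK] at ht ⊢
      refine ⟨?_, ?_⟩
      · rw [show (ofList L)⁻¹ * t * ofList L * ((ofList L)⁻¹ * t * ofList L) =
          (ofList L)⁻¹ * (t * t) * ofList L by group, ht.1]
        group
      · rw [actG_mul _ _ ck_zIdx.1, hz, actG_mul _ _ ck_zIdx.1, ht.2, hzi]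
    · intro t ht
      rw [mem_invSetK] at ht ⊢
      refine ⟨?_, ?_⟩
      · rw [show ofList L * t * (ofList L)⁻¹ * (ofList L * t * (ofList L)⁻¹) =
          ofList L * (t * t) * (ofList L)⁻¹ by group, ht.1]
        group
      · rw [actG_mul _ _ ck_zIdx.1, hzi, actG_mul _ _ ck_zIdx.1, ht.2, hz]
    · conv_rhs => rw [← hf _ hz]
      congr 1
      group
  rw [invSetK] at hF ⊢
  rw [sum_tabSet ck_codesK invK_ok]
  refine (sum_forest invK_ok genK_ok (fun s => ∑ t ∈ tabSet invKT 1504, f s t) hF ck_forestK).trans ?_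
  have hlen : forestK.length = 7 := ck_pairsRead.2
  rw [show forestK = (List.range 7).map fun k => forestK.getD k (0, []) by decide +kernel, List.map_map,
    repsK, List.map_map, ← ck_pairsRead.1, pairsRead, List.map_flatMap, List.flatMap_def, List.sum_flatten,
    List.map_map]
  refine congrArg List.sum (List.map_congr_left fun k hk => ?_)
  have hk7 := List.mem_range.mp hk
  have hrk : (forestK.getD k (0, [])).1 = repIdxK.getD k 0 := by
    rw [← ck_repK1]
    exact (List.getD_map forestK (0, []) Prod.fst).symm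
  simp only [Function.comp_apply]
  rw [hrk]
  set r := repIdxK.getD k 0 with hr
  obtain ⟨hc, hr'⟩ := ck_cent k hk7
  simp only [centFine, List.all_eq_true, Bool.and_eq_true] at hc
  have hgo : ∀ g ∈ (centKs.getD k ([], [])).1, genOK g = true := fun g hg => (fixZ_spec (hc g hg).1).1
  have hinv : ∀ g ∈ (centKs.getD k ([], [])).1, ∀ x,
      f (ofList (blkEl invKT r)) (ofList g * x * (ofList g)⁻¹) = f (ofList (blkEl invKT r)) x := by
    intro g hg x
    have hcm : ofList g * ofList (blkEl invKT r) = ofList (blkEl invKT r) * ofList g := conjB_iff.mp (by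
      rw [toList_el invK_ok hr', toList_ofList (hgo g hg)]; exact (hc g hg).2)
    conv_rhs => rw [← hf _ (fixZ_spec (hc g hg).1).2]
    rw [hcm, mul_inv_cancel_right]
  have hforest : forestFine invKT 1504 (centKs.getD k ([], [])).1 (centKs.getD k ([], [])).2 = true := by
    interval_cases k
    exacts [ck_forest0, ck_forest1, ck_forest2, ck_forest3, ck_forest4, ck_forest5, ck_forest6]
  rw [sum_tabSet ck_codesK invK_ok, sum_forest invK_ok hgo (fun x => f (ofList (blkEl invKT r)) x) hinv hforest,
    List.map_map, ← List.sum_map_mul_left]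
  refine congrArg List.sum (List.map_congr_left fun o _ => ?_)
  simp only [Function.comp_apply]
  ring

end CfsgLib.J4Order
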