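import Cfsg.Agent.J4Local.Order.Split

/-!
The class of an involution of the normaliser, read off from a mask.
-/

set_option autoImplicit false
set_option maxRecDepth 100000

namespace CfsgLib.J4Order

open Cfsg CfsgLib.J4CentT CfsgLib.Golay CfsgLib.Golay.Cert MulAction
open scoped Pointwise

/-- The fixed numbers over the chosen element with fixed points that give the class of `z`. -/
def zMaskA : ℕ := 0x20000000000000001000000000000000000000000000000000000000000000000000000000000000000000000000000000000000000010000000000000002000000000010000000000000002000000000000000000000000000000000000000000000000000000000000000000000000000000000002000000000000000100000000200000000000000010000000000000000000000000000000000000000000000000000000000000000000000000000000000010000000000000002000000000010000000000000002000000000000000000000000000000000000000000000000000000000000000000000000000000000000000000020000000000000001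

/-- The fixed numbers over the chosen element without fixed points that give the class of `z`. -/
def zMaskB : ℕ := 0x20000000000000000000000000000400000000000000001000080000000000000000000000020000000000400000000000000100000000000000000080000000000000000040000000000002000000000000800000000000000000000100000004000000000000000000000000002000000000000000000800100000000000000000000000000200400000000000000000010000000000000000000000000080000000200000000000000000000400000000000010000000000008000000000000000004000000000000000000200000000000000800000000001000000000000000000000004000020000000000000000800000000000000000000000000001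

/-- Members of the classes 0 and 2 over the first element. -/
def zStA : List ℕ := [0,65,433,496,541,604,940,1005,1040,1105,1441,1504,1549,1612,1980,2045]

/-- Members of the classes 1 and 3 over the first element. -/
def tStA : List ℕ := [36,101,143,171,206,234,282,318,347,383,405,468,569,632,658,694,723,759,775,803,838,866,904,969,1076,1141,1183,1211,1246,1274,1290,1326,1355,1391,1413,1476,1577,1640,1666,1702,1731,1767,1815,1843,1878,1906,1944,2009]

/-- Members of the classes 0 and 2 over the second element. -/
def zStB : List ℕ := [0,119,185,206,300,347,405,482,555,604,658,741,775,880,958,969,1076,1091,1165,1274,1304,1391,1441,1494,1567,1640,1702,1745,1843,1860,1930,2045]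

/-- Members of the classes 1 and 3 over the second element. -/
def tStB : List ℕ := [36,83,157,234,264,383,433,454,527,632,694,705,803,852,922,1005,1040,1127,1193,1246,1340,1355,1413,1522,1595,1612,1666,1781,1815,1888,1966,2009]

theorem ck_states : (∀ i ∈ zStA, (idxA, i) ∈ cls 0 ++ cls 2) ∧ (∀ i ∈ tStA, (idxA, i) ∈ cls 1 ++ cls 3) ∧
    (∀ i ∈ zStB, (idxB, i) ∈ cls 0 ++ cls 2) ∧ (∀ i ∈ tStB, (idxB, i) ∈ cls 1 ++ cls 3) := by decide +kernel

theorem ck_maskA : ∀ j < 2048, act (rEl idxA) j = j → ∃ g ∈ centA,
    act g j ∈ (if zMaskA.testBit j then zStA else tStA) := forall_lt_2048 (by decide +kernel)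

theorem ck_maskB : ∀ j < 2048, act (rEl idxB) j = j →
    j ∈ (if zMaskB.testBit j then zStB else tStB) := forall_lt_2048 (by decide +kernel)

variable {G : Type*} [Group G] [Finite G] {z : G} (S : Setup z)

theorem conj_z_iff (g x : G) : IsConj z (g * x * g⁻¹) ↔ IsConj z x :=
  ⟨fun h => h.trans (isConj_iff.mpr ⟨g, rfl⟩).symm, fun h => h.trans (isConj_iff.mpr ⟨g, rfl⟩)⟩

theorem inv_conj : Inv fun n i => IsConj z (S.F.b i * S.F.kap (rg n)) := by
  refine ⟨fun n hn i hi j hj => ?_, fun g hg n hn m hm h i hi => ?_⟩
  · have hx := conj_z_iff (z := z) (S.F.b j) (S.F.b i * S.F.kap (rg n))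
    rw [S.F.conj_b _ hi hj, show actG (rg n) j = act (rEl n) j by rw [actG, rg_list hn]] at hx
    exact hx.symm
  · have hx := conj_z_iff (z := z) (S.F.kap (ofList g)) (S.F.b i * S.F.kap (rg m))
    rw [S.F.conj_kap _ _ hi, rg_conj_of_comp hg hn hm h,
      show actG (ofList g) i = act g i by rw [actG, stGen_ofList hg]] at hx
    exact hx.symm

variable {S} (hs : S.SplitFacts) (hz2 : S.rootZ 2)

include hs hz2

theorem state_iff {n i : ℕ} :
    ((n, i) ∈ cls 0 ++ cls 2 → IsConj z (S.F.b i * S.F.kap (rg n))) ∧
      ((n, i) ∈ cls 1 ++ cls 3 → ¬ IsConj z (S.F.b i * S.F.kap (rg n))) := by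
  constructor <;> intro h <;> rcases List.mem_append.mp h with h | h
  · exact (cls_inv (inv_conj S) h).2.2.2.mpr hs.zero
  · exact (cls_inv (inv_conj S) h).2.2.2.mpr hz2
  · exact fun hc => hs.one ((cls_inv (inv_conj S) h).2.2.2.mp hc)
  · exact fun hc => hs.two_three.mp hz2 ((cls_inv (inv_conj S) h).2.2.2.mp hc)

/-- An involution over a conjugate of the first element is in the class of `z` exactly when the mask says so. -/
theorem conj_iffA {m σ : M24} {i : ℕ} (hi : i < 2048) (hm : m * σ * m⁻¹ = rg idxA) (hfix : actG σ i = i) :
    IsConj z (S.F.b i * S.F.kap σ) ↔ zMaskA.testBit (actG m i) = true := by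
  have hiA : idxA < 64 := ck_conj.2.2.2.2.1
  have hj : act (rEl idxA) (actG m i) = actG m i := by
    rw [← rg_list hiA, ← hm]
    show actG (m * σ * m⁻¹) (actG m i) = actG m i
    rw [← S.F.act_mul _ _ hi, inv_mul_cancel_right, S.F.act_mul _ _ hi, hfix]
  obtain ⟨g, hg, hmem⟩ := ck_maskA (actG m i) (act_lt _ _) hj
  have e : S.F.b (act g (actG m i)) * S.F.kap (rg idxA) =
      S.F.kap (ofList g) * (S.F.kap m * (S.F.b i * S.F.kap σ) * (S.F.kap m)⁻¹) * (S.F.kap (ofList g))⁻¹ := by
    rw [S.F.conj_kap _ _ hi, hm, S.F.conj_kap _ _ (act_lt _ _), centA_comm hg, actG, actG,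
      toList_ofList (ck_conj.2.2.2.2.2.2 g hg).1]
  rw [← conj_z_iff (S.F.kap m) (S.F.b i * S.F.kap σ), ← conj_z_iff (S.F.kap (ofList g)) (S.F.kap m * _ * _), ← e]
  by_cases hb : zMaskA.testBit (actG m i) = true
  · rw [if_pos hb] at hmem
    exact iff_of_true ((state_iff hs hz2).1 (ck_states.1 _ hmem)) hb
  · rw [if_neg hb] at hmem
    exact iff_of_false ((state_iff hs hz2).2 (ck_states.2.1 _ hmem)) hb

/-- An involution over a conjugate of the second element is in the class of `z` exactly when the mask says so. -/
theorem conj_iffB {m σ : M24} {i : ℕ} (hi : i < 2048) (hm : m * σ * m⁻¹ = rg idxB) (hfix : actG σ i = i) :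
    IsConj z (S.F.b i * S.F.kap σ) ↔ zMaskB.testBit (actG m i) = true := by
  have hiB : idxB < 64 := ck_conj.2.2.2.2.2.1
  have hj : act (rEl idxB) (actG m i) = actG m i := by
    rw [← rg_list hiB, ← hm]
    show actG (m * σ * m⁻¹) (actG m i) = actG m i
    rw [← S.F.act_mul _ _ hi, inv_mul_cancel_right, S.F.act_mul _ _ hi, hfix]
  have hmem := ck_maskB (actG m i) (act_lt _ _) hj
  rw [← conj_z_iff (S.F.kap m) (S.F.b i * S.F.kap σ), S.F.conj_kap _ _ hi, hm]
  by_cases hb : zMaskB.testBit (actG m i) = true
  · rw [if_pos hb] at hmem
    exact iff_of_true ((state_iff hs hz2).1 (ck_states.2.2.1 _ hmem)) hb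
  · rw [if_neg hb] at hmem
    exact iff_of_false ((state_iff hs hz2).2 (ck_states.2.2.2 _ hmem)) hb

omit hs hz2 in
/-- In the elementary subgroup the class of `z` is the complement of 0 and the pairs. -/
theorem conj_iff_one {i : ℕ} (hi : i < 2048) :
    IsConj z (S.F.b i) ↔ i ≠ 0 ∧ i ∉ pairList := by
  constructor
  · intro h
    refine ⟨fun e => ?_, fun hp => ?_⟩
    · rw [e, S.F.b_zero] at h
      have hw : S.F.b zIdx = 1 := isConj_one_right.mp (h.symm.trans S.F.zconj)
      exact absurd ((b_zero_iff S ck_zIdx.1).mp hw) (by decide +kernel)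
    · obtain ⟨c, hc, a, ha, rfl⟩ := mem_pairList.mp hp
      exact (S.F.pair_out c hc a ha).1 h
  · rintro ⟨h0, hp⟩
    rcases S.F.cases i hi h0 with h | h
    exacts [h, absurd (mem_pairList.mpr h) hp]

end CfsgLib.J4Order
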