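import Cfsg.Agent.S5566
import Cfsg.Agent.S5567
import Cfsg.Agent.S5568
import Cfsg.Agent.J4Local.CentT.Main
import Cfsg.Agent.J4Local.SylowThreeMain
import Cfsg.Agent.J4Local.Order.Classes

/-!
The objects of the order formula exist, with the class of `z` normalised.
-/

set_option autoImplicit false
set_option maxRecDepth 100000

namespace CfsgLib.J4Order

open Cfsg CfsgLib.J4CentT CfsgLib.Golay CfsgLib.Golay.Cert
open scoped Pointwise

theorem ck_twist : ((root 2).1 = 21 ∧ (root 2).2 = 0) ∧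
    cd (Nat.xor (2 ^ (rEl 21).getD 0 0) 1) = 234 ∧ (21, 234) ∈ cls 3 := by decide +kernel

variable {G : Type*} [Group G] [Finite G] {z : G}

/-- The setup from the other complement. -/
noncomputable def Setup.twisted (S : Setup z) : Setup z := ⟨twist S.F, S.E, S.data, S.unique⟩

theorem twisted_root_two (S : Setup z) : S.twisted.rootZ 2 ↔ S.rootZ 3 := by
  obtain ⟨⟨h1, h2⟩, hd, hc⟩ := ck_twist
  have hdd : dd (rg 21) = 234 := by rw [dd, rg_list (by norm_num)]; exact hd
  have hh := (cls_inv (inv_conj S) hc).2.2.2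
  show IsConj z ((twist S.F).b (root 2).2 * (twist S.F).kap (rg (root 2).1)) ↔
    IsConj z (S.F.b (root 3).2 * S.F.kap (rg (root 3).1))
  rw [h1, h2, twist_b, twist_kap, S.F.b_zero, one_mul, hdd]
  exact hh

variable [IsSimpleGroup G]

theorem card_cent_conj {w : G} (hw : IsConj z w) :
    Nat.card (Subgroup.centralizer ({z} : Set G)) = Nat.card (Subgroup.centralizer ({w} : Set G)) := by
  obtain ⟨g, hg⟩ := isConj_iff.mp hw
  refine Nat.card_congr (Equiv.subtypeEquiv (MulAut.conj g).toEquiv fun x => ?_)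
  show x ∈ Subgroup.centralizer ({z} : Set G) ↔ g * x * g⁻¹ ∈ Subgroup.centralizer ({w} : Set G)
  rw [Subgroup.mem_centralizer_singleton_iff, Subgroup.mem_centralizer_singleton_iff, ← hg]
  constructor
  · intro h
    calc g * x * g⁻¹ * (g * z * g⁻¹) = g * (x * z) * g⁻¹ := by group
      _ = g * z * g⁻¹ * (g * x * g⁻¹) := by rw [h]; group
  · intro h
    calc x * z = g⁻¹ * (g * x * g⁻¹ * (g * z * g⁻¹)) * g := by group
      _ = z * x := by rw [h]; group

/-- The objects, with the third root in the class of `z`. -/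
theorem exists_setup (hG : ¬ IsMulCommutative G) (hJ : Cfsg.IsOfJankoFourTypeAt z) :
    ∃ S : Setup z, S.SplitFacts ∧ S.rootZ 2 ∧ Nat.card S.H = 21799895040 := by
  have hU : UniqueEleven G := Cfsg.Agent.S5566.result hG ⟨z, hJ⟩
  obtain ⟨T⟩ := (inferInstance : Nonempty (Sylow 2 G))
  obtain ⟨V0, ⟨-, hV, hcard⟩, -⟩ := hU T
  obtain ⟨F⟩ := exists_fr (z := z) V0 hV hcard (Cfsg.Agent.S5567.result hG ⟨z, hJ⟩ V0 hV hcard).2
    (Cfsg.Agent.S5568.result hG z hJ V0 hV hcard)
  obtain ⟨E, hE⟩ := exists_eData hJ F.zconj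
  let S : Setup z := ⟨F, E, hE, hU⟩
  have hH : Nat.card S.H = 21799895040 := by
    show Nat.card (Subgroup.centralizer ({F.b zIdx} : Set G)) = _
    obtain ⟨P, hP⟩ := hJ
    rw [← card_cent_conj F.zconj, CfsgLib.J4Three.card_centralizer hP]
    norm_num
  have hs := split S hH
  by_cases h : S.rootZ 2
  · exact ⟨S, hs, h, hH⟩
  · refine ⟨S.twisted, split S.twisted hH, (twisted_root_two S).mpr ?_, hH⟩
    by_contra h3
    exact h (hs.two_three.mpr h3)

end CfsgLib.J4Order
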