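import Cfsg.Agent.Invol.BrauerFowler
import Cfsg.Agent.S5569
import Cfsg.Agent.J4Local.Order.Setup

/-!
The order from the two pair counts.
-/

set_option autoImplicit false
set_option maxRecDepth 100000

namespace CfsgLib.J4Order

open Cfsg CfsgLib.J4CentT CfsgLib.Golay CfsgLib.Golay.Cert
open scoped Pointwise

variable {G : Type*} [Group G] [Finite G] [IsSimpleGroup G] {z : G}

/-- The chosen pair sum. -/
abbrev Setup.pair0 (S : Setup z) : G := S.F.b (pairNo 0 1)

theorem orderOf_w (S : Setup z) (hz : orderOf z = 2) : orderOf S.w = 2 := by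
  obtain ⟨g, hg⟩ := isConj_iff.mp S.F.zconj
  rw [show S.w = MulAut.conj g z from hg.symm, MulEquiv.orderOf_eq, hz]

theorem orderOf_pair0 (S : Setup z) : orderOf S.pair0 = 2 := by
  haveI : Fact (Nat.Prime 2) := ⟨Nat.prime_two⟩
  refine orderOf_eq_prime ((pow_two _).trans (S.F.b_sq (cd_lt _))) fun e => ?_
  exact absurd ((b_zero_iff S (cd_lt _)).mp e) (by decide +kernel)

theorem card_cent_pair0 (S : Setup z) (hG : ¬ IsMulCommutative G) (hJ : Cfsg.IsOfJankoFourTypeAt z) :
    Nat.card (Subgroup.centralizer ({S.pair0} : Set G)) = 1816657920 := by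
  obtain ⟨V, K, -, hKC, hCN, -, hVc, hKV, hKVs, ⟨e⟩⟩ :=
    Cfsg.Agent.S5569.result hG z hJ S.pair0 (orderOf_pair0 S) (pair_not_conj S.F)
  rw [← hKVs, CfsgLib.Solvable.card_sup_of_disjoint (hKC.trans hCN) hKV, hVc, Nat.card_congr e.toEquiv,
    CfsgLib.J4Local.card_aut_m22]
  norm_num

/-- The order, from the numbers of pairs with the two chosen elements among the powers of the product. -/
theorem card_group_of (hG : ¬ IsMulCommutative G) (hJ : Cfsg.IsOfJankoFourTypeAt z) (S : Setup z)
    (hz : Nat.card {q : G × G // IsConj z q.1 ∧ IsConj S.pair0 q.2 ∧ S.w ∈ Subgroup.zpowers (q.1 * q.2)} =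
      29236337328)
    (ht : Nat.card {q : G × G // IsConj z q.1 ∧ IsConj S.pair0 q.2 ∧ S.pair0 ∈ Subgroup.zpowers (q.1 * q.2)} =
      1544188503)
    (hH : Nat.card S.H = 21799895040) :
    Nat.card G = 86775571046077562880 := by
  have hz2 : orderOf z = 2 := by
    obtain ⟨P, h, -⟩ := hJ
    exact h
  have hw := S.F.zconj
  have hnc : ¬ IsConj S.w S.pair0 := fun h => pair_not_conj S.F (hw.trans h)
  have hall : ∀ x : G, orderOf x = 2 → IsConj S.w x ∨ IsConj S.pair0 x := fun x hx => by
    by_cases h : IsConj z x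
    · exact Or.inl (hw.symm.trans h)
    · exact Or.inr (second_class S.data S.unique hx h)
  have hf := CfsgLib.BrauerFowler.order_formula (orderOf_w S hz2) (orderOf_pair0 S) hnc hall
  have e : ∀ q : G, IsConj S.w q ↔ IsConj z q := fun q => ⟨hw.trans, hw.symm.trans⟩
  simp only [e] at hf
  rw [hf, hz, ht, card_cent_pair0 S hG hJ, hH]

end CfsgLib.J4Order
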