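import Cfsg.Agent.J4Local.CentT.Invol

/-!
Coordinates: linearity of the numbering of even masks, the second complement, and the two classes.
-/

set_option autoImplicit false
set_option maxRecDepth 100000

namespace CfsgLib.J4Order

open Cfsg CfsgLib.Golay CfsgLib.Golay.Cert CfsgLib.J4CentT MulAction
open scoped Pointwise

/-- The numbering of masks is linear. -/
theorem cd_xor (a c : ℕ) : cd (a ^^^ c) = cd a ^^^ cd c := by
  show Nat.shiftRight ((a ^^^ c) ^^^ word ((a ^^^ c) % 4096)) 12 % 2048 =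
    (Nat.shiftRight (a ^^^ word (a % 4096)) 12 % 2048) ^^^ (Nat.shiftRight (c ^^^ word (c % 4096)) 12 % 2048)
  have hm : (a ^^^ c) % 4096 = a % 4096 ^^^ c % 4096 := by
    rw [show (4096 : ℕ) = 2 ^ 12 from rfl, Nat.xor_mod_two_pow]
  have hw : word (a % 4096 ^^^ c % 4096) = word (a % 4096) ^^^ word (c % 4096) := comb_xor rows _ _
  rw [hm, hw, show (a ^^^ c) ^^^ (word (a % 4096) ^^^ word (c % 4096)) =
    (a ^^^ word (a % 4096)) ^^^ (c ^^^ word (c % 4096)) by ac_rfl]
  show ((a ^^^ word (a % 4096)) ^^^ (c ^^^ word (c % 4096))) >>> 12 % 2048 = _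
  rw [Nat.shiftRight_xor_distrib, show (2048 : ℕ) = 2 ^ 11 from rfl, Nat.xor_mod_two_pow]
  rfl

/-- The shift: the sum of the first position and its image. -/
def dd (σ : M24) : ℕ := cd (Nat.xor (2 ^ (toList σ.1).getD 0 0) 1)

theorem dd_lt (σ : M24) : dd σ < 2048 := cd_lt _

theorem dd_eq (σ : M24) : dd σ = cd (2 ^ idx (σ.1 (pt 0)) ^^^ 2 ^ 0) := by
  rw [dd, toList_getD _ (show 0 < 24 by norm_num)]
  exact congrArg cd rfl

attribute [local irreducible] cd in
theorem dd_mul (σ τ : M24) : dd (σ * τ) = dd σ ^^^ actG σ (dd τ) := by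
  rw [dd_eq, dd_eq, dd_eq]
  have hc : (σ * τ).1 (pt 0) = σ.1 (pt (idx (τ.1 (pt 0)))) := by rw [pt_idx]; rfl
  rw [hc]
  generalize hA : idx (τ.1 (pt 0)) = a
  have ha : a < 24 := hA ▸ idx_lt _
  generalize hE : idx (σ.1 (pt a)) = e
  generalize hD : idx (σ.1 (pt 0)) = d
  have hstep : actG σ (cd ((2 ^ a) ^^^ 2 ^ 0)) = cd ((2 ^ e) ^^^ (2 ^ d)) := by
    have hlt : (2 ^ a) ^^^ 2 ^ 0 < 2 ^ 24 :=
      Nat.xor_lt_two_pow (Nat.pow_lt_pow_right (by norm_num) ha) (by norm_num)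
    have hev : wt 24 ((2 ^ a) ^^^ 2 ^ 0) % 2 = 0 := by
      rw [wt_xor_mod, ← card_pts, ← card_pts, pts_single ha, pts_single (by norm_num), Finset.card_singleton,
        Finset.card_singleton]
    rw [actG_cd σ hlt hev]
    refine congrArg cd ?_
    refine pts_inj (permF_lt _ _) (Nat.xor_lt_two_pow (Nat.pow_lt_pow_right (by norm_num) (hE ▸ idx_lt _))
      (Nat.pow_lt_pow_right (by norm_num) (hD ▸ idx_lt _))) ?_
    rw [pts_permF, pts_xor, pts_xor, Finset.image_symmDiff _ _ σ.1.injective, pts_single ha,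
      pts_single (by norm_num), pts_single (hE ▸ idx_lt _), pts_single (hD ▸ idx_lt _), Finset.image_singleton,
      Finset.image_singleton, ← hE, ← hD, pt_idx, pt_idx]
  rw [hstep, ← cd_xor]
  refine congrArg cd ?_
  rw [show (2 ^ d ^^^ 2 ^ 0) ^^^ (2 ^ e ^^^ 2 ^ d) = (2 ^ e ^^^ 2 ^ 0) ^^^ (2 ^ d ^^^ 2 ^ d) by ac_rfl,
    Nat.xor_self, Nat.xor_zero]

variable {G : Type*} [Group G] [Finite G] {z : G}

/-- The coordinates from the other complement. -/
noncomputable def twist (F : Fr z) : Fr z :=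
  { F with
    kap := MonoidHom.mk' (fun σ => F.b (dd σ) * F.kap σ) fun σ τ => by
      rw [F.mul_form σ τ (dd_lt _) (dd_lt _), dd_mul]
    kap_inj := fun σ τ h => (F.form_inj (dd_lt _) (dd_lt _) h).2
    kap_norm := fun σ => mul_mem (F.b_norm (dd_lt _)) (F.kap_norm σ)
    kap_disj := fun σ h => F.kap_disj σ (by
      simpa using mul_mem (inv_mem (F.b_mem _ (dd_lt σ))) h)
    decomp := fun n hn => by
      obtain ⟨v, hv, σ, rfl⟩ := F.decomp n hn
      refine ⟨v * (F.b (dd σ))⁻¹, mul_mem hv (inv_mem (F.b_mem _ (dd_lt σ))), σ, ?_⟩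
      show v * F.kap σ = v * (F.b (dd σ))⁻¹ * (F.b (dd σ) * F.kap σ)
      group
    b_conj := fun σ i hi => by
      show F.b (dd σ) * F.kap σ * F.b i * (F.b (dd σ) * F.kap σ)⁻¹ = _
      rw [show F.b (dd σ) * F.kap σ * F.b i * (F.b (dd σ) * F.kap σ)⁻¹ =
          F.b (dd σ) * (F.kap σ * F.b i * (F.kap σ)⁻¹) * (F.b (dd σ))⁻¹ by group,
        F.b_conj σ i hi, F.b_comm (dd_lt _) (act_lt _ _), mul_inv_cancel_right] }

theorem twist_b (F : Fr z) (i : ℕ) : (twist F).b i = F.b i := rfl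

theorem twist_kap (F : Fr z) (σ : M24) : (twist F).kap σ = F.b (dd σ) * F.kap σ := rfl

/-! ### Two classes -/

theorem pairNo_comm (a c : ℕ) : pairNo a c = pairNo c a := congrArg cd (Nat.xor_comm _ _)

theorem Fr.pair_isConj (F : Fr z) {a c : ℕ} (hc : c < 24) (hac : a < c) :
    IsConj (F.b (pairNo 0 1)) (F.b (pairNo a c)) := by
  have ha : a < 24 := by omega
  have hne : pt a ≠ pt c := fun e => hac.ne (by rw [← idx_pt a ha, e, idx_pt c hc])
  have hne0 : pt 0 ≠ pt 1 := fun e => absurd (show (0 : ℕ) = 1 by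
    rw [← idx_pt 0 (by norm_num), e, idx_pt 1 (by norm_num)]) (by norm_num)
  obtain ⟨k, hk⟩ := exists_map_card (s := ({pt 0, pt 1} : Finset GolayPt)) (t := {pt a, pt c})
    (by rw [Finset.card_pair hne0, Finset.card_pair hne]) (by rw [Finset.card_pair hne0]; norm_num)
  obtain ⟨e0, l0, v0⟩ := pts_pair (show 0 < 24 by norm_num) (show 1 < 24 by norm_num) zero_ne_one
  obtain ⟨e1, l1, -⟩ := pts_pair ha hc hac.ne
  refine isConj_iff.mpr ⟨F.kap k, ?_⟩
  rw [F.b_conj _ (pairNo 0 1) (cd_lt _)]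
  refine congrArg F.b ?_
  show actG k (pairNo 0 1) = _
  rw [pairNo, pairNo, actG_cd k l0 v0]
  refine congrArg cd ?_
  refine pts_inj (permF_lt _ _) l1 ?_
  rw [pts_permF, e0, e1, ← hk]
  rfl

variable {F : Fr z} {E : Subgroup G} (hE : EData (F.b zIdx) E) (hU : UniqueEleven G)

include hE hU

/-- An involution not conjugate to `z` is conjugate to the sum of the first two positions. -/
theorem second_class {x : G} (hx : orderOf x = 2) (hn : ¬ IsConj z x) : IsConj (F.b (pairNo 0 1)) x := by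
  rcases hE.involutions hU hx with h | ⟨c, hc, a, hac, h⟩
  · exact absurd (F.zconj.trans h.symm) hn
  · exact (Fr.pair_isConj F hc hac).trans h.symm

omit hE hU in
theorem pair_not_conj (F : Fr z) : ¬ IsConj z (F.b (pairNo 0 1)) := (F.pair_out 1 (by norm_num) 0 (by norm_num)).1

end CfsgLib.J4Order
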