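import Cfsg.Agent.J4Local.Order.CountZGlue
import Cfsg.Agent.J4Local.Order.HexList
import Cfsg.Agent.J4Local.Order.CountT
import Cfsg.Agent.J4Local.Order.OrbitsK
import Cfsg.Agent.J4Type.Final

/-!
The order of a group of Janko-four type.
-/

set_option autoImplicit false
set_option maxRecDepth 100000

namespace CfsgLib.J4Order

open Cfsg CfsgLib.J4CentT CfsgLib.Golay CfsgLib.Golay.Cert MulAction

theorem repsK_eq_zRepLists : repsK = zRepLists := by decide +kernel

theorem repK1_eq_zTab : repK1 = (List.range 7).map (fun k => (elAt zTab k).list) := by decide +kernel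

theorem orbitSumK : OrbitSum invSetK :=
  ⟨fun _ => mem_invSetK, fun F hF => by rw [sum_pairsK F hF, repsK_eq_zRepLists]⟩

theorem conj_zTab (σ : M24) (h1 : σ * σ = 1) (h2 : actG σ zIdx = zIdx) :
    ∃ g, actG g zIdx = zIdx ∧ ∃ k < 7, g * σ * g⁻¹ = (elAt zTab k).sig := by
  obtain ⟨g, hg, L, hL, e⟩ := conj_repK1 (mem_invSetK.mpr ⟨h1, h2⟩)
  rw [repK1_eq_zTab, List.mem_map] at hL
  obtain ⟨k, hk, rfl⟩ := hL
  exact ⟨g, hg, k, List.mem_range.mp hk, e⟩

/-- The order of a group of Janko-four type. -/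
theorem order_of_type {G : Type*} [Group G] [Finite G] [IsSimpleGroup G] {z : G}
    (hJ : Cfsg.IsOfJankoFourTypeAt z) : Nat.card G = 86775571046077562880 :=
  CfsgLib.J4Type.card_of hJ fun S hs hz2 hH => by
    obtain ⟨e, he⟩ := Setup.hex_enum S hs hz2
    exact ⟨card_pairs_z_lists hJ hs hz2 hH he orbitSumK conj_zTab, card_pairs_t S hs hz2⟩

/-- The Janko group from its type. -/
theorem isJ4_of_type {G : Type*} [Group G] [Finite G] [IsSimpleGroup G] {z : G}
    (hJ : Cfsg.IsOfJankoFourTypeAt z) : Cfsg.IsJ4 G :=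
  ⟨inferInstance, order_of_type hJ⟩

end CfsgLib.J4Order
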