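import Cfsg.Agent.J4Local.Order.AwayMap

/-!
Every good pair fixes a hexad.
-/

set_option autoImplicit false
set_option linter.style.haveILetI false
set_option linter.unusedSectionVars false

namespace CfsgLib.J4Order

open Cfsg CfsgLib.J4CentT CfsgLib.J4Local Subgroup
open CfsgLib.J4Seven (conj_conjAut orderOf_conjAut orderOf_conj7)
open scoped Pointwise

local notation "M22'" => J4M22.M

variable {G : Type*} [Group G] [Finite G] {z : G} (S : Setup z)

/-- Splitting an element of even order into its 2-part and its odd part. -/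
theorem exists_parts {x w : G} (hw : w ∈ zpowers x) (hw2 : w * w = 1) :
    ∃ (y o : G) (a m : ℕ), y ∈ zpowers x ∧ o ∈ zpowers x ∧ Odd m ∧ y ^ 2 ^ a = 1 ∧ o ^ m = 1 ∧
      x = y * o ∧ w ∈ zpowers y := by
  obtain ⟨a, m, hm, hn⟩ := Nat.exists_eq_two_pow_mul_odd (orderOf_pos x).ne'
  obtain ⟨r, t, hrt⟩ : ∃ r t : ℤ, r * m + t * (2 ^ a : ℕ) = 1 := by
    refine Int.isCoprime_iff_gcd_eq_one.2 ?_ |> fun h => h
    rw [Int.gcd_natCast_natCast]
    exact (Nat.coprime_two_right.2 hm).pow_right a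
  have h1 : x ^ ((orderOf x : ℕ) : ℤ) = 1 := by rw [zpow_natCast, pow_orderOf_eq_one]
  refine ⟨x ^ (r * m), x ^ (t * (2 ^ a : ℕ)), a, m, zpow_mem (mem_zpowers x) _, zpow_mem (mem_zpowers x) _, hm,
    ?_, ?_, by rw [← zpow_add, hrt, zpow_one], ?_⟩
  · rw [← zpow_natCast, ← zpow_mul, show r * m * ((2 ^ a : ℕ) : ℤ) = ((orderOf x : ℕ) : ℤ) * r by
      rw [hn]; push_cast; ring, zpow_mul, h1, one_zpow]
  · rw [← zpow_natCast, ← zpow_mul, show t * ((2 ^ a : ℕ) : ℤ) * m = ((orderOf x : ℕ) : ℤ) * t by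
      rw [hn]; push_cast; ring, zpow_mul, h1, one_zpow]
  · obtain ⟨i, rfl⟩ := mem_zpowers_iff.1 hw
    obtain ⟨l, hl⟩ := hm
    refine mem_zpowers_iff.2 ⟨i, ?_⟩
    have h2 : (x ^ i) ^ ((m : ℕ) : ℤ) = x ^ i := by
      rw [zpow_natCast, hl, pow_succ, pow_mul, pow_two, hw2, one_pow, one_mul]
    have h3 : (x ^ i) ^ r = (x ^ i) ^ (r % 2) := by
      conv_lhs => rw [← Int.mul_ediv_add_emod r 2, zpow_add, zpow_mul, zpow_two, hw2, one_zpow, one_mul]
    have hm2 : r % 2 = 1 ∨ 2 ^ a = 1 := by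
      rcases Nat.eq_zero_or_pos a with rfl | ha
      · exact Or.inr rfl
      · left
        obtain ⟨a, rfl⟩ : ∃ b, a = b + 1 := ⟨a - 1, by omega⟩
        have := congrArg (· % 2) hrt
        simp only [hl] at this
        push_cast [pow_succ] at this
        ring_nf at this
        omega
    rcases hm2 with e | e
    · rw [← zpow_mul, show r * m * i = i * m * r by ring, zpow_mul, zpow_mul, h2, h3, e, zpow_one]
    · -- the order is odd
      have hx1 : x ^ i = 1 := by
        rw [← h2, zpow_natCast, ← zpow_natCast, ← zpow_mul, mul_comm, zpow_mul, zpow_natCast,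
          show m = orderOf x by rw [hn, e, one_mul], pow_orderOf_eq_one, one_zpow]
      rw [hx1, ← zpow_mul, show r * m * i = i * (r * m) by ring, zpow_mul, hx1, one_zpow]

theorem Setup.good_fix (hJ : IsOfJankoFourTypeAt z) {p : G} (hp : S.HexFacts p) {u v : G} (h : S.Good (u, v)) :
    0 < S.fix u v := by
  classical
  obtain ⟨P, g, ψ, hP, hg, hψ, hkerc, hψE, hgz, hE, hfix, hinner⟩ := S.exists_map hJ hp
  letI := S.hexAct
  haveI : Finite S.Hex := Nat.finite_of_card_ne_zero (by rw [hp.card_hex]; norm_num)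
  haveI : Fintype S.Hex := Fintype.ofFinite _
  haveI : Fact (Nat.Prime 2) := ⟨Nat.prime_two⟩
  obtain ⟨huz, hv2, hvz, hw⟩ := h
  dsimp only at huz hv2 hvz hw
  have hz2 : orderOf z = 2 := orderOf_z hP
  have hu2 : orderOf u = 2 := by
    obtain ⟨c, hc⟩ := isConj_iff.1 huz
    rw [← hc, orderOf_conj7, hz2]
  have hww : S.w * S.w = 1 := by
    rw [← hg, show g * z * g⁻¹ * (g * z * g⁻¹) = g * (z * z) * g⁻¹ by group, J4SylEleven.z_sq hP, mul_one,
      mul_inv_cancel]
  have huu : u * u = 1 := by rw [← pow_two, ← hu2, pow_orderOf_eq_one]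
  have hvv : v * v = 1 := by rw [← pow_two, ← hv2, pow_orderOf_eq_one]
  have huinv : u⁻¹ = u := inv_eq_of_mul_eq_one_right huu
  have hwinv : S.w⁻¹ = S.w := inv_eq_of_mul_eq_one_right hww
  set x := u * v with hx
  have hxinv : u * x * u⁻¹ = x⁻¹ := by
    rw [hx, mul_inv_rev, huinv, inv_eq_of_mul_eq_one_right hvv, ← mul_assoc, huu, one_mul]
  have hinvz : ∀ k ∈ zpowers x, u * k * u⁻¹ = k⁻¹ := by
    intro k hk
    obtain ⟨i, rfl⟩ := mem_zpowers_iff.1 hk
    rw [← conj_zpow, hxinv, inv_zpow]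
  obtain ⟨y, o, a, m, hy, ho, hm, hya, hom, hxyo, hwy⟩ := exists_parts hw hww
  have hxH : ∀ k ∈ zpowers x, k ∈ S.H := by
    intro k hk
    obtain ⟨i, rfl⟩ := mem_zpowers_iff.1 hk
    obtain ⟨j, hj⟩ := mem_zpowers_iff.1 hw
    rw [Setup.H, mem_centralizer_singleton_iff, ← hj]
    exact ((Commute.refl x).zpow_zpow i j).eq
  have huH : u ∈ S.H := by
    rw [Setup.H, mem_centralizer_singleton_iff]
    have e := hinvz _ hw
    rw [hwinv] at e
    exact mul_inv_eq_iff_eq_mul.1 e
  have hcyo : Commute y o := by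
    obtain ⟨i, hi⟩ := mem_zpowers_iff.1 hy
    obtain ⟨j, hj⟩ := mem_zpowers_iff.1 ho
    rw [← hi, ← hj]
    exact (Commute.refl x).zpow_zpow i j
  have hvH : v ∈ S.H := by
    rw [show v = u * x by rw [hx, ← mul_assoc, huu, one_mul]]
    exact mul_mem huH (hxH x (mem_zpowers x))
  let U : ↥S.H := ⟨u, huH⟩
  let Y : ↥S.H := ⟨y, hxH y hy⟩
  let O : ↥S.H := ⟨o, hxH o ho⟩
  have hUU : U * U = 1 := Subtype.ext huu
  have hUinv : U⁻¹ = U := inv_eq_of_mul_eq_one_right hUU
  have hUY : U * Y * U⁻¹ = Y⁻¹ := Subtype.ext (hinvz y hy)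
  have hUO : U * O * U⁻¹ = O⁻¹ := Subtype.ext (hinvz o ho)
  have hYO : Commute Y O := Subtype.ext hcyo.eq
  have hψOodd : Odd (orderOf (ψ O)) :=
    hm.of_dvd_nat ((orderOf_map_dvd ψ O).trans (orderOf_dvd_of_pow_eq_one (Subtype.ext hom)))
  have hψUO : ψ U * ψ O * (ψ U)⁻¹ = (ψ O)⁻¹ := by rw [← map_inv, ← map_mul, ← map_mul, hUO, map_inv]
  -- a hexad fixed by the three elements is fixed by the pair
  have finish : ∀ ω : S.Hex, U • ω = ω → Y • ω = ω → O • ω = ω → 0 < S.fix u v := by
    intro ω h1 h2 h3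
    haveI : Nonempty {ω : S.Hex // S.Fixes u ω ∧ S.Fixes v ω} := ⟨⟨ω, (S.fixes_iff U ω).2 h1, by
      have e : v = ((U * (Y * O) : ↥S.H) : G) := by
        show v = u * (y * o)
        rw [← hxyo, hx, ← mul_assoc, huu, one_mul]
      rw [e]
      refine (S.fixes_iff _ ω).2 ?_
      rw [mul_smul, mul_smul, h3, h2, h1]⟩⟩
    exact Nat.card_pos
  -- the pair with the product of 2-power order
  set Ω : Set S.Hex := {ω | O • ω = ω} with hΩ
  have hΩU : ∀ ω ∈ Ω, U • ω ∈ Ω := fun ω (hω : O • ω = ω) => by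
    show O • (U • ω) = U • ω
    have e : O * U = U * O⁻¹ := by
      rw [← hUO, hUinv, show U * (U * O * U) = (U * U) * (O * U) by group, hUU, one_mul]
    rw [← mul_smul, e, mul_smul]
    congr 1
    rw [inv_smul_eq_iff, hω]
  have hΩY : ∀ ω ∈ Ω, Y • ω ∈ Ω := fun ω (hω : O • ω = ω) => by
    show O • (Y • ω) = Y • ω
    rw [← mul_smul, ← hYO.eq, mul_smul, hω]
  have hodd : Odd (Nat.card Ω) → 0 < S.fix u v := by
    intro hod
    set L : Subgroup ↥S.H := zpowers U ⊔ zpowers Y with hL
    have hnorm : zpowers U ≤ normalizer ((zpowers Y : Subgroup ↥S.H) : Set ↥S.H) := by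
      rw [zpowers_le]
      refine J4Seven.mem_norm_zpowers.2 ?_
      rw [hUY, zpowers_inv]
    have hLp : IsPGroup 2 L := by
      refine IsPGroup.to_sup_of_normal_right' ?_ ?_ hnorm
      · exact IsPGroup.of_card (n := 1) (by rw [Nat.card_zpowers, ← Subgroup.orderOf_coe, pow_one]; exact hu2)
      · obtain ⟨k, -, hk⟩ := (Nat.dvd_prime_pow Nat.prime_two).1
          (orderOf_dvd_of_pow_eq_one (show Y ^ 2 ^ a = 1 from Subtype.ext hya))
        exact IsPGroup.of_card (n := k) (by rw [Nat.card_zpowers, hk])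
    have hLΩ : ∀ l ∈ L, ∀ ω ∈ Ω, l • ω ∈ Ω := by
      let T : Submonoid ↥S.H :=
        { carrier := {l | ∀ ω ∈ Ω, l • ω ∈ Ω}
          one_mem' := fun ω hω => by rwa [one_smul]
          mul_mem' := fun {a b} ha hb ω hω => by rw [mul_smul]; exact ha _ (hb _ hω) }
      intro l hl
      have hle : L ≤ Subgroup.closure {U, Y} := sup_le
        (zpowers_le.2 (subset_closure (Or.inl rfl))) (zpowers_le.2 (subset_closure (Or.inr rfl)))
      have := hle hl
      rw [← Subgroup.mem_toSubmonoid, Subgroup.closure_toSubmonoid_of_finite] at this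
      exact (Submonoid.closure_le.2 (by rintro k (rfl | rfl); exacts [hΩU, hΩY]) : _ ≤ T) this
    letI : MulAction L Ω :=
      { smul := fun l ω => ⟨(l : ↥S.H) • (ω : S.Hex), hLΩ l l.2 ω ω.2⟩
        one_smul := fun ω => Subtype.ext (one_smul ↥S.H (ω : S.Hex))
        mul_smul := fun k l ω => Subtype.ext (mul_smul (k : ↥S.H) (l : ↥S.H) (ω : S.Hex)) }
    have hmod := hLp.card_modEq_card_fixedPoints Ω
    obtain ⟨⟨⟨ω, hω⟩, hf⟩⟩ : Nonempty (MulAction.fixedPoints L Ω) := by
      by_contra hne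
      rw [not_nonempty_iff] at hne
      unfold Nat.ModEq at hmod
      rw [Nat.card_of_isEmpty (α := MulAction.fixedPoints L Ω), Nat.odd_iff.1 hod] at hmod
      norm_num at hmod
    exact finish ω (congrArg Subtype.val (hf ⟨U, mem_sup_left (mem_zpowers U)⟩))
      (congrArg Subtype.val (hf ⟨Y, mem_sup_right (mem_zpowers Y)⟩)) hω
  have hact : ∀ k : ↥S.H, (∀ ω : S.Hex, k • ω = ω) ↔ ψ k = 1 := fun k => by
    rw [hfix]; exact forall_congr' fun ω => (S.fixes_iff k ω).symm
  have hcardΩ : Nat.card Ω = S.fix o o := by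
    rw [show S.fix o o = _ from S.fix_eq O O]
    exact Nat.card_congr (Equiv.subtypeEquivRight fun ω => (and_self_iff).symm)
  -- the element conjugate to `v`
  set v0 := u * y with hv0
  obtain ⟨l, hl⟩ := hm
  have hvconj : IsConj v0 v := by
    refine isConj_iff.2 ⟨(o ^ (l + 1))⁻¹, ?_⟩
    have ho2 : o ^ (l + 1) * o ^ (l + 1) = o := by
      rw [← pow_add, show l + 1 + (l + 1) = m + 1 by omega, pow_succ, hom, one_mul]
    set o' := o ^ (l + 1)
    have hc : u * o' * u⁻¹ = o'⁻¹ := hinvz _ (pow_mem ho _)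
    rw [inv_inv, hv0]
    calc o'⁻¹ * (u * y) * o' = u * (o' * (y * o')) := by rw [← hc]; group
      _ = u * (y * (o' * o')) := by
          rw [← mul_assoc o', ← (show Commute y o' from hcyo.pow_right _).eq, mul_assoc y]
      _ = v := by rw [ho2, ← hxyo, hx, ← mul_assoc, huu, one_mul]
  have hv0z : ¬ IsConj z v0 := fun e => hvz (e.trans hvconj)
  have hv0o : orderOf v0 = 2 := by
    obtain ⟨c, hc⟩ := isConj_iff.1 hvconj
    rw [← hv2, ← hc, orderOf_conj7]
  rcases odd_inverted hψOodd hψUO with h1 | h3 | h5 | h11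
  · -- the odd part acts trivially
    refine hodd ?_
    have : ∀ ω : S.Hex, O • ω = ω := (hact O).2 (orderOf_eq_one_iff.1 h1)
    rw [show Ω = Set.univ from Set.eq_univ_of_forall this, Nat.card_univ, hp.card_hex]
    decide
  · refine hodd ?_
    rw [hcardΩ]
    refine hp.three_odd o O.2 fun ω => ?_
    exact (S.fixes_iff (O ^ 3) ω).2 ((hact _).2 (by rw [map_pow, ← h3, pow_orderOf_eq_one]) ω)
  · -- order five
    obtain ⟨ω0, hω0⟩ : ∃ ω : S.Hex, O • ω ≠ ω := by
      by_contra hne
      push Not at hne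
      rw [(hact O).1 hne, orderOf_one] at h5
      norm_num at h5
    have hO5 : ∀ ω : S.Hex, O ^ 5 • ω = ω := (hact _).2 (by rw [map_pow, ← h5, pow_orderOf_eq_one])
    have hΩ2 : Nat.card Ω = 2 := by
      rw [hcardΩ]
      exact hp.five_two o O.2 (fun ω => (S.fixes_iff (O ^ 5) ω).2 (hO5 ω))
        ⟨ω0, fun e => hω0 ((S.fixes_iff O ω0).1 e)⟩
    -- an inverting involution fixes at most fifteen hexads outside
    have hout : ∀ T : ↥S.H, T * O * T⁻¹ = O⁻¹ →
        Nat.card {ω : S.Hex // T • ω = ω ∧ O • ω ≠ ω} ≤ 15 := by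
      intro T hT
      set A := {ω : S.Hex // T • ω = ω ∧ O • ω ≠ ω}
      let F : A × Fin 5 → {ω : S.Hex // O • ω ≠ ω} := fun q => ⟨O ^ (q.2 : ℕ) • q.1.1, fun e => q.1.2.2 (by
        rw [← mul_smul, ← pow_succ', pow_succ, mul_smul] at e
        exact MulAction.injective (O ^ (q.2 : ℕ)) e)⟩
      have hper : ∀ (k : ℕ) (ω : S.Hex), O ^ k • ω = O ^ (k % 5) • ω := by
        intro k ω
        conv_lhs => rw [← Nat.mod_add_div k 5, pow_add, mul_smul, pow_mul]
        congr 1
        generalize k / 5 = j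
        induction j with
        | zero => rw [pow_zero, one_smul]
        | succ j ih => rw [pow_succ, mul_smul, hO5, ih]
      have hF : Function.Injective F := by
        rintro ⟨⟨A1, hA1, hA1'⟩, i⟩ ⟨⟨B1, hB1, hB1'⟩, j⟩ hij
        have e : O ^ (i : ℕ) • A1 = O ^ (j : ℕ) • B1 := congrArg Subtype.val hij
        have hB : B1 = O ^ ((i : ℕ) + 4 * j) • A1 := by
          rw [Nat.add_comm, pow_add, mul_smul, e, ← mul_smul, ← pow_add, hper,
            show (4 * (j : ℕ) + j) % 5 = 0 by omega, pow_zero, one_smul]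
        set k := (i : ℕ) + 4 * j
        have hTk : T * O ^ k = (O ^ k)⁻¹ * T := by
          rw [← inv_pow, ← hT, conj_pow, inv_mul_cancel_right]
        have h2 : (O ^ k)⁻¹ • A1 = O ^ k • A1 := by
          calc (O ^ k)⁻¹ • A1 = ((O ^ k)⁻¹ * T) • A1 := by rw [mul_smul, hA1]
            _ = T • (O ^ k • A1) := by rw [← hTk, mul_smul]
            _ = O ^ k • A1 := by rw [← hB, hB1]
        have hA2 : O ^ (k + k) • A1 = A1 := by
          rw [pow_add, mul_smul, ← h2, smul_inv_smul]
        rcases Nat.eq_zero_or_pos (k % 5) with hk | hk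
        · have hij' : i = j := Fin.ext (by omega)
          subst hij'
          exact Prod.ext (Subtype.ext (MulAction.injective (O ^ (i : ℕ)) e)) rfl
        · exfalso
          apply hA1'
          have hmul : ∀ n : ℕ, O ^ ((k + k) * n) • A1 = A1 := by
            intro n
            induction n with
            | zero => rw [mul_zero, pow_zero, one_smul]
            | succ n ih => rw [mul_add, mul_one, pow_add, mul_smul, hA2, ih]
          obtain ⟨n, hn⟩ : ∃ n, (k + k) * n % 5 = 1 := by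
            have : k % 5 = 1 ∨ k % 5 = 2 ∨ k % 5 = 3 ∨ k % 5 = 4 := by omega
            rcases this with e' | e' | e' | e'
            · exact ⟨3, by omega⟩
            · exact ⟨4, by omega⟩
            · exact ⟨1, by omega⟩
            · exact ⟨2, by omega⟩
          have := hmul n
          rwa [hper, hn, pow_one] at this
      have h75 : Nat.card {ω : S.Hex // O • ω ≠ ω} = 75 := by
        have e := Nat.card_congr (Equiv.sumCompl (fun ω : S.Hex => O • ω = ω))
        rw [Nat.card_sum, hp.card_hex, show Nat.card {ω : S.Hex // O • ω = ω} = 2 from hΩ2] at e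
        change Nat.card {ω : S.Hex // ¬ O • ω = ω} = 75
        omega
      have := Nat.card_le_card_of_injective F hF
      rw [Nat.card_prod, Nat.card_fin, h75] at this
      omega
    have hsplit : ∀ T : ↥S.H, S.fix T T =
        Nat.card {ω : S.Hex // T • ω = ω ∧ O • ω = ω} + Nat.card {ω : S.Hex // T • ω = ω ∧ O • ω ≠ ω} := by
      intro T
      rw [S.fix_eq T T, ← Nat.card_sum]
      refine Nat.card_congr ((Equiv.subtypeEquivRight fun ω => and_self_iff).trans ?_)
      exact (Equiv.sumCompl (fun q : {ω : S.Hex // T • ω = ω} => O • q.1 = q.1)).symm.trans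
        (Equiv.sumCongr (Equiv.subtypeSubtypeEquivSubtypeInter _ (fun ω => O • ω = ω))
          (Equiv.subtypeSubtypeEquivSubtypeInter _ (fun ω => ¬ O • ω = ω)))
    obtain ⟨m5, hm5⟩ := mem_inn_of_odd hψOodd (pow_orderOf_eq_one _)
    have hm5o : orderOf m5 = 5 := by rw [← orderOf_conjAut, hm5, h5]
    -- swappers are outer with five fixed hexads
    have swapper : ∀ T : ↥S.H, orderOf (T : G) = 2 → T * O * T⁻¹ = O⁻¹ → (∃ ω ∈ Ω, T • ω ≠ ω) →
        S.fix T T = 5 ∧ ¬ IsConj z T := by
      intro T hTo hT ⟨ω1, hω1, hT1⟩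
      have hTΩ : ∀ ω ∈ Ω, T • ω ∈ Ω := fun ω (hω : O • ω = ω) => by
        show O • (T • ω) = T • ω
        have e : O * T = T * O⁻¹ := by
          rw [eq_comm, ← mul_inv_eq_iff_eq_mul, ← conj_inv, hT, inv_inv]
        rw [← mul_smul, e, mul_smul]
        congr 1
        rw [inv_smul_eq_iff, hω]
      have h0 : Nat.card {ω : S.Hex // T • ω = ω ∧ O • ω = ω} = 0 := by
        haveI : IsEmpty {ω : S.Hex // T • ω = ω ∧ O • ω = ω} := by
          refine ⟨fun ⟨ω, hT2, hω⟩ => ?_⟩
          obtain ⟨c1, c2, hc, hc'⟩ := Nat.card_eq_two_iff.1 hΩ2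
          have hh : ∀ q : Ω, q = c1 ∨ q = c2 := fun q => by
            have := hc'.ge (Set.mem_univ q)
            simpa using this
          have hne : (⟨ω, hω⟩ : Ω) ≠ ⟨ω1, hω1⟩ := fun e => hT1 (by
            rw [show ω1 = ω from (congrArg Subtype.val e).symm]; exact hT2)
          rcases hh ⟨ω, hω⟩ with a1 | a1 <;> rcases hh ⟨ω1, hω1⟩ with a2 | a2 <;>
            rcases hh ⟨T • ω1, hTΩ _ hω1⟩ with a3 | a3
          all_goals first
            | exact hne (a1.trans a2.symm)
            | exact hT1 (congrArg Subtype.val (a3.trans a2.symm))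
            | exact hne (Subtype.ext (MulAction.injective T (by
                show T • ω = T • ω1
                rw [hT2]
                exact congrArg Subtype.val (a1.trans a3.symm))))
        exact Nat.card_of_isEmpty
      have hle : S.fix T T ≤ 15 := by rw [hsplit, h0, zero_add]; exact hout T hT
      obtain ⟨ω2, hω2⟩ : ∃ ω : S.Hex, ¬ S.Fixes (T : G) ω := ⟨ω1, fun e => hT1 ((S.fixes_iff T ω1).1 e)⟩
      rcases hp.invol T T.2 hTo ⟨ω2, hω2⟩ with ⟨hf, hin⟩ | ⟨hf, -⟩ | ⟨hf, -, hnz⟩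
      · exfalso
        -- an inner one would be a square modulo the element of order five
        obtain ⟨k, hk⟩ := hinner T hin
        have hkinv : k * m5 * k⁻¹ = m5⁻¹ := J4M22.conj_injective (by
          rw [map_mul, map_mul, map_inv, map_inv, hk, hm5, ← map_inv ψ, ← map_mul, ← map_mul, hT, map_inv])
        obtain ⟨n, i, hn, rfl⟩ := square_of_inverting_five hm5o hkinv
        obtain ⟨N', hN'⟩ := hψ (MulAut.conj n)
        obtain ⟨j, hj⟩ := mem_zpowers_iff.1 hn
        have hNΩ : ∀ ω ∈ Ω, N'⁻¹ • ω ∈ Ω := fun ω (hω : O • ω = ω) => by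
          show O • (N'⁻¹ • ω) = N'⁻¹ • ω
          have hker : ψ (N' * O * N'⁻¹ * (O ^ j)⁻¹) = 1 := by
            rw [map_mul, map_mul, map_mul, map_inv, map_inv, map_zpow, hN', ← hm5, ← map_inv, ← map_mul, ← map_mul,
              ← hj, map_zpow, mul_inv_cancel]
          have h1 := (hact _).2 hker ω
          have hOj : (O ^ j)⁻¹ • ω = ω := by
            have : O ∈ MulAction.stabilizer ↥S.H ω := hω
            exact inv_mem (zpow_mem this j)
          rw [mul_smul, hOj, mul_smul, mul_smul] at h1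
          exact (smul_eq_iff_eq_inv_smul _).1 h1
        have hsq : ∀ q : Ω, (N'⁻¹ * N'⁻¹) • (q : S.Hex) = q := by
          intro q
          obtain ⟨c1, c2, hc, hc'⟩ := Nat.card_eq_two_iff.1 hΩ2
          have hh : ∀ q : Ω, q = c1 ∨ q = c2 := fun q => by simpa using hc'.ge (Set.mem_univ q)
          let f : Ω → Ω := fun q => ⟨N'⁻¹ • (q : S.Hex), hNΩ _ q.2⟩
          have hf : Function.Injective f := fun a b e =>
            Subtype.ext (MulAction.injective N'⁻¹ (congrArg Subtype.val e))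
          rw [mul_smul]
          show ((f (f q) : Ω) : S.Hex) = q
          refine congrArg Subtype.val ?_
          rcases hh q with a0 | a0 <;> rcases hh (f q) with a1 | a1 <;> rcases hh (f (f q)) with a2 | a2 <;>
            first
              | exact a2.trans a0.symm
              | (have e := a1.trans a0.symm; rw [e, e])
              | (have e := hf (a2.trans a1.symm); rw [e, e])
        have hker : ψ (T⁻¹ * (N' * N' * O ^ i)) = 1 := by
          rw [map_mul, map_inv, ← hk]
          simp only [map_mul, map_zpow, hN', ← hm5, pow_two, inv_mul_cancel]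
        have h1 := (hact _).2 hker ω1
        have hOi : O ^ i • ω1 = ω1 := zpow_mem (show O ∈ MulAction.stabilizer ↥S.H ω1 from hω1) i
        have hNN : (N' * N') • ω1 = ω1 := by
          have := hsq ⟨ω1, hω1⟩
          rw [← mul_inv_rev] at this
          exact (inv_smul_eq_iff.1 this).symm
        rw [mul_smul, mul_smul, hOi, hNN, inv_smul_eq_iff] at h1
        exact hT1 h1.symm
      · omega
      · exact ⟨hf, hnz⟩
    -- the conjugate of `v`
    let V0 : ↥S.H := U * Y
    have hV0O : V0 * O * V0⁻¹ = O⁻¹ := by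
      rw [show V0 * O * V0⁻¹ = U * (Y * O * Y⁻¹) * U⁻¹ by simp only [V0]; group, hYO.eq, mul_inv_cancel_right, hUO]
    by_cases hU : ∀ ω ∈ Ω, U • ω = ω
    swap
    · push Not at hU
      exact absurd huz (swapper U hu2 hUO hU).2
    by_cases hV : ∀ ω ∈ Ω, V0 • ω = ω
    · haveI : Nonempty Ω := (Nat.card_ne_zero.1 (by rw [hΩ2]; norm_num)).1
      obtain ⟨ω, hω⟩ := Classical.arbitrary Ω
      refine finish ω (hU ω hω) ?_ hω
      have := hV ω hω
      rw [mul_smul] at this
      exact MulAction.injective U (this.trans (hU ω hω).symm)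
    push Not at hV
    have hfv : S.fix v0 v0 = 5 := (swapper V0 hv0o hV0O hV).1
    have hle : S.fix u u ≤ 17 := by
      rw [show S.fix u u = _ from hsplit U]
      have h1 : Nat.card {ω : S.Hex // U • ω = ω ∧ O • ω = ω} ≤ 2 := hΩ2 ▸
        Nat.card_le_card_of_injective (fun q => (⟨q.1, q.2.2⟩ : Ω)) fun a b e =>
          Subtype.ext (congrArg (fun q : Ω => q.1) e)
      have h2 := hout U hUO
      omega
    have hmove : ∃ ω : S.Hex, ¬ S.Fixes u ω := by
      by_contra hne
      push Not at hne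
      have h77 : S.fix u u = 77 := by
        rw [← hp.card_hex]
        exact Nat.card_congr (Equiv.subtypeUnivEquiv fun ω => ⟨hne ω, hne ω⟩)
      omega
    have hfu : S.fix u u = 13 := by
      rcases hp.invol u huH hu2 hmove with ⟨hf, -⟩ | ⟨hf, -⟩ | ⟨-, -, hnz⟩
      · exact hf
      · omega
      · exact absurd huz hnz
    exfalso
    have hgood : S.Good (u, v0) := ⟨huz, hv0o, hv0z, by
      show S.w ∈ zpowers (u * v0)
      rwa [hv0, ← mul_assoc, huu, one_mul]⟩
    refine hp.no_pair u v0 hgood hfu hfv fun ω => ?_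
    have hcomm : ψ Y * MulAut.conj m5 = MulAut.conj m5 * ψ Y := by
      rw [hm5, ← map_mul, ← map_mul, hYO.eq]
    have h2 : ψ (Y * Y) = 1 := by
      rw [map_mul]
      exact sq_of_cent_five hm5o (n := a)
        (by rw [← map_pow, show Y ^ 2 ^ a = 1 from Subtype.ext hya, map_one]) hcomm
    have h3 := (S.fixes_iff (Y * Y) ω).2 ((hact _).2 h2 ω)
    rwa [hv0, ← mul_assoc u u y, huu, one_mul]
  · -- order eleven
    exfalso
    have hψY : ψ Y = 1 := by
      obtain ⟨m', hm', e⟩ := J4SylEleven.exists_inner_eleven h11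
      have hcz : ψ Y ∈ zpowers (MulAut.conj m') := by
        rw [← J4SylEleven.centralizer_aut_eleven hm', mem_centralizer_singleton_iff, e, ← map_mul, ← map_mul,
          hYO.eq]
      have h11' := Subgroup.orderOf_dvd_natCard _ hcz
      rw [Nat.card_zpowers, orderOf_conjAut, hm'] at h11'
      exact orderOf_eq_one_iff.1 (Nat.eq_one_of_dvd_coprimes
        ((show Nat.Coprime 11 2 by norm_num).pow_right a) h11'
        ((orderOf_map_dvd ψ Y).trans (orderOf_dvd_of_pow_eq_one (Subtype.ext hya))))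
    -- `y` lies in the 2-core
    have hyE : y ∈ S.E := by
      haveI hEn : (S.E.subgroupOf S.H).Normal := ⟨fun e he h => mem_subgroupOf.2
        ((Subgroup.mem_normalizer_iff.1 (S.data.cent_norm h.2) _).1 (mem_subgroupOf.1 he))⟩
      set B := (S.E.subgroupOf S.H).subgroupOf ψ.ker with hB
      have hle : S.E.subgroupOf S.H ≤ ψ.ker := fun e he => hψE e (mem_subgroupOf.1 he)
      have hidx : B.index = 3 := by
        have := B.card_mul_index
        rw [hB, Nat.card_congr (Subgroup.subgroupOfEquivOfLe hle).toEquiv,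
          Nat.card_congr (Subgroup.subgroupOfEquivOfLe S.data.le_cent).toEquiv, S.data.card_E, hkerc] at this
        rw [hB]
        omega
      have h3 : (⟨Y, hψY⟩ : ψ.ker) ^ 3 ∈ B := hidx ▸ B.pow_index_mem _
      have h3' : y ^ 3 ∈ S.E := mem_subgroupOf.1 (mem_subgroupOf.1 h3)
      obtain ⟨r, t, hrt⟩ : ∃ r t : ℤ, r * (3 : ℕ) + t * (2 ^ a : ℕ) = 1 := by
        refine Int.isCoprime_iff_gcd_eq_one.2 ?_ |> fun h => h
        rw [Int.gcd_natCast_natCast]
        exact (show Nat.Coprime 3 2 by norm_num).pow_right a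
      have : y = (y ^ 3) ^ r * (y ^ 2 ^ a) ^ t := by
        rw [← zpow_natCast y 3, ← zpow_natCast y (2 ^ a), ← zpow_mul, ← zpow_mul, ← zpow_add,
          mul_comm ((3 : ℕ) : ℤ) r, mul_comm ((2 ^ a : ℕ) : ℤ) t, hrt, zpow_one]
      rw [this, hya, one_zpow, mul_one]
      exact zpow_mem h3' r
    -- an element of order eleven in the odd part
    have hd11 : 11 ∣ orderOf o := by
      rw [show orderOf o = orderOf O from (Subgroup.orderOf_coe O).symm ▸ rfl, ← h11]
      exact orderOf_map_dvd ψ O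
    set o11 := o ^ (orderOf o / 11) with ho11
    have ho11o : orderOf o11 = 11 := orderOf_pow_orderOf_div (orderOf_pos o).ne' hd11
    obtain ⟨x0, hx0, hx0o⟩ := J4SylEleven.exists_eleven_C hP
    set c := fun k : G => g⁻¹ * k * g with hc
    obtain ⟨hh, hhH, hh0⟩ := J4SylEleven.conj_eleven hP hx0.1 hx0o (y := c o11) (hgz ⟨o11, hxH _ (pow_mem ho _)⟩)
      (by
        simp only [hc]
        rw [show g⁻¹ * o11 * g = g⁻¹ * o11 * g⁻¹⁻¹ by group, orderOf_conj7, ho11o])
    set d := fun k : G => hh * c k * hh⁻¹ with hd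
    have hdm : ∀ k l : G, d (k * l) = d k * d l := fun k l => by simp only [hd, hc]; group
    have hdi : ∀ k : G, d k⁻¹ = (d k)⁻¹ := fun k => by simp only [hd, hc]; group
    have hu' : d u ∈ cH z := mul_mem (mul_mem hhH (hgz U)) (inv_mem hhH)
    have hy' : d y ∈ cE z := (Subgroup.mem_normalizer_iff.1 (H_le_normalizer_E hhH) _).1 ((hE y).1 hyE)
    have hxo : orderOf (d o11) = 11 := by
      simp only [hd]
      rw [orderOf_conj7]
      simp only [hc]
      rw [show g⁻¹ * o11 * g = g⁻¹ * o11 * g⁻¹⁻¹ by group, orderOf_conj7, ho11o]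
    have hcl := no_eleven hP (x := d o11) (u := d u) (y := d y) (zpowers_le.2 hx0 hh0) hxo hu'
      (by rw [← hdm, huu]; simp [hd, hc])
      (by rw [← hdi, ← hdi, ← hdm, ← hdm]; exact congrArg d (hinvz _ (pow_mem ho _))) hy'
      (by rw [← hdm, ← hdm]; exact congrArg d (hcyo.pow_right _).eq)
      (by rw [← hdi, ← hdi, ← hdm, ← hdm]; exact congrArg d (hinvz _ hy))
    rw [← hdm] at hcl
    have hback : ∀ k : G, IsConj k (d k) := fun k => isConj_iff.2 ⟨hh * g⁻¹, by simp only [hd, hc]; group⟩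
    exact hv0z (huz.trans ((hback u).trans (hcl.trans (hback (u * y)).symm)))

end CfsgLib.J4Order
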