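import Cfsg.Agent.J4SylEleven.HSide
import Cfsg.Agent.J4Local.M22Facts
import Cfsg.Agent.J4Local.FiveFix

/-!
Auxiliary facts for the elements fixing a hexad: odd elements of the automorphism group of the Mathieu group
of degree 22 which are inverted, and the elements inverting an element of order eleven in the involution
centraliser.
-/

set_option autoImplicit false
set_option linter.style.haveILetI false
set_option linter.unusedSectionVars false

namespace CfsgLib.J4Order

open Cfsg CfsgLib.J4Local Subgroup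
open scoped commutatorElement
open CfsgLib.J4Five (sq_mem_zpowers comm_mem_zpowers)
open CfsgLib.J4Seven (conj_conjAut orderOf_conjAut mem_norm_zpowers)

/-- In a group of order eight with one involution, an involutory automorphism which is nontrivial modulo the
centre has every inverted element as a commutator. -/
theorem exists_conj_of_inverted {G : Type*} [Group G] [Finite G] {R : Subgroup G} {w u : G}
    (hR : Nat.card R = 8) (_hw : w ∈ R) (hw1 : w ≠ 1) (hw2 : w * w = 1)
    (huniq : ∀ r ∈ R, r * r = 1 → r = 1 ∨ r = w) (hsq : ∀ r ∈ R, r * r = 1 ∨ r * r = w)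
    (hcen : ∀ r ∈ R, r * w = w * r) (huw : u * w = w * u) (hu : u * u = 1)
    (hnorm : ∀ r ∈ R, u * r * u ∈ R)
    (hnt : ∃ s ∈ R, u * s * u * s⁻¹ ≠ 1 ∧ u * s * u * s⁻¹ ≠ w)
    {y : G} (hy : y ∈ R) (hyi : u * y * u = y⁻¹) : ∃ e ∈ R, e * u * e⁻¹ = u * y := by
  classical
  haveI : Fintype G := Fintype.ofFinite G
  set c : G → G := fun e => u * e * u * e⁻¹ with hc
  set S : Finset G := Finset.univ.filter fun r => r ∈ R with hS
  have hSm : ∀ r, r ∈ S ↔ r ∈ R := fun r => by simp [hS]
  have hScard : S.card = 8 := by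
    rw [hS, ← Fintype.card_subtype, ← Nat.card_eq_fintype_card]; exact hR
  have huinv : u⁻¹ = u := inv_eq_of_mul_eq_one_right hu
  have hcR : ∀ e ∈ R, c e ∈ R := fun e he => mul_mem (hnorm e he) (inv_mem he)
  have hcT : ∀ e, u * c e * u = (c e)⁻¹ := fun e => by
    simp only [hc]
    calc u * (u * e * u * e⁻¹) * u = (u * u) * e * u * e⁻¹ * u := by group
      _ = e * u⁻¹ * e⁻¹ * u⁻¹ := by rw [hu, huinv, one_mul]
      _ = _ := by group
  have hwinv : w⁻¹ = w := inv_eq_of_mul_eq_one_right hw2
  -- the fixed points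
  have hfix : ∀ r ∈ R, u * r * u = r → r = 1 ∨ r = w := by
    intro r hr hfr
    by_contra hne
    push Not at hne
    have hrr : r * r = w := (hsq r hr).resolve_left fun e => (huniq r hr e).elim hne.1 hne.2
    obtain ⟨s, hs, hs1, hsw⟩ := hnt
    -- the eight elements
    have hsr : s ≠ 1 ∧ s ≠ w ∧ s ≠ r ∧ s ≠ r * w := by
      refine ⟨?_, ?_, ?_, ?_⟩ <;> intro e <;> rw [e] at hs1
      · exact hs1 (by rw [mul_one, hu, inv_one, one_mul])
      · exact hs1 (by rw [huw, mul_assoc w u u, hu, mul_one, mul_inv_cancel])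
      · exact hs1 (by rw [hfr, mul_inv_cancel])
      · refine hs1 ?_
        rw [show u * (r * w) * u * (r * w)⁻¹ = u * r * (w * u) * (r * w)⁻¹ by group, ← huw,
          show u * r * (u * w) * (r * w)⁻¹ = (u * r * u) * w * (r * w)⁻¹ by group, hfr, mul_inv_cancel]
    set L : Subgroup G := zpowers r with hL
    have hLR : L ≤ R := zpowers_le.2 hr
    have hor : orderOf r = 4 := by
      haveI : Fact (Nat.Prime 2) := ⟨Nat.prime_two⟩
      refine orderOf_eq_prime_pow (p := 2) (n := 1) ?_ ?_
      · rw [show 2 ^ 1 = 2 from rfl, pow_two, hrr]; exact hw1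
      · rw [show 2 ^ (1 + 1) = 2 * 2 from rfl, pow_mul, pow_two, pow_two, hrr, hw2]
    have hLc : Nat.card L = 4 := by rw [hL, Nat.card_zpowers, hor]
    have hidx : (L.subgroupOf R).index = 2 := by
      have h := (L.subgroupOf R).card_mul_index
      rw [Nat.card_congr (Subgroup.subgroupOfEquivOfLe hLR).toEquiv, hLc, hR] at h
      omega
    have hLfix : ∀ l ∈ L, u * l * u = l := by
      intro l hl
      obtain ⟨i, rfl⟩ := mem_zpowers_iff.1 hl
      have h1 : Commute u r := by
        show u * r = r * u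
        nth_rw 2 [← hfr]
        rw [show u * r * u * u = u * r * (u * u) by group, hu, mul_one]
      rw [(h1.zpow_right i).eq, mul_assoc, hu, mul_one]
    have hmem : ∀ {a : G}, a ∈ R → ((a ∈ L) ↔ ¬ a ∉ L) := fun _ => not_not.symm
    -- the commutator lies in the subgroup of index two
    have hcs : c s ∈ L := by
      by_cases hsL : s ∈ L
      · exact mul_mem (by rwa [hLfix s hsL]) (inv_mem hsL)
      · have h1 : u * s * u ∉ L := fun h => hsL (by
          have := hLfix _ h
          rw [show u * (u * s * u) * u = (u * u) * s * (u * u) by group, hu, one_mul, mul_one] at this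
          rw [this]; exact h)
        have := (Subgroup.mul_mem_iff_of_index_two hidx
          (a := ⟨u * s * u, hnorm s hs⟩) (b := ⟨s⁻¹, inv_mem hs⟩)).2
          (iff_of_false (fun h => h1 (mem_subgroupOf.1 h)) fun h => hsL (by simpa using inv_mem (mem_subgroupOf.1 h)))
        exact mem_subgroupOf.1 this
    have h2 : c s * c s = 1 := by
      have e := hcT s
      rw [hLfix _ hcs] at e
      nth_rw 2 [e]
      exact mul_inv_cancel _
    rcases huniq _ (hcR s hs) h2 with e | e
    · exact hs1 e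
    · exact hsw e
  -- the inverted elements
  set T : Finset G := S.filter fun r => u * r * u = r⁻¹ with hT
  have hT4 : T.card ≤ 4 := by
    by_cases hT2 : ∀ r ∈ T, r = 1 ∨ r = w
    · exact (Finset.card_le_card (t := {1, w}) fun r hr => by simpa using hT2 r hr).trans
        (Finset.card_le_two.trans (by norm_num))
    push Not at hT2
    obtain ⟨r, hr, hr1, hrw⟩ := hT2
    obtain ⟨hrR, hri⟩ := Finset.mem_filter.1 hr
    rw [hSm] at hrR
    have hrr : r * r = w := (hsq r hrR).resolve_left fun e => (huniq r hrR e).elim hr1 hrw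
    refine (Finset.card_le_card (t := {1, w, r, r⁻¹}) fun s hs => ?_).trans Finset.card_le_four
    obtain ⟨hsR, hsi⟩ := Finset.mem_filter.1 hs
    rw [hSm] at hsR
    simp only [Finset.mem_insert, Finset.mem_singleton]
    by_contra hne
    push Not at hne
    have hss : s * s = w := (hsq s hsR).resolve_left fun e => (huniq s hsR e).elim hne.1 hne.2.1
    have hrs : u * (r * s) * u = r * s := by
      have hr' : r⁻¹ = r * w := inv_eq_of_mul_eq_one_right (by rw [← mul_assoc, hrr, hw2])
      have hs' : s⁻¹ = w * s := inv_eq_of_mul_eq_one_right (by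
        rw [← mul_assoc, hcen s hsR, mul_assoc, hss, hw2])
      calc u * (r * s) * u = (u * r * u) * (u * s * u) := by
            rw [show u * r * u * (u * s * u) = u * r * (u * u) * (s * u) by group, hu, mul_one]; group
        _ = r * (w * w) * s := by rw [hri, hsi, hr', hs']; group
        _ = r * s := by rw [hw2, mul_one]
    rcases hfix _ (mul_mem hrR hsR) hrs with e | e
    · exact hne.2.2.2 (eq_inv_of_mul_eq_one_right e)
    · exact hne.2.2.1 (mul_left_cancel (e.trans hrr.symm))
  -- count the commutators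
  have hfib : ∀ b ∈ S.image c, (S.filter fun e => c e = b).card ≤ 2 := by
    intro b hb
    obtain ⟨a, ha, rfl⟩ := Finset.mem_image.1 hb
    refine (Finset.card_le_card (t := {a, a * w}) fun e he => ?_).trans Finset.card_le_two
    obtain ⟨he1, he2⟩ := Finset.mem_filter.1 he
    rw [hSm] at ha he1
    simp only [hc] at he2
    have h : u * (a⁻¹ * e) * u = a⁻¹ * e := by
      calc u * (a⁻¹ * e) * u = u * a⁻¹ * (u * u) * e * u := by rw [hu]; group
        _ = (u * a⁻¹ * u) * (u * e * u * e⁻¹) * e := by group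
        _ = (u⁻¹ * a⁻¹ * u⁻¹) * (u * a * u * a⁻¹) * e := by rw [he2, huinv]
        _ = _ := by group
    simp only [Finset.mem_insert, Finset.mem_singleton]
    rcases hfix _ (mul_mem (inv_mem ha) he1) h with e' | e'
    · exact Or.inl (inv_mul_eq_one.1 e').symm
    · exact Or.inr (inv_mul_eq_iff_eq_mul.1 e')
  have himg := Finset.card_le_mul_card_image_of_maps_to (f := c) (fun a ha => Finset.mem_image_of_mem c ha) 2 hfib
  have hsub : S.image c ⊆ T := fun b hb => by
    obtain ⟨a, ha, rfl⟩ := Finset.mem_image.1 hb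
    exact Finset.mem_filter.2 ⟨(hSm _).2 (hcR a ((hSm _).1 ha)), hcT a⟩
  have heq : S.image c = T := Finset.eq_of_subset_of_card_le hsub (by omega)
  obtain ⟨e, he, hey⟩ := Finset.mem_image.1 (heq.ge (Finset.mem_filter.2 ⟨(hSm _).2 hy, hyi⟩) : y ∈ S.image c)
  refine ⟨e, (hSm _).1 he, ?_⟩
  rw [← hey]
  simp only [hc]
  rw [show u * (u * e * u * e⁻¹) = (u * u) * (e * u * e⁻¹) by group, hu, one_mul]

/-- An involution inverting `x` of order eleven is conjugate to its product with any 2-element of `C_E(x)`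
it inverts. -/
theorem no_eleven {G : Type*} [Group G] [Finite G] {z : G} {P : Subgroup G} (hJ : IsOfJankoFourTypeWith z P)
    {x u y : G} (hx : x ∈ cC z P) (hxo : orderOf x = 11) (hu : u ∈ cH z) (hu2 : u * u = 1)
    (hux : u * x * u⁻¹ = x⁻¹) (hy : y ∈ cE z) (hyx : y * x = x * y) (huy : u * y * u⁻¹ = y⁻¹) :
    IsConj u (u * y) := by
  have huinv : u⁻¹ = u := inv_eq_of_mul_eq_one_right hu2
  set R := cE z ⊓ centralizer ({x} : Set G) with hR
  have hzR : z ∈ R := ⟨z_mem_E hJ, mem_centralizer_singleton_iff.2 (mem_cH.1 hx.1).symm⟩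
  have hRH : R ≤ cH z ⊓ centralizer ({x} : Set G) := inf_le_inf_right _ E_le_H
  have hz1 : z ≠ 1 := fun e => by
    have := orderOf_z hJ
    rw [e, orderOf_one] at this
    norm_num at this
  obtain ⟨e, -, he⟩ := exists_conj_of_inverted (R := R) (w := z) (u := u) (J4SylEleven.card_fixE hJ hx hxo) hzR hz1
    (J4SylEleven.z_sq hJ) (fun r hr h => J4SylEleven.invol_eq hJ hx hxo (hRH hr) h)
    (fun r hr => sq_mem_zpowers hJ hr.1) (fun r hr => mem_cH.1 (E_le_H hr.1)) (mem_cH.1 hu) hu2
    (fun r hr => by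
      have := J4SylEleven.fixE_conj hJ hx hxo hu (by rw [hux]; exact inv_mem (mem_zpowers x)) hr
      rwa [huinv] at this)
    (by
      by_contra hcon
      push Not at hcon
      obtain ⟨a, ha, e, he, hae, hinv⟩ := J4SylEleven.inverting hJ hx hxo hu hux
      have htriv : ∀ s ∈ R, ∃ q ∈ zpowers z, a * s * a⁻¹ = s * q := by
        intro s hs
        set s' := e⁻¹ * s * e with hs'
        have hs'R : s' ∈ R := mul_mem (mul_mem (inv_mem he) hs) he
        have h1 : u * s' * u⁻¹ = a * s * a⁻¹ := by rw [hs', hae]; group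
        obtain ⟨q, hq, hq'⟩ : ∃ q ∈ zpowers z, u * s' * u⁻¹ = q * s' := by
          refine ⟨u * s' * u * s'⁻¹, ?_, by rw [huinv]; group⟩
          by_cases h0 : u * s' * u * s'⁻¹ = 1
          · rw [h0]; exact one_mem _
          · rw [hcon s' hs'R h0]; exact mem_zpowers z
        have hqc : Commute q s' := by
          obtain ⟨i, rfl⟩ := mem_zpowers_iff.1 hq
          exact ((show Commute z s' from (mem_cH.1 (E_le_H hs'R.1)).symm)).zpow_left i
        obtain ⟨q', hq'z, hq''⟩ : ∃ q' ∈ zpowers z, s' = s * q' := by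
          refine ⟨⁅s⁻¹, e⁻¹⁆, ?_, by rw [hs', commutatorElement_def]; group⟩
          rcases comm_mem_zpowers hJ (inv_mem hs.1) (inv_mem he.1) with h | h <;> rw [h]
          · exact one_mem _
          · exact mem_zpowers z
        refine ⟨q' * q, mul_mem hq'z hq, ?_⟩
        rw [← h1, hq', hqc.eq, hq'', mul_assoc]
      -- `P` would centralise `R`
      have hPR : ∀ p ∈ P, ∀ s ∈ R, p * s = s * p := by
        intro p hp s hs
        have hpC : p ∈ cC z P := P_le_C hJ hp
        have hpx : Commute x p := (mem_centralizer_iff.1 hx.2 p hp).symm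
        have hnp : ∀ r ∈ R, p * r * p⁻¹ ∈ R := fun r hr => J4SylEleven.fixE_conj hJ hx hxo hpC.1
          (by rw [← hpx.eq, mul_inv_cancel_right]; exact mem_zpowers x) hr
        have hnp' : ∀ r ∈ R, p⁻¹ * r * p ∈ R := fun r hr => by
          have := J4SylEleven.fixE_conj hJ hx hxo (inv_mem hpC.1)
            (by rw [← (hpx.inv_right).eq, mul_inv_cancel_right]; exact mem_zpowers x) hr
          rwa [inv_inv] at this
        have hzc : ∀ g ∈ cH z, ∀ q ∈ zpowers z, g * q = q * g := fun g hg q hq => by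
          obtain ⟨i, rfl⟩ := mem_zpowers_iff.1 hq
          exact ((show Commute g z from mem_cH.1 hg)).zpow_right i
        -- conjugation by `p` agrees with conjugation by its inverse modulo the centre
        obtain ⟨q1, hq1, e1⟩ := htriv s hs
        obtain ⟨q2, hq2, e2⟩ := htriv _ (hnp s hs)
        have e3 : p⁻¹ * s * p * q1 = p * s * p⁻¹ * q2 := by
          rw [← e2, show a * (p * s * p⁻¹) * a⁻¹ = (a * p * a⁻¹) * (a * s * a⁻¹) * (a * p * a⁻¹)⁻¹ by group,
            hinv p hp, inv_inv, e1]
          rw [show p⁻¹ * (s * q1) * p = p⁻¹ * s * (q1 * p) by group, ← hzc p hpC.1 q1 hq1]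
          group
        have hq : q2 * q1⁻¹ ∈ zpowers z := mul_mem hq2 (inv_mem hq1)
        set q := q2 * q1⁻¹ with hqdef
        have e4 : p⁻¹ * s * p = p * s * p⁻¹ * q := by
          rw [hqdef, ← mul_assoc, ← e3, mul_inv_cancel_right]
        have hp3 : p ^ 3 = 1 := by
          have := congrArg Subtype.val (pow_card_eq_one' (G := ↥P) (x := ⟨p, hp⟩))
          rw [card_P hJ] at this
          exact this
        have hpp : p * p = p⁻¹ := eq_inv_of_mul_eq_one_left (by
          rw [← pow_two, ← pow_succ]; exact hp3)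
        have e5 : p * s * p⁻¹ = s * q := by
          calc p * s * p⁻¹ = (p * p)⁻¹ * s * (p * p) := by rw [hpp, inv_inv]
            _ = p⁻¹ * (p⁻¹ * s * p) * p := by group
            _ = p⁻¹ * (p * s * p⁻¹ * q) * p := by rw [e4]
            _ = s * (p⁻¹ * (q * p)) := by group
            _ = s * q := by rw [← hzc p hpC.1 q hq, inv_mul_cancel_left]
        have e6 : s * q ^ 3 = s := by
          calc s * q ^ 3 = ((s * q) * q) * q := by rw [pow_succ, pow_succ, pow_one]; group
            _ = p * (p * (p * s * p⁻¹) * p⁻¹) * p⁻¹ := by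
                rw [e5, show p * (s * q) * p⁻¹ = p * s * (q * p⁻¹) by group,
                  ← hzc p⁻¹ (inv_mem hpC.1) q hq, show p * s * (p⁻¹ * q) = p * s * p⁻¹ * q by group, e5,
                  show p * (s * q * q) * p⁻¹ = p * s * (q * q * p⁻¹) by group,
                  ← hzc p⁻¹ (inv_mem hpC.1) (q * q) (mul_mem hq hq),
                  show p * s * (p⁻¹ * (q * q)) = p * s * p⁻¹ * (q * q) by group, e5, mul_assoc]
            _ = (p * p * p) * s * (p * p * p)⁻¹ := by group
            _ = s := by rw [← pow_three', hp3]; group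
        have hq1' : q = 1 := by
          have h3 : q ^ 3 = 1 := mul_left_cancel (a := s) (by rw [e6, mul_one])
          have h2 : q ^ 2 = 1 := by
            obtain ⟨i, hi⟩ := mem_zpowers_iff.1 hq
            rw [← hi, ← zpow_natCast, ← zpow_mul, mul_comm, zpow_mul,
              zpow_natCast, pow_two, J4SylEleven.z_sq hJ, one_zpow]
          rw [pow_succ, h2, one_mul] at h3
          exact h3
        rw [hq1', mul_one] at e5
        exact mul_inv_eq_iff_eq_mul.1 e5
      have hle : R ≤ zpowers z := by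
        rw [← E_inf_centralizer hJ]
        exact fun s hs => ⟨hs.1, mem_centralizer_iff.2 fun p hp => hPR p hp s hs⟩
      have := Subgroup.card_le_of_le hle
      rw [J4SylEleven.card_fixE hJ hx hxo, Nat.card_zpowers, orderOf_z hJ] at this
      norm_num at this)
    (show y ∈ R from ⟨hy, mem_centralizer_singleton_iff.2 hyx⟩) (by rwa [huinv] at huy)
  exact isConj_iff.2 ⟨e, he⟩

/-! ### The automorphism group of the Mathieu group of degree 22 -/

open CfsgLib.J4M22 (conj_injective)

local notation "M" => J4M22.M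

theorem mem_inn_of_odd {a : MulAut M} {k : ℕ} (hk : Odd k) (ha : a ^ k = 1) : a ∈ Inn M := by
  have hidx : (Inn M).index = 2 := Golay.Cert.out_m22
  obtain ⟨j, rfl⟩ := hk
  have h2 : a ^ (2 * (j + 1)) ∈ Inn M := by
    rw [pow_mul]; exact pow_mem (Subgroup.sq_mem_of_index_two hidx a) _
  rwa [show 2 * (j + 1) = 2 * j + 1 + 1 by ring, pow_succ, ha, one_mul] at h2

/-- The order of an element of odd order which is inverted. -/
theorem odd_inverted {a b : MulAut M} (hodd : Odd (orderOf a)) (hinv : b * a * b⁻¹ = a⁻¹) :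
    orderOf a = 1 ∨ orderOf a = 3 ∨ orderOf a = 5 ∨ orderOf a = 11 := by
  obtain ⟨m, rfl⟩ := mem_inn_of_odd hodd (pow_orderOf_eq_one a)
  rw [orderOf_conjAut] at hodd ⊢
  rw [conj_conjAut, ← map_inv] at hinv
  have hb : b m = m⁻¹ := conj_injective hinv
  have hbig : ∀ r : ℕ, r = 5 ∨ r = 7 ∨ r = 11 → r ∣ orderOf m → orderOf m = r := by
    intro r hr hd
    have hmr : orderOf (m ^ (orderOf m / r)) = r := orderOf_pow_orderOf_div (orderOf_pos m).ne' hd
    have hm : m ∈ zpowers (m ^ (orderOf m / r)) := by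
      rw [← J4M22.centralizer_eq_zpowers (by rw [hmr]; exact hr), mem_centralizer_singleton_iff]
      exact (Commute.self_pow m _).eq
    have := Subgroup.orderOf_dvd_natCard _ hm
    rw [Nat.card_zpowers, hmr] at this
    exact Nat.dvd_antisymm this hd
  have hdvd : orderOf m ∣ 443520 := J4M22.card_M ▸ orderOf_dvd_natCard m
  by_cases h5 : 5 ∣ orderOf m
  · exact Or.inr (Or.inr (Or.inl (hbig 5 (Or.inl rfl) h5)))
  by_cases h7 : 7 ∣ orderOf m
  · exact absurd hb (J4Seven.not_inverted (hbig 7 (Or.inr (Or.inl rfl)) h7) b)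
  by_cases h11 : 11 ∣ orderOf m
  · exact Or.inr (Or.inr (Or.inr (hbig 11 (Or.inr (Or.inr rfl)) h11)))
  have hco : (orderOf m).Coprime (2 ^ 7 * 5 * 7 * 11) := by
    refine Nat.Coprime.mul_right (Nat.Coprime.mul_right (Nat.Coprime.mul_right
      ((Nat.coprime_two_right.2 hodd).pow_right 7) ?_) ?_) ?_
    · exact ((show Nat.Prime 5 by norm_num).coprime_iff_not_dvd.2 h5).symm
    · exact ((show Nat.Prime 7 by norm_num).coprime_iff_not_dvd.2 h7).symm
    · exact ((show Nat.Prime 11 by norm_num).coprime_iff_not_dvd.2 h11).symm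
  have h9 : orderOf m ∣ 3 ^ 2 := hco.dvd_of_dvd_mul_left (by norm_num; exact hdvd)
  haveI : Fact (Nat.Prime 3) := ⟨Nat.prime_three⟩
  obtain ⟨S, hS⟩ := (IsPGroup.of_card (n := (Nat.card (zpowers m)).factorization 3) (by
    obtain ⟨i, hi, e⟩ := (Nat.dvd_prime_pow Nat.prime_three).1 h9
    rw [Nat.card_zpowers, e, Nat.Prime.factorization_pow Nat.prime_three, Finsupp.single_eq_same]) :
    IsPGroup 3 (zpowers m)).exists_le_sylow
  rcases (Nat.dvd_prime Nat.prime_three).1
    (orderOf_dvd_of_pow_eq_one ((J4M22.sylow_three S).1.2 m (hS (mem_zpowers m)))) with e | e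
  · exact Or.inl e
  · exact Or.inr (Or.inl e)

/-- A 2-element centralising an element of order five squares to one. -/
theorem sq_of_cent_five {a : MulAut M} {m : M} (hm : orderOf m = 5) {n : ℕ} (ha : a ^ 2 ^ n = 1)
    (hc : a * MulAut.conj m = MulAut.conj m * a) : a * a = 1 := by
  obtain ⟨k, hk⟩ : a * a ∈ Inn M := by
    rw [← pow_two]; exact Subgroup.sq_mem_of_index_two Golay.Cert.out_m22 a
  have hkm : k * m = m * k := conj_injective (by
    rw [map_mul, map_mul, hk]; exact ((show Commute a (MulAut.conj m) from hc).mul_left hc).eq)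
  have hkz : k ∈ zpowers m := by
    rw [← J4M22.centralizer_eq_zpowers (Or.inl hm), mem_centralizer_singleton_iff]; exact hkm
  have h5 := Subgroup.orderOf_dvd_natCard _ hkz
  rw [Nat.card_zpowers, hm] at h5
  have h2 : orderOf k ∣ 2 ^ n := by
    refine orderOf_dvd_of_pow_eq_one (J4M22.conj_injective ?_)
    rw [map_pow, hk, map_one, ← pow_two, ← pow_mul, mul_comm, pow_mul, ha, one_pow]
  have : k = 1 := orderOf_eq_one_iff.1 (Nat.eq_one_of_dvd_coprimes
    ((show Nat.Coprime 5 2 by norm_num).pow_right n) h5 h2)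
  rw [← hk, this, map_one]

/-- An element inverting an element of order five is a square modulo it. -/
theorem square_of_inverting_five {x m : M} (hx : orderOf x = 5) (hm : m * x * m⁻¹ = x⁻¹) :
    ∃ (n : M) (i : ℤ), n * x * n⁻¹ ∈ zpowers x ∧ m = n ^ 2 * x ^ i := by
  set Z := zpowers x with hZ
  set N := normalizer (Z : Set M)
  haveI : Fact (Nat.Prime 5) := ⟨by norm_num⟩
  have hZc : Nat.card Z = 5 := by rw [hZ, Nat.card_zpowers, hx]
  haveI : IsCyclic Z := isCyclic_of_prime_card (p := 5) hZc
  set φ := Z.normalizerMonoidHom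
  have hker : φ.ker = Z.subgroupOf N := by
    have hCZ : centralizer (Z : Set M) = Z := by
      rw [hZ, Subgroup.zpowers_eq_closure, Subgroup.centralizer_closure,
        J4M22.centralizer_eq_zpowers (Or.inl hx), ← Subgroup.zpowers_eq_closure]
    rw [Subgroup.normalizerMonoidHom_ker]
    exact congrArg (fun K : Subgroup M => K.subgroupOf N) hCZ
  have hZN : Z ≤ N := Subgroup.le_normalizer
  have hkc : Nat.card φ.ker = 5 := by
    rw [hker, Nat.card_congr (Subgroup.subgroupOfEquivOfLe hZN).toEquiv, hZc]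
  have haut : Nat.card (MulAut Z) = 4 := by
    rw [IsCyclic.card_mulAut, hZc, Nat.totient_prime (by norm_num)]
  have hsurj : Function.Surjective φ := by
    rw [← MonoidHom.range_eq_top]
    refine Subgroup.eq_top_of_card_eq _ ?_
    have h := φ.ker.card_mul_index
    rw [hkc, Subgroup.index_ker, J4M22.card_normalizer_five hx] at h
    rw [haut]
    omega
  have hmN : m ∈ N := mem_norm_zpowers.2 (by rw [hm, Subgroup.zpowers_inv])
  haveI : IsCyclic (ZMod (Nat.card Z))ˣ := by rw [hZc]; infer_instance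
  haveI : IsCyclic (MulAut Z) := isCyclic_of_surjective _ (IsCyclic.mulAutMulEquiv Z).symm.surjective
  obtain ⟨g, hg⟩ := IsCyclic.exists_generator (α := MulAut Z)
  obtain ⟨i, hi⟩ := mem_zpowers_iff.1 (hg (φ ⟨m, hmN⟩))
  have h2 : φ ⟨m, hmN⟩ * φ ⟨m, hmN⟩ = 1 := by
    rw [← map_mul, ← MonoidHom.mem_ker, hker, mem_subgroupOf]
    show m * m ∈ zpowers x
    rw [← J4M22.centralizer_eq_zpowers (Or.inl hx), mem_centralizer_singleton_iff]
    show m * m * x = x * (m * m)
    have e : m * x⁻¹ * m⁻¹ = x := by rw [← conj_inv, hm, inv_inv]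
    calc m * m * x = m * (m * x * m⁻¹) * m⁻¹ * (m * m) := by group
      _ = (m * x⁻¹ * m⁻¹) * (m * m) := by rw [hm]
      _ = _ := by rw [e]
  have hg4 : orderOf g = 4 := by rw [← haut]; exact orderOf_eq_card_of_forall_mem_zpowers hg
  have h4 : (4 : ℤ) ∣ i + i := by
    have : g ^ (i + i) = 1 := by rw [zpow_add, hi, h2]
    have := orderOf_dvd_iff_zpow_eq_one.2 this
    rwa [hg4] at this
  obtain ⟨j, hj⟩ : (2 : ℤ) ∣ i := by omega
  obtain ⟨⟨n, hn⟩, hnφ⟩ := hsurj (g ^ j)
  have : (⟨n, hn⟩ ^ 2 : N)⁻¹ * ⟨m, hmN⟩ ∈ φ.ker := by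
    rw [MonoidHom.mem_ker, map_mul, map_inv, map_pow, hnφ, ← hi, hj, ← zpow_natCast, ← zpow_mul, mul_comm j]
    simp
  rw [hker, mem_subgroupOf] at this
  obtain ⟨k, hk⟩ := mem_zpowers_iff.1 this
  refine ⟨n, k, ?_, ?_⟩
  · exact (mem_norm_zpowers.1 hn).le (mem_zpowers _)
  · rw [hk]; simp

end CfsgLib.J4Order
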