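import Cfsg.Agent.J4Local.Order.Hex
import Cfsg.Agent.J4Local.Order.AwayAux

/-!
The action on the hexads and its kernel, as the kernel of a map onto the automorphism group of the Mathieu
group of degree 22.
-/

set_option autoImplicit false
set_option linter.style.haveILetI false
set_option linter.unusedSectionVars false

namespace CfsgLib.J4Order

open Cfsg CfsgLib.J4CentT CfsgLib.J4Local Subgroup
open CfsgLib.J4Seven (conj_conjAut orderOf_conjAut orderOf_conj7)
open scoped Pointwise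

local notation "M22'" => J4M22.M

variable {G : Type*} [Group G] [Finite G] {z : G} (S : Setup z)

theorem map_conj_conj (A : Subgroup G) (a b : G) :
    (A.map (MulAut.conj b).toMonoidHom).map (MulAut.conj a).toMonoidHom =
      A.map (MulAut.conj (a * b)).toMonoidHom := by
  rw [Subgroup.map_map]
  congr 1
  ext g
  simp [mul_assoc]

/-- The action on the hexads. -/
@[reducible] noncomputable def Setup.hexAct : MulAction ↥S.H S.Hex where
  smul h ω := ⟨ω.1.map (MulAut.conj (h : G)).toMonoidHom, by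
    obtain ⟨k, hk, e⟩ := ω.2
    exact ⟨h * k, mul_mem h.2 hk, by rw [e, map_conj_conj]⟩⟩
  one_smul ω := Subtype.ext (by
    show ω.1.map _ = ω.1
    convert Subgroup.map_id ω.1
    ext g; simp)
  mul_smul a b ω := Subtype.ext (map_conj_conj ω.1 a b).symm

theorem Setup.fixes_iff (h : ↥S.H) (ω : S.Hex) :
    S.Fixes h ω ↔ letI := S.hexAct; h • ω = ω := by
  letI := S.hexAct
  exact Iff.trans Subgroup.mem_normalizer_iff_map_conj_eq
    ⟨fun e => Subtype.ext e, fun e => congrArg Subtype.val e⟩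

theorem Setup.fix_eq (u v : ↥S.H) :
    S.fix u v = letI := S.hexAct; Nat.card {ω : S.Hex // u • ω = ω ∧ v • ω = ω} :=
  Nat.card_congr (Equiv.subtypeEquivRight fun ω => and_congr (S.fixes_iff u ω) (S.fixes_iff v ω))

/-- The map onto the automorphism group, moved back to `z`. -/
theorem Setup.exists_psi (hJ : IsOfJankoFourTypeAt z) :
    ∃ (P : Subgroup G) (g : G) (N : Subgroup G) (ψ : ↥S.H →* MulAut M22'), IsOfJankoFourTypeWith z P ∧
      g * z * g⁻¹ = S.w ∧ Function.Surjective ψ ∧ Nat.card ψ.ker = 3 * 2 ^ 13 ∧ P ≤ N ∧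
      (∀ e : ↥S.H, (e : G) ∈ S.E → ψ e = 1) ∧
      (∀ h : G, h ∈ S.H ↔ g⁻¹ * h * g ∈ cH z) ∧
      (∀ e, e ∈ S.E ↔ g⁻¹ * e * g ∈ cE z) ∧
      (∀ h : ↥S.H, ψ h = 1 ↔ g⁻¹ * (h : G) * g ∈ N) := by
  classical
  obtain ⟨P, hP⟩ := hJ
  obtain ⟨g, hg⟩ := isConj_iff.1 S.F.zconj
  have hgz : ∀ h : G, h ∈ S.H ↔ g⁻¹ * h * g ∈ cH z := by
    intro h
    rw [Setup.H, mem_centralizer_singleton_iff, mem_cH, Setup.w, ← hg]
    constructor <;> intro e
    · calc g⁻¹ * h * g * z = g⁻¹ * (h * (g * z * g⁻¹)) * g := by group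
        _ = g⁻¹ * ((g * z * g⁻¹) * h) * g := by rw [e]
        _ = _ := by group
    · calc h * (g * z * g⁻¹) = g * (g⁻¹ * h * g * z) * g⁻¹ := by group
        _ = g * (z * (g⁻¹ * h * g)) * g⁻¹ := by rw [e]
        _ = _ := by group
  let τ : ↥S.H →* ↥(cH z) :=
    { toFun := fun h => ⟨g⁻¹ * h * g, (hgz h).1 h.2⟩
      map_one' := Subtype.ext (by simp)
      map_mul' := fun a b => Subtype.ext (by simp [mul_assoc]) }
  have hτ : Function.Surjective τ := fun h =>
    ⟨⟨g * h * g⁻¹, (hgz _).2 (by simp [mul_assoc])⟩, Subtype.ext (by simp [τ, mul_assoc])⟩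
  -- the cores correspond
  haveI : Fact (Nat.Prime 2) := ⟨Nat.prime_two⟩
  have hE : ∀ e, e ∈ S.E ↔ g⁻¹ * e * g ∈ cE z := by
    have hle : S.E.map (MulAut.conj g⁻¹).toMonoidHom = cE z := by
      refine eq_of_le_of_card_ge ?_ (by
        rw [Subgroup.card_map_of_injective (MulAut.conj g⁻¹).injective, S.data.card_E, card_E hP])
      have hEH : S.E.map (MulAut.conj g⁻¹).toMonoidHom ≤ cH z := by
        rintro _ ⟨e, he, rfl⟩
        simpa using (hgz e).1 (S.data.le_cent he)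
      rw [← Subgroup.map_subgroupOf_eq_of_le hEH]
      refine Subgroup.map_mono ?_
      haveI : ((S.E.map (MulAut.conj g⁻¹).toMonoidHom).subgroupOf (cH z)).Normal := by
        refine ⟨fun a ha h => ?_⟩
        rw [mem_subgroupOf] at ha ⊢
        obtain ⟨e, he, hea⟩ := ha
        refine ⟨(g * h * g⁻¹) * e * (g * h * g⁻¹)⁻¹, (Subgroup.mem_normalizer_iff.1
          (S.data.cent_norm ((hgz _).2 (by simp [mul_assoc]))) e).1 he, ?_⟩
        simp only [Subgroup.coe_mul, InvMemClass.coe_inv, ← hea]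
        simp [mul_assoc]
      refine le_sSup ⟨inferInstance, IsPGroup.of_card (n := 13) ?_⟩
      rw [Nat.card_congr (Subgroup.subgroupOfEquivOfLe hEH).toEquiv,
        Subgroup.card_map_of_injective (MulAut.conj g⁻¹).injective, S.data.card_E]
    intro e
    rw [← hle]
    constructor
    · exact fun he => ⟨e, he, by simp⟩
    · rintro ⟨e', he', h⟩
      have : e' = e := by simpa using h
      rwa [← this]
  obtain ⟨-, -, hcard, -, ⟨N, hEN, hNH, -, hcardN, ⟨hnor, ⟨iso⟩⟩, hPN⟩, -⟩ := id hP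
  haveI := hnor
  let ψ : ↥S.H →* MulAut M22' :=
    iso.toMonoidHom.comp ((QuotientGroup.mk' (N.subgroupOf (cH z))).comp τ)
  have hψ : Function.Surjective ψ :=
    iso.surjective.comp ((QuotientGroup.mk'_surjective _).comp hτ)
  have hker : ∀ h : ↥S.H, ψ h = 1 ↔ g⁻¹ * (h : G) * g ∈ N := by
    intro h
    rw [show ψ h = iso (QuotientGroup.mk' (N.subgroupOf (cH z)) (τ h)) from rfl,
      map_eq_one_iff iso iso.injective, QuotientGroup.mk'_apply, QuotientGroup.eq_one_iff]
    exact mem_subgroupOf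
  have hkerc : Nat.card ψ.ker = 3 * 2 ^ 13 := by
    have hN : Nat.card N = 3 * 2 ^ 13 := by rw [hcardN, hcard]
    rw [← hN]
    exact Nat.card_congr
      { toFun := fun h => ⟨g⁻¹ * (h.1 : G) * g, (hker h.1).1 h.2⟩
        invFun := fun n => ⟨⟨g * n * g⁻¹, (hgz _).2 (by simpa [mul_assoc] using hNH n.2)⟩,
          (hker _).2 (by simp [mul_assoc])⟩
        left_inv := fun h => Subtype.ext (Subtype.ext (by simp [mul_assoc]))
        right_inv := fun n => Subtype.ext (by simp [mul_assoc]) }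
  have hψE : ∀ e : ↥S.H, (e : G) ∈ S.E → ψ e = 1 := fun e he => (hker e).2 (hEN ((hE e).1 he))
  exact ⟨P, g, N, ψ, hP, hg, hψ, hkerc, hPN, hψE, hgz, hE, hker⟩

/-- The kernel of the action on the hexads. -/
theorem Setup.kernel_eq_of {p : G} (hcard : Nat.card S.Hex = 77) (hkp : ∀ ω : S.Hex, S.Fixes p ω)
    (hkE : ∀ e ∈ S.E, ∀ ω : S.Hex, S.Fixes e ω) (hord : orderOf p = 3) (hmem : p ∈ S.H)
    {ψ : ↥S.H →* MulAut M22'} (hψ : Function.Surjective ψ)
    (hkerc : Nat.card ψ.ker = 3 * 2 ^ 13) :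
    ∀ h : ↥S.H, ψ h = 1 ↔ ∀ ω : S.Hex, S.Fixes h ω := by
  classical
  letI := S.hexAct
  haveI : Finite S.Hex := Nat.finite_of_card_ne_zero (by rw [hcard]; norm_num)
  haveI : MulAction.IsPretransitive ↥S.H S.Hex := by
    have hbase : ∀ ω : S.Hex, ∃ h : ↥S.H, h • S.base = ω := by
      rintro ⟨A, k, hk, rfl⟩
      exact ⟨(⟨k, hk⟩ : ↥S.H), rfl⟩
    refine ⟨fun a b => ?_⟩
    obtain ⟨h1, rfl⟩ := hbase a
    obtain ⟨h2, rfl⟩ := hbase b
    exact ⟨h2 * h1⁻¹, by rw [← mul_smul, inv_mul_cancel_right]⟩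
  set K := (MulAction.toPermHom ↥S.H S.Hex).ker with hK
  have hKmem : ∀ h : ↥S.H, h ∈ K ↔ ∀ ω : S.Hex, S.Fixes h ω := fun h => by
    rw [hK, MonoidHom.mem_ker, Equiv.ext_iff]
    exact forall_congr' fun ω => (S.fixes_iff h ω).symm
  -- the kernel of the action
  have hKle : K ≤ ψ.ker := by
    by_contra hne
    have hJn : (K.map ψ).Normal := Subgroup.Normal.map (MonoidHom.normal_ker _) ψ hψ
    have hne' : K.map ψ ≠ ⊥ := fun e => hne (by rwa [← (Subgroup.map_eq_bot_iff K)] )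
    have hbig : Inn M22' ≤ K.map ψ := by
      haveI := J4Local.isSimple_m22
      haveI := hJn.comap (MulAut.conj : M22' →* MulAut M22')
      rcases Subgroup.Normal.eq_bot_or_eq_top (H := (K.map ψ).comap (MulAut.conj : M22' →* MulAut M22'))
        inferInstance with h | h
      · exfalso
        refine hne' ((Subgroup.eq_bot_iff_forall _).2 fun a ha => MulEquiv.ext fun m => ?_)
        have hm : a m * m⁻¹ ∈ (K.map ψ).comap (MulAut.conj : M22' →* MulAut M22') := by
          show MulAut.conj (a m * m⁻¹) ∈ K.map ψ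
          rw [map_mul, ← conj_conjAut, map_inv, mul_assoc, mul_assoc, ← mul_assoc (MulAut.conj m)]
          exact mul_mem ha (hJn.conj_mem _ (inv_mem ha) _)
        rw [h, mem_bot, mul_inv_eq_one] at hm
        exact hm
      · rintro _ ⟨m, rfl⟩
        exact h.ge (mem_top m)
    have hidx : (K.map ψ).index ∣ 2 := by
      have := Subgroup.index_dvd_of_le hbig
      rwa [show (Inn M22').index = 2 from Golay.Cert.out_m22] at this
    have h77 : 77 ∣ K.index := by
      have hb : ∀ ω : S.Hex, K ≤ MulAction.stabilizer ↥S.H ω := fun ω h hh => (S.fixes_iff h ω).1 ((hKmem h).1 hh ω)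
      obtain ⟨ω⟩ : Nonempty S.Hex := (Nat.card_ne_zero.1 (by rw [hcard]; norm_num)).1
      have := Subgroup.index_dvd_of_le (hb ω)
      rwa [MulAction.index_stabilizer_of_transitive, hcard] at this
    have hKi : K.index ∣ (K.map ψ).index * Nat.card ψ.ker := by
      have h1 := Subgroup.index_map_eq (K ⊔ ψ.ker) hψ le_sup_right
      have h2 : (K ⊔ ψ.ker).map ψ = K.map ψ := by
        rw [Subgroup.map_sup, (Subgroup.map_eq_bot_iff ψ.ker).2 le_rfl, sup_bot_eq]
      rw [h2] at h1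
      rw [h1, ← Subgroup.relIndex_mul_index (le_sup_left : K ≤ K ⊔ ψ.ker), mul_comm]
      refine mul_dvd_mul_left _ ?_
      haveI : K.Normal := hK ▸ MonoidHom.normal_ker _
      rw [Subgroup.relIndex_sup_left]
      exact Subgroup.relIndex_dvd_card _ _
    have := h77.trans (hKi.trans (mul_dvd_mul_right hidx _))
    rw [hkerc] at this
    norm_num at this
  have hKeq : K = ψ.ker := by
    refine eq_of_le_of_card_ge hKle (hkerc ▸ Nat.le_of_dvd Nat.card_pos ?_)
    refine Nat.Coprime.mul_dvd_of_dvd_of_dvd (by norm_num) ?_ ?_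
    · have : (⟨p, hmem⟩ : ↥S.H) ∈ K := (hKmem _).2 hkp
      have h := Subgroup.orderOf_dvd_natCard _ this
      rwa [← Subgroup.orderOf_coe, hord] at h
    · rw [← S.data.card_E, ← Nat.card_congr (Subgroup.subgroupOfEquivOfLe S.data.le_cent).toEquiv]
      exact Subgroup.card_dvd_of_le fun e he => (hKmem e).2 (hkE _ (mem_subgroupOf.1 he))
  have hfix : ∀ h : ↥S.H, ψ h = 1 ↔ ∀ ω : S.Hex, S.Fixes h ω := fun h => by
    rw [← MonoidHom.mem_ker, ← hKeq, hKmem]
  exact hfix

/-- The kernel of the action on the hexads, from the facts on hexads. -/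
theorem Setup.kernel_eq {p : G} (hp : S.HexFacts p) {ψ : ↥S.H →* MulAut M22'} (hψ : Function.Surjective ψ)
    (hkerc : Nat.card ψ.ker = 3 * 2 ^ 13) :
    ∀ h : ↥S.H, ψ h = 1 ↔ ∀ ω : S.Hex, S.Fixes h ω :=
  S.kernel_eq_of hp.card_hex hp.ker_p hp.ker_E hp.p_order hp.p_mem hψ hkerc

set_option maxHeartbeats 800000 in
/-- The data moved back to `z`, and the map onto the automorphism group with the same kernel as the action. -/
theorem Setup.exists_map (hJ : IsOfJankoFourTypeAt z) {p : G} (hp : S.HexFacts p) :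
    ∃ (P : Subgroup G) (g : G) (ψ : ↥S.H →* MulAut M22'), IsOfJankoFourTypeWith z P ∧ g * z * g⁻¹ = S.w ∧
      Function.Surjective ψ ∧ Nat.card ψ.ker = 3 * 2 ^ 13 ∧ (∀ e : ↥S.H, (e : G) ∈ S.E → ψ e = 1) ∧
      (∀ h : ↥S.H, g⁻¹ * (h : G) * g ∈ cH z) ∧
      (∀ e, e ∈ S.E ↔ g⁻¹ * e * g ∈ cE z) ∧
      (∀ h : ↥S.H, ψ h = 1 ↔ ∀ ω : S.Hex, S.Fixes h ω) ∧
      ∀ h : ↥S.H, S.Inner p h → ψ h ∈ Inn M22' := by
  classical
  obtain ⟨P, g, N, ψ, hP, hg, hψ, hkerc, hPN, hψE, hgz, hE, hker⟩ := S.exists_psi hJ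
  have hfix := S.kernel_eq hp hψ hkerc
  refine ⟨P, g, ψ, hP, hg, hψ, hkerc, hψE, fun h => (hgz h).1 h.2, hE, hfix, ?_⟩
  -- the elements centralising the odd part
  have hEn : (S.E.subgroupOf S.H).Normal := ⟨fun e he h => mem_subgroupOf.2
    ((Subgroup.mem_normalizer_iff.1 (S.data.cent_norm h.2) _).1 (mem_subgroupOf.1 he))⟩
  haveI := hEn
  set π := QuotientGroup.mk' (S.E.subgroupOf S.H) with hπ
  set q := π ⟨p, hp.p_mem⟩ with hq
  set J := (centralizer ({q} : Set (↥S.H ⧸ S.E.subgroupOf S.H))).comap π with hJdef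
  have hJmem : ∀ h : ↥S.H, h ∈ J ↔ S.Inner p h := fun h => by
    rw [hJdef, mem_comap, mem_centralizer_singleton_iff, hq, ← mul_inv_eq_one,
      show π h * π ⟨p, hp.p_mem⟩ * (π ⟨p, hp.p_mem⟩ * π h)⁻¹ = π (h * ⟨p, hp.p_mem⟩ * h⁻¹ * ⟨p, hp.p_mem⟩⁻¹) by
        simp only [map_mul, map_inv]; group,
      hπ, QuotientGroup.mk'_apply, QuotientGroup.eq_one_iff, mem_subgroupOf]
    rfl
  -- the image of the kernel has order three
  set L := ψ.ker.map π with hL
  have hpK : (⟨p, hp.p_mem⟩ : ↥S.H) ∈ ψ.ker := MonoidHom.mem_ker.2 ((hfix _).2 hp.ker_p)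
  have hLc : Nat.card L = 3 := by
    have hle : S.E.subgroupOf S.H ≤ ψ.ker := fun e he => hψE e (mem_subgroupOf.1 he)
    have h := Subgroup.relIndex_mul_index hle
    have h' := ψ.ker.card_mul_index
    rw [hL, show ψ.ker.map π = (π.comp ψ.ker.subtype).range by rw [MonoidHom.range_comp, Subgroup.range_subtype],
      ← Subgroup.index_ker, ← MonoidHom.comap_ker, ← Subgroup.subgroupOf]
    have h3 := ((S.E.subgroupOf S.H).subgroupOf ψ.ker).card_mul_index
    rw [Nat.card_congr (Subgroup.subgroupOfEquivOfLe hle).toEquiv,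
      Nat.card_congr (Subgroup.subgroupOfEquivOfLe S.data.le_cent).toEquiv, S.data.card_E, hkerc] at h3
    rw [hπ, QuotientGroup.ker_mk']
    omega
  have hqL : q ∈ L := ⟨_, hpK, rfl⟩
  have hpE : p ∉ S.E := fun h => by
    have := Subgroup.orderOf_dvd_natCard _ h
    rw [hp.p_order, S.data.card_E] at this
    norm_num at this
  have hq1 : q ≠ 1 := fun e => hpE (by
    rw [hq, hπ, QuotientGroup.mk'_apply, QuotientGroup.eq_one_iff, mem_subgroupOf] at e; exact e)
  haveI : Fact (Nat.Prime 3) := ⟨Nat.prime_three⟩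
  haveI : L.Normal := (MonoidHom.normal_ker ψ).map π (QuotientGroup.mk'_surjective _)
  haveI : IsCyclic L := isCyclic_of_prime_card hLc
  have hqz : zpowers q = L := by
    refine eq_of_le_of_card_ge (zpowers_le.2 hqL) ?_
    rw [hLc, Nat.card_zpowers]
    have := Subgroup.orderOf_dvd_natCard _ hqL
    rw [hLc] at this
    rcases (Nat.dvd_prime Nat.prime_three).1 this with e | e
    · exact absurd (orderOf_eq_one_iff.1 e) hq1
    · exact e.ge
  have hkJ : ψ.ker ≤ J := fun k hk => by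
    rw [hJdef, mem_comap, mem_centralizer_singleton_iff]
    exact congrArg Subtype.val ((IsCyclic.commGroup (α := L)).mul_comm ⟨π k, k, hk, rfl⟩ ⟨q, hqL⟩)
  have hsq : ∀ h : ↥S.H, h * h ∈ J := by
    intro h
    have hc : π h * q * (π h)⁻¹ ∈ zpowers q := hqz ▸ (inferInstance : L.Normal).conj_mem q hqL (π h)
    obtain ⟨i, hi⟩ := mem_zpowers_iff.1 hc
    have h3 : q ^ (3 : ℤ) = 1 := by
      rw [show (3 : ℤ) = ((3 : ℕ) : ℤ) from rfl, zpow_natCast]
      have := congrArg Subtype.val (pow_card_eq_one' (G := L) (x := ⟨q, hqL⟩))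
      rwa [hLc] at this
    have hii : q ^ (i * i) = q := by
      have h0 : i % 3 = 0 ∨ i % 3 = 1 ∨ i % 3 = 2 := by omega
      have hne0 : i % 3 ≠ 0 := fun e => hq1 (by
        refine (conj_eq_one_iff (a := π h)).1 ?_
        rw [← hi, ← Int.mul_ediv_add_emod i 3, e, add_zero, zpow_mul, h3, one_zpow])
      have : (i * i) % 3 = 1 := by
        rw [Int.mul_emod]; rcases h0 with e | e | e <;> simp_all
      rw [← Int.mul_ediv_add_emod (i * i) 3, this, zpow_add, zpow_mul, h3, one_zpow, one_mul, zpow_one]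
    rw [hJdef, mem_comap, mem_centralizer_singleton_iff, map_mul]
    refine mul_inv_eq_iff_eq_mul.1 ?_
    calc π h * π h * q * (π h * π h)⁻¹ = π h * (π h * q * (π h)⁻¹) * (π h)⁻¹ := by group
      _ = q ^ (i * i) := by rw [← hi, ← conj_zpow, ← hi, ← zpow_mul]
      _ = q := hii
  -- not everything centralises the odd part
  obtain ⟨a, haA, haC⟩ := SetLike.exists_of_lt (lt_of_le_of_ne C_le_A (A_ne_C hP).symm : cC z P < cA z P)
  have hout : (⟨g * a * g⁻¹, (hgz _).2 (by simpa [mul_assoc] using haA.1)⟩ : ↥S.H) ∉ J := by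
    intro hmem
    refine haC ⟨haA.1, mem_centralizer_iff.2 fun r hr => ?_⟩
    set h : ↥S.H := ⟨g * a * g⁻¹, (hgz _).2 (by simpa [mul_assoc] using haA.1)⟩
    set r' : ↥S.H := ⟨g * r * g⁻¹, (hgz _).2 (by simpa [mul_assoc] using P_le_H hP hr)⟩
    have hr' : r' ∈ ψ.ker := (hker r').2 (by simpa [r', mul_assoc] using hPN hr)
    obtain ⟨j, hj⟩ := mem_zpowers_iff.1 (hqz.ge (show π r' ∈ L from ⟨r', hr', rfl⟩))
    have hc : π h * π r' = π r' * π h := by
      have hq' : Commute (π h) q := mem_centralizer_singleton_iff.1 (mem_comap.1 hmem)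
      rw [← hj]
      exact (hq'.zpow_right j).eq
    rw [← map_mul, ← map_mul, ← mul_inv_eq_one, ← map_inv, ← map_mul, hπ, QuotientGroup.mk'_apply,
      QuotientGroup.eq_one_iff, mem_subgroupOf, hE] at hc
    have h1 : a * r * a⁻¹ * r⁻¹ ∈ cE z := by simpa [h, r', mul_assoc] using hc
    have h2 : a * r * a⁻¹ * r⁻¹ ∈ P := mul_mem ((Subgroup.mem_normalizer_iff.1 haA.2 r).1 hr) (inv_mem hr)
    have h3 : a * r * a⁻¹ * r⁻¹ = 1 := by
      have hd : P ⊓ cE z = ⊥ := (Subgroup.disjoint_of_coprime_natCard (by rw [card_P hP, card_E hP]; decide)).eq_bot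
      simpa [hd] using (Subgroup.mem_inf.mpr ⟨h2, h1⟩)
    exact (mul_inv_eq_iff_eq_mul.1 (mul_inv_eq_one.1 h3)).symm
  have hidx : J.index = 2 := by
    refine Subgroup.index_eq_two_iff.2 ⟨⟨g * a * g⁻¹, (hgz _).2 (by simpa [mul_assoc] using haA.1)⟩, fun b => ?_⟩
    by_cases hb : b ∈ J
    · exact Or.inr ⟨hb, fun h => hout (by simpa using mul_mem (inv_mem hb) h)⟩
    · refine Or.inl ⟨?_, hb⟩
      -- two elements outside differ by one inside
      have key : ∀ c : ↥S.H, c ∉ J → π c * q * (π c)⁻¹ = q⁻¹ := by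
        intro c hc
        have hc' : π c * q * (π c)⁻¹ ∈ zpowers q := hqz ▸ (inferInstance : L.Normal).conj_mem q hqL (π c)
        obtain ⟨i, hi⟩ := mem_zpowers_iff.1 hc'
        have h3 : q ^ (3 : ℤ) = 1 := by
          rw [show (3 : ℤ) = ((3 : ℕ) : ℤ) from rfl, zpow_natCast]
          have := congrArg Subtype.val (pow_card_eq_one' (G := L) (x := ⟨q, hqL⟩))
          rwa [hLc] at this
        have hi' : q ^ (i % 3) = π c * q * (π c)⁻¹ := by
          rw [← hi]; conv_rhs => rw [← Int.mul_ediv_add_emod i 3, zpow_add, zpow_mul, h3, one_zpow, one_mul]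
        have h0 : i % 3 = 0 ∨ i % 3 = 1 ∨ i % 3 = 2 := by omega
        rcases h0 with e | e | e <;> rw [e] at hi'
        · rw [zpow_zero] at hi'
          exact absurd (conj_eq_one_iff.1 hi'.symm) hq1
        · rw [zpow_one] at hi'
          exact absurd (mem_comap.2 (mem_centralizer_singleton_iff.2 (mul_inv_eq_iff_eq_mul.1 hi'.symm))) hc
        · rw [← hi', eq_inv_iff_mul_eq_one, ← zpow_add_one]
          exact h3
      rw [hJdef, mem_comap, mem_centralizer_singleton_iff]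
      refine mul_inv_eq_iff_eq_mul.1 ?_
      calc π (b * _) * q * (π (b * _))⁻¹
          = π b * (π ⟨g * a * g⁻¹, (hgz _).2 (by simpa [mul_assoc] using haA.1)⟩ * q *
              (π ⟨g * a * g⁻¹, (hgz _).2 (by simpa [mul_assoc] using haA.1)⟩)⁻¹) * (π b)⁻¹ := by
            rw [map_mul]; group
        _ = π b * q⁻¹ * (π b)⁻¹ := by rw [key _ hout]
        _ = q := by rw [← conj_inv, key b hb, inv_inv]
  intro h hh
  have hJimg : (J.map ψ).index = 2 := by rw [Subgroup.index_map_eq J hψ hkJ, hidx]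
  rw [← J4Local.eq_inn_of_index_two hJimg]
  exact ⟨h, (hJmem h).2 hh, rfl⟩

end CfsgLib.J4Order
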