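import Cfsg.Agent.J4Local.CentT.Fuse

/-!
The order formula for a group of Janko-four type: the objects that are counted.
-/

set_option autoImplicit false

namespace CfsgLib.J4Order

open Cfsg CfsgLib.J4CentT
open scoped Pointwise

variable {G : Type*} [Group G]

/-- What the counting uses: coordinates on a normaliser of a 2^11, the 2-core at the chosen element and
uniqueness of the 2^11 in a Sylow subgroup. -/
structure Setup (z : G) where
  /-- Coordinates on the normaliser. -/
  F : Fr z
  /-- The 2-core of the centraliser of the chosen element. -/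
  E : Subgroup G
  data : EData (F.b zIdx) E
  unique : UniqueEleven G

variable {z : G} (S : Setup z)

/-- The chosen conjugate of `z`. -/
abbrev Setup.w : G := S.F.b zIdx

/-- Its centraliser. -/
abbrev Setup.H : Subgroup G := Subgroup.centralizer ({S.w} : Set G)

/-- The base hexad: the subgroup of order 128. -/
abbrev Setup.W : Subgroup G := S.E ⊓ S.F.V

/-- The hexads: conjugates of the base hexad under the centraliser. -/
def Setup.Hex : Type _ := {A : Subgroup G // ∃ h ∈ S.H, A = S.W.map (MulAut.conj h).toMonoidHom}

/-- An element fixes a hexad. -/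
def Setup.Fixes (d : G) (ω : S.Hex) : Prop := d ∈ Subgroup.normalizer (ω.1 : Set G)

/-- The number of hexads fixed by two elements. -/
noncomputable def Setup.fix (u v : G) : ℕ := Nat.card {ω : S.Hex // S.Fixes u ω ∧ S.Fixes v ω}

/-- A pair of involutions of the two kinds with the chosen element among the powers of the product. -/
def Setup.Good (q : G × G) : Prop :=
  IsConj z q.1 ∧ orderOf q.2 = 2 ∧ ¬ IsConj z q.2 ∧ S.w ∈ Subgroup.zpowers (q.1 * q.2)

/-- Lying above an element of the subgroup of index two which centralises the odd part of the radical. -/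
def Setup.Inner (p : G) (u : G) : Prop := u * p * u⁻¹ * p⁻¹ ∈ S.E

/-- The facts on hexads that come from the coordinates. `p` generates the odd part of the radical. -/
structure Setup.HexFacts (p : G) : Prop where
  card_hex : Nat.card S.Hex = 77
  ker_p : ∀ ω : S.Hex, S.Fixes p ω
  ker_E : ∀ e ∈ S.E, ∀ ω : S.Hex, S.Fixes e ω
  p_order : orderOf p = 3
  p_mem : p ∈ S.H
  /-- An element of order 3 modulo the kernel fixes an odd number of hexads. -/
  three_odd : ∀ g ∈ S.H, (∀ ω : S.Hex, S.Fixes (g ^ 3) ω) → Odd (S.fix g g)
  /-- An element of order 5 modulo the kernel fixes exactly two hexads. -/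
  five_two : ∀ g ∈ S.H, (∀ ω : S.Hex, S.Fixes (g ^ 5) ω) → (∃ ω : S.Hex, ¬ S.Fixes g ω) → S.fix g g = 2
  /-- The kinds of an involution moving some hexad. -/
  invol : ∀ u ∈ S.H, orderOf u = 2 → (∃ ω : S.Hex, ¬ S.Fixes u ω) →
    (S.fix u u = 13 ∧ S.Inner p u) ∨ (S.fix u u = 21 ∧ ¬ S.Inner p u) ∨
      (S.fix u u = 5 ∧ ¬ S.Inner p u ∧ ¬ IsConj z u)
  /-- The product of a good pair of kinds 13 and 5 has an image of order more than two. -/
  no_pair : ∀ u v : G, S.Good (u, v) → S.fix u u = 13 → S.fix v v = 5 →
    ¬ ∀ ω : S.Hex, S.Fixes (u * v * (u * v)) ω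

end CfsgLib.J4Order
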