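import Cfsg.Agent.J4Local.Order.Hex

/-!
Arithmetic in the 2-core on codes below 8192: the high six bits number the element of the subgroup of order 64,
the low seven bits the member of the subgroup of order 128.
-/

set_option autoImplicit false
set_option maxRecDepth 100000

namespace CfsgLib.J4Order

open Cfsg CfsgLib.J4CentT CfsgLib.Golay CfsgLib.Golay.Cert

/-- For each element of order at most two the members it moves, as a functional on the seven bits. -/
def betaTab : List ℕ := [0, 113, 29, 108, 32, 81, 61, 76, 22, 103, 11, 122, 54, 71, 43, 90, 28, 109, 1, 112, 60, 77, 33, 80, 10,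
  123, 23, 102, 42, 91, 55, 70, 36, 85, 57, 72, 4, 117, 25, 104, 50, 67, 47, 94, 18, 99, 15, 126, 56, 73, 37, 84, 24,
  105, 5, 116, 46, 95, 51, 66, 14, 127, 19, 98]

/-- The numbers below 128 with an odd number of bits, as a mask. -/
def oddMask : ℕ := 199931532107794273605284333428918544790

/-- The member of the subgroup of order 128 with a given seven bits. -/
def wv (x : ℕ) : ℕ := wList.getD x 0

/-- The product of two codes. -/
def cmul (c d : ℕ) : ℕ :=
  Nat.xor (Nat.xor c d) (if Nat.testBit oddMask (Nat.land (betaTab.getD (c / 128) 0) (d % 128)) then 90 else 0)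

/-- The product of a list of codes. -/
def cprod : List ℕ → ℕ
  | [] => 0
  | c :: cs => cmul c (cprod cs)

theorem ck_code : (∀ x < 128, wv x < 2048 ∧ inW (wv x) = true ∧ wv x / 16 = x ∧
      (List.range 7).all (fun k => wv (Nat.xor x (2 ^ k)) == Nat.xor (wv x) (wv (2 ^ k))) = true) ∧
    wv 90 = zIdx ∧ wv 0 = 0 := by decide +kernel

theorem ck_rxor : ∀ n < 64, ∀ m < 64, compL (rEl n) (rEl m) = rEl (Nat.xor n m) := by decide +kernel

theorem ck_beta : ∀ n < 64, ∀ k < 7, act (rEl n) (wv (2 ^ k)) =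
    if Nat.testBit oddMask (Nat.land (betaTab.getD n 0) (2 ^ k)) then Nat.xor (wv (2 ^ k)) zIdx
    else wv (2 ^ k) := by decide +kernel

theorem ck_odd : ∀ u < 128, ∀ v < 128,
    Nat.testBit oddMask (Nat.xor u v) = Bool.xor (Nat.testBit oddMask u) (Nat.testBit oddMask v) := by decide +kernel

theorem ck_beta_lt : ∀ n < 64, betaTab.getD n 0 < 128 := by decide +kernel

theorem bits_induction {P : ℕ → Prop} (h0 : P 0) (hs : ∀ x < 128, ∀ k < 7, P x → P (x ^^^ 2 ^ k)) :
    ∀ x < 128, P x := by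
  intro x
  induction x using Nat.strongRecOn with | ind x ih => ?_
  intro hx
  rcases Nat.eq_zero_or_pos x with rfl | hpos
  · exact h0
  have hk : x.log2 < 7 := (Nat.log2_lt (by omega)).mpr (by omega)
  have hlt : x ^^^ 2 ^ x.log2 < x := by
    have hb : x.testBit x.log2 = true := Nat.testBit_log2 (by omega)
    refine Nat.lt_of_testBit x.log2 (by simp [hb, Nat.testBit_two_pow]) hb fun j hj => ?_
    simp [Nat.testBit_xor, Nat.testBit_two_pow, (Nat.ne_of_lt hj)]
  have := hs _ (lt_trans hlt hx) _ hk (ih _ hlt (lt_trans hlt hx))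
  rwa [Nat.xor_assoc, Nat.xor_self, Nat.xor_zero] at this

theorem wv_xor {x y : ℕ} (hx : x < 128) (hy : y < 128) : wv (x ^^^ y) = wv x ^^^ wv y := by
  revert y
  suffices ∀ y < 128, wv (x ^^^ y) = wv x ^^^ wv y from fun {y} hy => this y hy
  refine bits_induction (by rw [ck_code.2.2]; simp) fun y hy k hk ih => ?_
  have h1 : ∀ u < 128, wv (u ^^^ 2 ^ k) = wv u ^^^ wv (2 ^ k) := fun u hu => by
    have := List.all_eq_true.mp (ck_code.1 u hu).2.2.2 k (List.mem_range.mpr hk)
    simpa using this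
  rw [← Nat.xor_assoc, h1 _ (Nat.xor_lt_two_pow (n := 7) hx hy), h1 _ hy, ih, Nat.xor_assoc]

theorem act_zero (L : List ℕ) : act L 0 = 0 := by
  have hp : ∀ M : List ℕ, permF M 0 = 0 := by
    intro M
    induction M with
    | nil => rfl
    | cons a M ih => simp [permF, ih]
  show cd (permF L (mk 0)) = 0
  rw [show mk 0 = 0 by decide +kernel, hp]
  decide +kernel

variable {G : Type*} [Group G] {z : G} (S : Setup z)

/-- The element of the 2-core with a given code. -/
noncomputable def Setup.el (c : ℕ) : G := S.F.b (wv (c % 128)) * S.F.kap (rg (c / 128))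

include S in
theorem act_wv [Finite G] {n x : ℕ} (hn : n < 64) (hx : x < 128) :
    act (rEl n) (wv x) =
      if Nat.testBit oddMask (Nat.land (betaTab.getD n 0) x) then wv x ^^^ zIdx else wv x := by
  revert x
  suffices ∀ x < 128, act (rEl n) (wv x) =
      if Nat.testBit oddMask (Nat.land (betaTab.getD n 0) x) then wv x ^^^ zIdx else wv x from fun {x} hx => this x hx
  refine bits_induction ?_ fun x hx k hk ih => ?_
  · rw [ck_code.2.2, act_zero, show Nat.land (betaTab.getD n 0) 0 = 0 from Nat.and_zero _,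
      show Nat.testBit oddMask 0 = false by decide +kernel]
    rfl
  · have hk' : 2 ^ k < 128 := Nat.pow_lt_pow_right (a := 2) (by norm_num) hk
    have e : act (rEl n) (wv x ^^^ wv (2 ^ k)) = act (rEl n) (wv x) ^^^ act (rEl n) (wv (2 ^ k)) := by
      rw [← rg_list hn]
      exact S.F.act_xor (rg n) (ck_code.1 x hx).1 (ck_code.1 _ hk').1
    have hb := ck_beta_lt n hn
    have ho : Nat.testBit oddMask (Nat.land (betaTab.getD n 0) (x ^^^ 2 ^ k)) =
        Bool.xor (Nat.testBit oddMask (Nat.land (betaTab.getD n 0) x))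
          (Nat.testBit oddMask (Nat.land (betaTab.getD n 0) (2 ^ k))) := by
      exact (congrArg _ (Nat.and_xor_distrib_left ..)).trans
        (ck_odd (Nat.land (betaTab.getD n 0) x) (lt_of_le_of_lt Nat.and_le_left hb)
          (Nat.land (betaTab.getD n 0) (2 ^ k)) (lt_of_le_of_lt Nat.and_le_left hb))
    rw [wv_xor hx hk', e, ih, ck_beta n hn k hk, ho]
    cases Nat.testBit oddMask (Nat.land (betaTab.getD n 0) x) <;>
      cases Nat.testBit oddMask (Nat.land (betaTab.getD n 0) (2 ^ k)) <;>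
      simp [show ∀ a b : ℕ, Nat.xor a b = a ^^^ b from fun _ _ => rfl]
    · ac_rfl
    · ac_rfl
    · rw [show wv x ^^^ zIdx ^^^ (wv (2 ^ k) ^^^ zIdx) = wv x ^^^ wv (2 ^ k) ^^^ (zIdx ^^^ zIdx) by ac_rfl]
      simp

theorem cmul_lt {c d : ℕ} (hc : c < 8192) (hd : d < 8192) : cmul c d < 8192 := by
  rw [cmul]
  refine Nat.xor_lt_two_pow (n := 13) (Nat.xor_lt_two_pow (n := 13) hc hd) ?_
  split <;> norm_num

theorem el_mul [Finite G] {c d : ℕ} (hc : c < 8192) (hd : d < 8192) :
    S.el c * S.el d = S.el (cmul c d) := by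
  have hn : c / 128 < 64 := by omega
  have hm : d / 128 < 64 := by omega
  have hx : c % 128 < 128 := Nat.mod_lt _ (by norm_num)
  have hy : d % 128 < 128 := Nat.mod_lt _ (by norm_num)
  have hr : rg (c / 128) * rg (d / 128) = rg (c / 128 ^^^ d / 128) := toList_coe_injective (by
    show toList ((rg (c / 128) * rg (d / 128) : M24)).1 = toList (rg _).1
    rw [Subgroup.coe_mul, toList_mul, rg_list hn, rg_list hm,
      rg_list (Nat.xor_lt_two_pow (n := 6) hn hm)]
    exact ck_rxor _ hn _ hm)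
  rw [Setup.el, Setup.el, Setup.el, S.F.mul_form _ _ (ck_code.1 _ hx).1 (ck_code.1 _ hy).1, hr]
  have ha : actG (rg (c / 128)) (wv (d % 128)) = act (rEl (c / 128)) (wv (d % 128)) := by
    rw [actG, rg_list hn]
  rw [ha, act_wv S hn hy]
  have h2 : cmul c d / 128 = c / 128 ^^^ d / 128 := by
    rw [cmul, show (128 : ℕ) = 2 ^ 7 from rfl, ← Nat.shiftRight_eq_div_pow, ← Nat.shiftRight_eq_div_pow,
      ← Nat.shiftRight_eq_div_pow]
    show ((c ^^^ d) ^^^ _) >>> 7 = _
    rw [Nat.shiftRight_xor_distrib, Nat.shiftRight_xor_distrib]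
    split <;> simp [Nat.shiftRight_eq_div_pow]
  have h1 : cmul c d % 128 = (c % 128 ^^^ d % 128) ^^^
      (if Nat.testBit oddMask (Nat.land (betaTab.getD (c / 128) 0) (d % 128)) then 90 else 0) := by
    rw [cmul]
    show ((c ^^^ d) ^^^ _) % 2 ^ 7 = _
    rw [Nat.xor_mod_two_pow, Nat.xor_mod_two_pow]
    split <;> rfl
  rw [h1, h2]
  congr 2
  split
  · rw [wv_xor (Nat.xor_lt_two_pow (n := 7) hx hy) (by norm_num), wv_xor hx hy, ck_code.2.1, Nat.xor_assoc]
  · rw [Nat.xor_zero, wv_xor hx hy]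

theorem el_inj {c d : ℕ} (hc : c < 8192) (hd : d < 8192) (h : S.el c = S.el d) : c = d := by
  have hx : c % 128 < 128 := Nat.mod_lt _ (by norm_num)
  have hy : d % 128 < 128 := Nat.mod_lt _ (by norm_num)
  obtain ⟨e1, e2⟩ := S.F.form_inj (ck_code.1 _ hx).1 (ck_code.1 _ hy).1 h
  have e3 := rg_inj (by omega) (by omega) e2
  have e4 : c % 128 = d % 128 := by
    rw [← (ck_code.1 _ hx).2.2.1, ← (ck_code.1 _ hy).2.2.1, e1]
  omega

theorem mem_E_iff_el [Finite G] {e : G} : e ∈ S.E ↔ ∃ c < 8192, e = S.el c := by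
  constructor
  · intro he
    obtain ⟨i, hi, hw, n, hn, rfl⟩ := (S.data.mem_iff S.unique e).mp he
    obtain ⟨k, hk, e⟩ := List.mem_iff_getElem.mp ((inW_iff hi).mp hw)
    rw [ck_wList.2.1] at hk
    refine ⟨128 * n + k, by omega, ?_⟩
    rw [Setup.el, show (128 * n + k) % 128 = k by omega, show (128 * n + k) / 128 = n by omega, wv,
      List.getD_eq_getElem _ _ (by rw [ck_wList.2.1]; exact hk), e]
  · rintro ⟨c, hc, rfl⟩
    have hx : c % 128 < 128 := Nat.mod_lt _ (by norm_num)
    exact (S.data.mem_iff S.unique _).mpr ⟨_, (ck_code.1 _ hx).1, (ck_code.1 _ hx).2.1, _, by omega, rfl⟩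

theorem el_zero : S.el 0 = 1 := by
  rw [Setup.el, show 0 % 128 = 0 from rfl, show 0 / 128 = 0 from rfl, ck_code.2.2, S.F.b_zero, rg_zero, map_one,
    one_mul]

end CfsgLib.J4Order
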