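import Cfsg.Agent.J4Local.Order.Fibre
import Cfsg.Agent.J4Local.Order.Assembly

/-!
The pairs with the chosen element among the powers of the product, from the counts at the base hexad.
-/

set_option autoImplicit false
set_option maxRecDepth 100000

namespace CfsgLib.J4Order

open Cfsg CfsgLib.J4CentT CfsgLib.Golay CfsgLib.Golay.Cert MulAction
open scoped Pointwise

/-- The arithmetic on the counts at the base. -/
def zCheck (E : List ℕ) : Bool :=
  ((List.range 77).all fun k => (77 * E.getD (k + 1) 0) % (k + 1) == 0) &&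
    ((List.range 77).map fun k => 77 * E.getD (k + 1) 0 / (k + 1)).sum == 29236337328

variable {G : Type*} [Group G] [Finite G] {z : G} {S : Setup z}

theorem good_iff (q : G × G) :
    S.Good q ↔ IsConj z q.1 ∧ IsConj S.pair0 q.2 ∧ S.w ∈ Subgroup.zpowers (q.1 * q.2) := by
  have hp : orderOf S.pair0 = 2 := by
    haveI : Fact (Nat.Prime 2) := ⟨Nat.prime_two⟩
    refine orderOf_eq_prime ((pow_two _).trans (S.F.b_sq (cd_lt _))) fun e => ?_
    exact absurd ((b_zero_iff S (cd_lt _)).mp e) (by decide +kernel)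
  constructor
  · rintro ⟨h1, h2, h3, h4⟩
    exact ⟨h1, second_class S.data S.unique h2 h3, h4⟩
  · rintro ⟨h1, h2, h4⟩
    refine ⟨h1, ?_, fun h => pair_not_conj S.F (h.trans h2.symm), h4⟩
    obtain ⟨g, hg⟩ := isConj_iff.mp h2
    rw [← hg, ← MulAut.conj_apply, MulEquiv.orderOf_eq, hp]

theorem fix_le (hs : S.SplitFacts) (u v : G) : S.fix u v ≤ 77 := by
  rw [← hs.card]
  exact Nat.card_le_card_of_injective _ Subtype.val_injective

/-- The count of pairs, from the counts at the base hexad. -/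
theorem card_pairs_z_of (hs : S.SplitFacts) (hH : Nat.card ↥S.H = 21799895040) (I : Finset M24)
    (hI : ∀ σ, σ ∈ I ↔ σ * σ = 1 ∧ actG σ zIdx = zIdx) (E : List ℕ)
    (hE : ∀ f, ∑ σ ∈ I, ∑ τ ∈ I, S.pairsAt f σ τ = E.getD f 0)
    (hfix : ∀ u v, S.Good (u, v) → 0 < S.fix u v) (hval : zCheck E = true) :
    Nat.card {q : G × G // IsConj z q.1 ∧ IsConj S.pair0 q.2 ∧ S.w ∈ Subgroup.zpowers (q.1 * q.2)} =
      29236337328 := by
  classical
  simp only [zCheck, Bool.and_eq_true, List.all_eq_true, List.mem_range, beq_iff_eq] at hval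
  obtain ⟨hdvd, hsum⟩ := hval
  rw [← Nat.card_congr (Equiv.subtypeEquivRight fun q => good_iff (S := S) q)]
  let N : Fin 77 → ℕ := fun k => Nat.card {q : G × G // S.Good q ∧ S.fix q.1 q.2 = k.1 + 1}
  let e : {q : G × G // S.Good q} ≃ Σ k : Fin 77, {q : G × G // S.Good q ∧ S.fix q.1 q.2 = k.1 + 1} :=
    { toFun := fun q => ⟨⟨S.fix q.1.1 q.1.2 - 1, by
          have := hfix q.1.1 q.1.2 q.2
          have := fix_le hs q.1.1 q.1.2
          omega⟩, q.1, q.2, by
          have := hfix q.1.1 q.1.2 q.2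
          show _ = S.fix q.1.1 q.1.2 - 1 + 1
          omega⟩
      invFun := fun p => ⟨p.2.1, p.2.2.1⟩
      left_inv := fun _ => rfl
      right_inv := by
        rintro ⟨⟨k, hk⟩, q, hq, hf⟩
        have e : (⟨S.fix q.1 q.2 - 1, by omega⟩ : Fin 77) = ⟨k, hk⟩ := Fin.ext (by simp [hf])
        exact Sigma.subtype_ext e rfl }
  have hN : ∀ k : Fin 77, N k = 77 * E.getD (k.1 + 1) 0 / (k.1 + 1) := by
    intro k
    have h := fix_mul_card (S := S) hs (k.1 + 1)
    rw [card_at_base hs hH I hI, hE] at h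
    rw [← h, Nat.mul_div_cancel_left _ (Nat.succ_pos _)]
  rw [Nat.card_congr e, Nat.card_sigma, Finset.sum_congr rfl (fun k _ => hN k), ← hsum,
    Fin.sum_univ_eq_sum_range (fun k => 77 * E.getD (k + 1) 0 / (k + 1))]
  rfl

end CfsgLib.J4Order
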