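import Cfsg.Agent.J4Local.Order.ZFinal
import Cfsg.Agent.J4Local.Order.CountZ0
import Cfsg.Agent.J4Local.Order.Away

/-!
The pairs with the central element among the powers of the product, from the orbit sum over the sextet stabiliser.
-/

set_option autoImplicit false
set_option maxRecDepth 100000

namespace CfsgLib.J4Order

open Cfsg CfsgLib.J4CentT CfsgLib.Golay CfsgLib.Golay.Cert MulAction
open scoped Pointwise

theorem ck_zCheck : zCheck (zTotal.take 78) = true := by decide +kernel

variable {G : Type*} [Group G] [Finite G] {z : G} {S : Setup z} {e : Fin 77 ≃ S.Hex}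

/-- The set of involutions of the sextet stabiliser, with the identity, and its orbit sum. -/
structure OrbitSum (I : Finset M24) : Prop where
  mem : ∀ σ, σ ∈ I ↔ σ * σ = 1 ∧ actG σ zIdx = zIdx
  sum : ∀ F : M24 → M24 → ℕ, (∀ g, actG g zIdx = zIdx → ∀ σ τ, F (g * σ * g⁻¹) (g * τ * g⁻¹) = F σ τ) →
    ∑ σ ∈ I, ∑ τ ∈ I, F σ τ = (zRepLists.map fun r => r.2.2 * F (ofList r.1) (ofList r.2.1)).sum

/-- No good pair of kinds 13 and 5 has a product whose square fixes every hexad. -/
theorem no_pair_of (hs : S.SplitFacts) (hz2 : S.rootZ 2) (hH : Nat.card ↥S.H = 21799895040) (he : S.IsEnum e)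
    {I : Finset M24} (hI : OrbitSum I) (u v : G) (hg : S.Good (u, v)) (hu : S.fix u u = 13) (hv : S.fix v v = 5) :
    ¬ ∀ ω : S.Hex, S.Fixes (u * v * (u * v)) ω :=
  no_forbidden hs hH I hI.mem (zCounts hs hz2 he I hI.sum).2 hg hu hv

/-- The number of pairs, from the facts on hexads. -/
theorem card_pairs_z_from (hJ : IsOfJankoFourTypeAt z) (hs : S.SplitFacts) (hz2 : S.rootZ 2)
    (hH : Nat.card ↥S.H = 21799895040) (he : S.IsEnum e) {I : Finset M24} (hI : OrbitSum I) {p : G}
    (hp : S.HexFacts p) :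
    Nat.card {q : G × G // IsConj z q.1 ∧ IsConj S.pair0 q.2 ∧ S.w ∈ Subgroup.zpowers (q.1 * q.2)} =
      29236337328 :=
  card_pairs_z_of hs hH I hI.mem (zTotal.take 78) (zCounts hs hz2 he I hI.sum).1
    (fun u v h => S.good_fix hJ hp h) ck_zCheck

end CfsgLib.J4Order
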