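import Cfsg.Agent.J4Local.Order.Perm
import Cfsg.Agent.J4Local.Order.Local35Data

/-!
The fixed hexads of elements of order three and five modulo the kernel.
-/

set_option autoImplicit false
set_option maxRecDepth 100000

namespace CfsgLib.J4Order

open Cfsg CfsgLib.J4CentT CfsgLib.Golay CfsgLib.Golay.Cert MulAction
open scoped Pointwise

/-- The number of fixed points of a packed permutation. -/
def fixCount (P : ℕ) : ℕ := ((List.range 77).filter fun k => pget P k == k).length

/-- Check of a list of elements forming a subgroup, with the numbers of their fixed points. -/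
def sylOK (l : List (List ℕ × List ℕ × ℕ)) (good : ℕ → Bool) : Bool :=
  l.all fun r => mvOK 0 r.1 r.2.1 && permOK r.2.1 r.2.2 && decide (act r.1 zIdx = zIdx) &&
    good (fixCount r.2.2) && (l.map fun s => s.1).all fun M => (l.map fun s => s.1).contains (compL r.1 M)

theorem ck_three : sylThree.length = 27 ∧ (sylThree.map fun s => s.1).Nodup ∧
    sylOK sylThree (fun n => n % 2 == 1) = true := by decide +kernel

theorem ck_five : sylFive.length = 5 ∧ (sylFive.map fun s => s.1).Nodup ∧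
    sylOK sylFive (fun n => n == 2 || n == 77) = true := by decide +kernel

theorem sylOK_gen {l : List (List ℕ × List ℕ × ℕ)} {good : ℕ → Bool} (h : sylOK l good = true) :
    ∀ r ∈ l, genOK r.1 = true := by
  intro r hr
  simp only [sylOK, List.all_eq_true, Bool.and_eq_true] at h
  have h1 := (h r hr).1.1.1.1
  simp only [mvOK, Bool.and_eq_true] at h1
  exact h1.1.1

variable {G : Type*} [Group G] [Finite G] {z : G} {S : Setup z}

theorem fix_of_packed {e : Fin 77 ≃ S.Hex} (he : S.IsEnum e) {L tab : List ℕ} {P : ℕ}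
    (hm : mvOK 0 L tab = true) (hP : permOK tab P = true) (hd : S.F.kap (ofList L) ∈ S.H) :
    S.fix (S.F.kap (ofList L)) (S.F.kap (ofList L)) = fixCount P := by
  classical
  have key : ∀ k : Fin 77, S.Fixes (S.F.kap (ofList L)) (e k) ↔ pget P k = k := by
    intro k
    have h := perm_fixes (S := S) he hm hP (by rw [S.F.b_zero, one_mul]; exact hd) k
    rwa [S.F.b_zero, one_mul] at h
  have e2 : {k : Fin 77 // pget P k = k} ≃
      {ω : S.Hex // S.Fixes (S.F.kap (ofList L)) ω ∧ S.Fixes (S.F.kap (ofList L)) ω} :=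
    Equiv.subtypeEquiv e fun k => ⟨fun h => ⟨(key k).mpr h, (key k).mpr h⟩, fun h => (key k).mp h.1⟩
  rw [Setup.fix, ← Nat.card_congr e2, Nat.card_eq_fintype_card, Fintype.card_subtype, fixCount,
    ← List.toFinset_card_of_nodup (List.nodup_range.filter _)]
  refine Finset.card_bij (fun k _ => k.1) (fun k hk => ?_) (fun a _ b _ h => Fin.ext h) fun k hk => ?_
  · simpa using (Finset.mem_filter.mp hk).2
  · simp only [List.mem_toFinset, List.mem_filter, List.mem_range, beq_iff_eq] at hk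
    exact ⟨⟨k, hk.1⟩, by simpa using hk.2, rfl⟩

theorem exists_subgroup {l : List (List ℕ × List ℕ × ℕ)} {good : ℕ → Bool} (h : sylOK l good = true)
    (hn : (l.map fun s => s.1).Nodup) (hl : l ≠ []) {e : Fin 77 ≃ S.Hex} (he : S.IsEnum e) :
    ∃ K : Subgroup G, Nat.card K = l.length ∧ K ≤ S.H ∧ ∀ x ∈ K, good (S.fix x x) = true := by
  classical
  have hgen := sylOK_gen h
  simp only [sylOK, List.all_eq_true, Bool.and_eq_true, decide_eq_true_eq, List.contains_iff_mem] at h
  set ls := l.map fun s => s.1 with hls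
  have hsg : ∀ L ∈ ls, genOK L = true := by
    intro L hL
    obtain ⟨r, hr, rfl⟩ := List.mem_map.mp hL
    exact hgen r hr
  let T : Finset M24 := (ls.map ofList).toFinset
  have hmul : ∀ x ∈ T, ∀ y ∈ T, x * y ∈ T := by
    intro x hx y hy
    obtain ⟨L, hL, rfl⟩ := List.mem_map.mp (List.mem_toFinset.mp hx)
    obtain ⟨M, hM, rfl⟩ := List.mem_map.mp (List.mem_toFinset.mp hy)
    obtain ⟨r, hr, rfl⟩ := List.mem_map.mp hL
    have hc := (h r hr).2 M hM
    refine List.mem_toFinset.mpr (List.mem_map.mpr ⟨_, hc, ?_⟩)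
    refine toList_coe_injective ?_
    show toList (ofList (compL r.1 M)).1 = toList ((ofList r.1 * ofList M : M24)).1
    rw [toList_ofList (hsg _ hc), Subgroup.coe_mul, toList_mul, toList_ofList (hgen r hr),
      toList_ofList (hsg M hM)]
  have hne : T.Nonempty := by
    obtain ⟨r, hr⟩ := List.exists_mem_of_ne_nil l hl
    exact ⟨ofList r.1, List.mem_toFinset.mpr (List.mem_map.mpr ⟨_, List.mem_map.mpr ⟨r, hr, rfl⟩, rfl⟩)⟩
  have hinv : ∀ x ∈ T, x⁻¹ ∈ T := by
    intro x hx
    have hp : ∀ n, x ^ (n + 1) ∈ T := fun n => by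
      induction n with
      | zero => simpa using hx
      | succ n ih => rw [pow_succ]; exact hmul _ ih _ hx
    have ho := orderOf_pos x
    have e1 : x⁻¹ = x ^ (2 * orderOf x - 2 + 1) := by
      refine inv_eq_of_mul_eq_one_right ?_
      rw [← pow_succ', show 2 * orderOf x - 2 + 1 + 1 = orderOf x * 2 by omega, pow_mul, pow_orderOf_eq_one, one_pow]
    exact e1 ▸ hp _
  let K0 : Subgroup M24 :=
    { carrier := ↑T
      mul_mem' := fun ha hb => hmul _ ha _ hb
      one_mem' := by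
        obtain ⟨x, hx⟩ := hne
        simpa using hmul _ hx _ (hinv x hx)
      inv_mem' := fun ha => hinv _ ha }
  have hK0 : Nat.card K0 = l.length := by
    have e1 : Nat.card K0 = T.card := Nat.card_eq_finsetCard T
    rw [e1, List.toFinset_card_of_nodup (List.Nodup.map_on ?_ hn), List.length_map, hls, List.length_map]
    intro L hL M hM e
    rw [← toList_ofList (hsg L hL), e, toList_ofList (hsg M hM)]
  refine ⟨K0.map S.F.kap, ?_, ?_, ?_⟩
  · rw [Subgroup.card_map_of_injective S.F.kap_inj, hK0]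
  all_goals
    rintro _ ⟨σ, hσ, rfl⟩
    obtain ⟨L, hL, rfl⟩ := List.mem_map.mp (List.mem_toFinset.mp hσ)
    obtain ⟨r, hr, rfl⟩ := List.mem_map.mp hL
    have hin : S.F.kap (ofList r.1) ∈ S.H := by
      refine S.F.kap_cent ((S.F.stab_iff _).mpr ?_)
      show act (toList (ofList r.1).1) zIdx = zIdx
      rw [toList_ofList (hgen r hr)]
      exact (h r hr).1.1.2
  · exact hin
  · rw [fix_of_packed he (h r hr).1.1.1.1 (h r hr).1.1.1.2 hin]
    exact (h r hr).1.2

omit [Finite G] in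
theorem fixes_pow {g : G} {ω : S.Hex} (h : S.Fixes g ω) (n : ℕ) : S.Fixes (g ^ n) ω :=
  pow_mem h n

/-- Every `p`-element modulo the kernel has the fixed hexads of an element of a given Sylow subgroup. -/
theorem fix_eq_of_pow {p : ℕ} (hp : p.Prime) {n : ℕ} (hn : n ≠ 0) (K : Subgroup G)
    (hK : Nat.card K = p ^ n) (hKH : K ≤ S.H) (hH : ¬ p ∣ Nat.card ↥S.H / p ^ n) {good : ℕ → Bool}
    (hgood : ∀ x ∈ K, good (S.fix x x) = true) {g : G} (hg : g ∈ S.H)
    (hgp : ∀ ω : S.Hex, S.Fixes (g ^ p) ω) : good (S.fix g g) = true := by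
  haveI : Fact p.Prime := ⟨hp⟩
  set r := ordProj[p] (orderOf g)
  set m := ordCompl[p] (orderOf g) with hm
  have hg0 : orderOf g ≠ 0 := (orderOf_pos g).ne'
  have hcop : Nat.Coprime m p := (Nat.coprime_ordCompl hp hg0).symm
  have hiff : ∀ ω : S.Hex, S.Fixes g ω ↔ S.Fixes (g ^ m) ω := by
    intro ω
    refine ⟨fun h => fixes_pow h m, fun h => ?_⟩
    have h1 : g ^ ((m : ℤ) * Nat.gcdA m p + (p : ℤ) * Nat.gcdB m p) = g := by
      rw [← Nat.gcd_eq_gcd_ab, hcop, Nat.cast_one, zpow_one]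
    rw [zpow_add, zpow_mul, zpow_mul, zpow_natCast, zpow_natCast] at h1
    show g ∈ _
    rw [← h1]
    exact mul_mem (zpow_mem h _) (zpow_mem (hgp ω) _)
  have hfix : S.fix g g = S.fix (g ^ m) (g ^ m) :=
    Nat.card_congr (Equiv.subtypeEquivRight fun ω => and_congr (hiff ω) (hiff ω))
  have hgm : g ^ m ∈ S.H := pow_mem hg m
  have hord : (⟨g ^ m, hgm⟩ : ↥S.H) ^ r = 1 := by
    refine Subtype.ext ?_
    show (g ^ m) ^ r = 1
    rw [← pow_mul, mul_comm, Nat.ordProj_mul_ordCompl_eq_self, pow_orderOf_eq_one]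
  have hP : IsPGroup p ↥(Subgroup.zpowers (⟨g ^ m, hgm⟩ : ↥S.H)) := by
    obtain ⟨j, -, hj⟩ := (Nat.dvd_prime_pow hp).mp (orderOf_dvd_of_pow_eq_one hord)
    exact IsPGroup.of_card (n := j) (by rw [Nat.card_zpowers, hj])
  obtain ⟨P, hPle⟩ := hP.exists_le_sylow
  have hK' : Nat.card (K.subgroupOf S.H) = p ^ n := by
    rw [Nat.card_congr (Subgroup.subgroupOfEquivOfLe hKH).toEquiv, hK]
  have hidx : ¬ p ∣ (K.subgroupOf S.H).index := by
    have h := (K.subgroupOf S.H).card_mul_index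
    rw [hK'] at h
    rw [← h, Nat.mul_div_cancel_left _ (pow_pos hp.pos n)] at hH
    exact hH
  let Q : Sylow p ↥S.H := (IsPGroup.of_card hK').toSylow hidx
  obtain ⟨a, ha⟩ := MulAction.exists_smul_eq ↥S.H P Q
  have hmem : a * ⟨g ^ m, hgm⟩ * a⁻¹ ∈ K.subgroupOf S.H := by
    have h1 : a * ⟨g ^ m, hgm⟩ * a⁻¹ ∈ (Q : Subgroup ↥S.H) := by
      rw [← ha, Sylow.coe_subgroup_smul, Subgroup.mem_pointwise_smul_iff_inv_smul_mem, ← map_inv,
        MulAut.smul_def, MulAut.conj_apply, show a⁻¹ * (a * ⟨g ^ m, hgm⟩ * a⁻¹) * a⁻¹⁻¹ = ⟨g ^ m, hgm⟩ by group]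
      exact hPle (Subgroup.mem_zpowers _)
    exact h1
  rw [hfix, ← fix_conj S a.2 (g ^ m) (g ^ m)]
  exact hgood _ (Subgroup.mem_subgroupOf.mp hmem)

/-- An element of order three modulo the kernel fixes an odd number of hexads. -/
theorem three_odd {e : Fin 77 ≃ S.Hex} (he : S.IsEnum e) (hH : Nat.card ↥S.H = 21799895040) :
    ∀ g ∈ S.H, (∀ ω : S.Hex, S.Fixes (g ^ 3) ω) → Odd (S.fix g g) := by
  intro g hg hgp
  obtain ⟨hlen, hn, hok⟩ := ck_three
  obtain ⟨K, hK, hKH, hgood⟩ := exists_subgroup hok hn (fun h => by simp [h] at hlen) he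
  rw [hlen] at hK
  have := fix_eq_of_pow Nat.prime_three (n := 3) (by norm_num) K (by rw [hK]; norm_num) hKH
    (by rw [hH]; norm_num) (good := fun n => n % 2 == 1) hgood hg hgp
  exact Nat.odd_iff.mpr (by simpa using this)

/-- An element of order five modulo the kernel fixes exactly two hexads. -/
theorem five_two {e : Fin 77 ≃ S.Hex} (he : S.IsEnum e) (hH : Nat.card ↥S.H = 21799895040) :
    ∀ g ∈ S.H, (∀ ω : S.Hex, S.Fixes (g ^ 5) ω) → (∃ ω : S.Hex, ¬ S.Fixes g ω) → S.fix g g = 2 := by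
  intro g hg hgp hmove
  obtain ⟨hlen, hn, hok⟩ := ck_five
  obtain ⟨K, hK, hKH, hgood⟩ := exists_subgroup hok hn (fun h => by simp [h] at hlen) he
  rw [hlen] at hK
  have := fix_eq_of_pow Nat.prime_five (n := 1) one_ne_zero K (by rw [hK]; norm_num) hKH
    (by rw [hH]; norm_num) (good := fun n => n == 2 || n == 77) hgood hg hgp
  simp only [Bool.or_eq_true, beq_iff_eq] at this
  refine this.resolve_right fun h77 => ?_
  obtain ⟨ω, hω⟩ := hmove
  have hs : Function.Surjective (Subtype.val : {ω : S.Hex // S.Fixes g ω ∧ S.Fixes g ω} → S.Hex) :=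
    ((Nat.bijective_iff_injective_and_card _).mpr ⟨Subtype.val_injective, by
      rw [← Nat.card_congr e, Nat.card_eq_fintype_card (α := Fin 77), Fintype.card_fin]; exact h77⟩).2
  obtain ⟨x, rfl⟩ := hs ω
  exact hω x.2.1

end CfsgLib.J4Order
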