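import Cfsg.Agent.J4Local.Order.ZTotal
import Cfsg.Agent.J4Local.Order.ZData
import Cfsg.Agent.J4Local.Order.AwayMap
import Cfsg.Agent.J4Local.Order.Local35

/-!
The facts on hexads, from the class representatives of the sextet stabiliser.
-/

set_option autoImplicit false
set_option maxRecDepth 100000

namespace CfsgLib.J4Order

open Cfsg CfsgLib.J4CentT CfsgLib.Golay CfsgLib.Golay.Cert MulAction
open scoped Pointwise

/-- The list of the odd generator of the radical. -/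
def pList : List ℕ := [0, 2, 23, 3, 22, 17, 7, 19, 12, 15, 10, 11, 18, 4, 5, 20, 16, 14, 8, 6, 9, 21, 13, 1]

/-- The images of the basis under it. -/
def pTab : List ℕ := [26, 54, 57, 28, 107, 80, 27, 384, 128, 1536, 512, 4096, 6144]

/-- The test for centralising the odd part modulo the 2-core. -/
def innerB (sL : List ℕ) (i : ℕ) : Bool :=
  let pi := compL (compL sL sextW) sL
  inW (Nat.xor i (act pi i)) && (List.range 64).any fun n => rEl n == compL pi (compL sextW sextW)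

/-- The kinds of a group of numbers. -/
def kindOK (a : ZEl) (g : ZGroup) : Bool :=
  let w := wt 77 g.fixed
  w == 77 || (w == 13 && (g.zs ++ g.ts).all fun i => innerB a.list i) ||
    ((w == 21 || (w == 5 && g.zs.isEmpty)) && (g.zs ++ g.ts).all fun i => !innerB a.list i)

theorem ck_p : sextW = pList ∧ mvOK 0 pList pTab = true ∧ permOK pTab (qTab.getD 0 0) = true ∧
    ((List.range 77).all fun k => pget (qTab.getD 0 0) k == k) = true ∧
    compL pList (compL pList pList) = List.range 24 ∧ pList ≠ List.range 24 ∧ pList ∈ stGen := by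
  decide +kernel

theorem ck_kinds : ∀ k < 7, ((elAt zTab k).groups.all fun g => kindOK (elAt zTab k) g) = true := by
  decide +kernel

theorem ck_rEl_ok : ∀ n < 64, genOK (rEl n) = true := by decide +kernel

variable {G : Type*} [Group G] [Finite G] {z : G} {S : Setup z}

/-- The odd generator of the radical. -/
noncomputable abbrev Setup.pOdd (S : Setup z) : G := S.F.kap (ofList sextW)

theorem pOdd_order : orderOf S.pOdd = 3 := by
  obtain ⟨e, hm, -, -, h3, h1, -⟩ := ck_p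
  have hg : genOK pList = true := by
    simp only [mvOK, Bool.and_eq_true] at hm
    exact hm.1.1
  haveI : Fact (Nat.Prime 3) := ⟨Nat.prime_three⟩
  rw [Setup.pOdd, orderOf_injective S.F.kap S.F.kap_inj, e]
  refine orderOf_eq_prime (list_id ?_) fun h => h1 ?_
  · rw [pow_succ, pow_two, mul_assoc, Subgroup.coe_mul, Subgroup.coe_mul, toList_mul, toList_mul, toList_ofList hg]
    exact h3
  · rw [← toList_ofList hg, h, OneMemClass.coe_one, toList_one]

theorem pOdd_mem : S.pOdd ∈ S.H := by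
  obtain ⟨e, -, -, -, -, -, hm⟩ := ck_p
  exact stGen_mem_H S (e ▸ hm)

theorem pOdd_fixes {e : Fin 77 ≃ S.Hex} (he : S.IsEnum e) (ω : S.Hex) : S.Fixes S.pOdd ω := by
  obtain ⟨ep, hm, hP, hid, -, -, -⟩ := ck_p
  simp only [List.all_eq_true, List.mem_range, beq_iff_eq] at hid
  obtain ⟨k, rfl⟩ := e.surjective ω
  have hd : S.F.b 0 * S.F.kap (ofList pList) ∈ S.H := by
    rw [S.F.b_zero, one_mul, ← ep]; exact pOdd_mem
  have h := (perm_fixes (S := S) he hm hP hd k).mpr (hid k k.2)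
  rwa [S.F.b_zero, one_mul, ← ep] at h

/-- Centralising the odd part modulo the 2-core is invariant under the centraliser. -/
theorem inner_conj (hJ : IsOfJankoFourTypeAt z) (hs : S.SplitFacts) {e : Fin 77 ≃ S.Hex} (he : S.IsEnum e)
    {h u : G} (hh : h ∈ S.H) (hu : u ∈ S.H) (hi : S.Inner S.pOdd u) : S.Inner S.pOdd (h * u * h⁻¹) := by
  classical
  obtain ⟨P, g, N, ψ, -, -, hψ, hkerc, -, hψE, -, -, -⟩ := S.exists_psi hJ
  have hfix := S.kernel_eq_of hs.card (pOdd_fixes he) (fun _ ha => E_fixes ha) pOdd_order pOdd_mem hψ hkerc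
  haveI hEn : (S.E.subgroupOf S.H).Normal := ⟨fun a ha c => Subgroup.mem_subgroupOf.2
    ((Subgroup.mem_normalizer_iff.1 (S.data.cent_norm c.2) _).1 (Subgroup.mem_subgroupOf.1 ha))⟩
  set E' := S.E.subgroupOf S.H with hE'
  set π := QuotientGroup.mk' E' with hπ
  set p' : ↥S.H := ⟨S.pOdd, pOdd_mem⟩ with hp'
  have hinner : ∀ x : ↥S.H, S.Inner S.pOdd x ↔ π x * π p' = π p' * π x := by
    intro x
    rw [← mul_inv_eq_one, show π x * π p' * (π p' * π x)⁻¹ = π (x * p' * x⁻¹ * p'⁻¹) by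
      simp only [map_mul, map_inv]; group, hπ, QuotientGroup.mk'_apply, QuotientGroup.eq_one_iff, hE',
      Subgroup.mem_subgroupOf]
    rfl
  have hk : Subgroup.zpowers p' ⊔ E' = ψ.ker := by
    refine Subgroup.eq_of_le_of_card_ge (sup_le ?_ ?_) ?_
    · rw [Subgroup.zpowers_le, MonoidHom.mem_ker, hfix]
      exact pOdd_fixes he
    · intro a ha
      exact hψE a (Subgroup.mem_subgroupOf.1 ha)
    · rw [hkerc, CfsgLib.Solvable.card_sup_of_disjoint (fun a _ =>
          Subgroup.mem_normalizer_iff.mpr fun x => ⟨fun hx => hEn.conj_mem x hx a, fun hx => by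
            simpa [mul_assoc] using hEn.conj_mem _ hx a⁻¹⟩)
        (Subgroup.inf_eq_bot_of_coprime (by
          rw [Nat.card_zpowers, Subgroup.orderOf_mk, pOdd_order, hE',
            Nat.card_congr (Subgroup.subgroupOfEquivOfLe S.data.le_cent).toEquiv, S.data.card_E]
          decide)),
        Nat.card_zpowers, Subgroup.orderOf_mk, pOdd_order, hE',
        Nat.card_congr (Subgroup.subgroupOfEquivOfLe S.data.le_cent).toEquiv, S.data.card_E]
  set a : ↥S.H := ⟨h, hh⟩
  have hc : a⁻¹ * p' * a ∈ Subgroup.zpowers p' ⊔ E' := by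
    rw [hk]
    have hp : p' ∈ ψ.ker := MonoidHom.mem_ker.mpr ((hfix p').mpr (pOdd_fixes he))
    have := (MonoidHom.normal_ker ψ).conj_mem p' hp a⁻¹
    rwa [inv_inv] at this
  obtain ⟨_, ⟨i, rfl⟩, c, hcE, ec⟩ := Subgroup.mem_sup_of_normal_right.1 hc
  have h1 : π a⁻¹ * π p' * π a = π p' ^ i := by
    rw [← map_mul, ← map_mul, ← ec, map_mul, show π c = 1 from (QuotientGroup.eq_one_iff c).2 hcE, mul_one]
    exact map_zpow π p' i
  have h2 : Commute (π ⟨u, hu⟩) (π p') := (hinner ⟨u, hu⟩).1 hi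
  refine (hinner ⟨h * u * h⁻¹, mul_mem (mul_mem hh hu) (inv_mem hh)⟩).2 ?_
  rw [show (⟨h * u * h⁻¹, _⟩ : ↥S.H) = a * ⟨u, hu⟩ * a⁻¹ from rfl, map_mul, map_mul]
  have h3 : π ⟨u, hu⟩ * (π a⁻¹ * π p' * π a) = π a⁻¹ * π p' * π a * π ⟨u, hu⟩ := by
    rw [h1]; exact (h2.zpow_right i).eq
  rw [map_inv] at h3 ⊢
  calc π a * π ⟨u, hu⟩ * (π a)⁻¹ * π p' = π a * (π ⟨u, hu⟩ * ((π a)⁻¹ * π p' * π a)) * (π a)⁻¹ := by group
    _ = π p' * (π a * π ⟨u, hu⟩ * (π a)⁻¹) := by rw [h3]; group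

theorem inner_iff {σ : M24} {sL : List ℕ} (hL : toList σ.1 = sL) (hσ : σ * σ = 1) {i : ℕ} (hi : i < 2048) :
    S.Inner S.pOdd (S.F.b i * S.F.kap σ) ↔ innerB sL i = true := by
  obtain ⟨ep, hm, -, -, h3, -, -⟩ := ck_p
  have hg : genOK sextW = true := by
    rw [ep]
    simp only [mvOK, Bool.and_eq_true] at hm
    exact hm.1.1
  set s := ofList sextW with hs
  have hs3 : s⁻¹ = s * s := inv_eq_of_mul_eq_one_right (list_id (by
    rw [Subgroup.coe_mul, Subgroup.coe_mul, toList_mul, toList_mul, hs, toList_ofList hg, ep]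
    exact h3))
  obtain ⟨π, hπ⟩ : ∃ π : M24, π = σ * s * σ := ⟨_, rfl⟩
  have hσi : σ⁻¹ = σ := inv_eq_of_mul_eq_one_right hσ
  have hπL : toList π.1 = compL (compL sL sextW) sL := by
    rw [hπ, Subgroup.coe_mul, Subgroup.coe_mul, toList_mul, toList_mul, hL, hs, toList_ofList hg]
  have hτL : toList (π * s⁻¹).1 = compL (compL (compL sL sextW) sL) (compL sextW sextW) := by
    rw [hs3, Subgroup.coe_mul, Subgroup.coe_mul, toList_mul, toList_mul, hπL, hs, toList_ofList hg]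
  have hc : S.F.b i * S.F.kap σ * S.pOdd * (S.F.b i * S.F.kap σ)⁻¹ * S.pOdd⁻¹ =
      S.F.b (i ^^^ actG π i) * S.F.kap (π * s⁻¹) := by
    have e1 : S.F.b i * S.F.kap σ * S.pOdd * (S.F.b i * S.F.kap σ)⁻¹ =
        S.F.b i * (S.F.b 0 * S.F.kap π) * (S.F.b i)⁻¹ := by
      have hk : S.F.kap π = S.F.kap σ * S.F.kap s * (S.F.kap σ)⁻¹ := by
        rw [← map_inv, ← map_mul, ← map_mul, hσi, hπ]
      rw [S.F.b_zero, one_mul, hk]
      show S.F.b i * S.F.kap σ * S.F.kap s * (S.F.b i * S.F.kap σ)⁻¹ = _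
      group
    rw [e1, S.F.conj_b _ (by norm_num) hi, map_mul S.F.kap π, map_inv S.F.kap s, Nat.zero_xor, ← mul_assoc]
  show S.F.b i * S.F.kap σ * S.pOdd * (S.F.b i * S.F.kap σ)⁻¹ * S.pOdd⁻¹ ∈ S.E ↔ _
  rw [hc, S.data.mem_iff S.unique, innerB]
  simp only [Bool.and_eq_true, List.any_eq_true, List.mem_range, beq_iff_eq]
  have hact : actG π i = act (compL (compL sL sextW) sL) i := by rw [← hπL]; try rfl
  constructor
  · rintro ⟨j, hj, hw, n, hn, e⟩
    obtain ⟨e1, e2⟩ := S.F.form_inj (xor_lt hi (act_lt _ _)) hj e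
    refine ⟨by rw [← hact, show Nat.xor i (actG π i) = j from e1]; exact hw, n, hn, ?_⟩
    rw [← hτL, e2, rg_list hn]
  · rintro ⟨hw, n, hn, e⟩
    refine ⟨i ^^^ actG π i, xor_lt hi (act_lt _ _), by rw [hact]; exact hw, n, hn, ?_⟩
    rw [show π * s⁻¹ = rg n from toList_coe_injective (by
      show toList (π * s⁻¹).1 = toList (rg n).1
      rw [hτL, rg_list hn, e])]

/-- The facts on hexads. -/
theorem hexFacts (hJ : IsOfJankoFourTypeAt z) (hs : S.SplitFacts) (hH : Nat.card ↥S.H = 21799895040)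
    {e : Fin 77 ≃ S.Hex} (he : S.IsEnum e) (hel : ∀ k < zTab.length, ElFacts S e (elAt zTab k))
    (hrep1 : ∀ σ : M24, σ * σ = 1 → actG σ zIdx = zIdx →
      ∃ g, actG g zIdx = zIdx ∧ ∃ k < 7, g * σ * g⁻¹ = (elAt zTab k).sig)
    (hbad : ∀ u v : G, S.Good (u, v) → S.fix u u = 13 → S.fix v v = 5 →
      ¬ ∀ ω : S.Hex, S.Fixes (u * v * (u * v)) ω) : S.HexFacts S.pOdd := by
  classical
  refine ⟨hs.card, pOdd_fixes he, fun _ ha => E_fixes ha, pOdd_order, pOdd_mem, three_odd he hH,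
    five_two he hH, ?_, hbad⟩
  intro u hu ho hmove
  have hne : S.fix u u ≠ 77 := fun h77 => by
    obtain ⟨ω, hω⟩ := hmove
    obtain ⟨x, rfl⟩ := ((Nat.bijective_iff_injective_and_card
      (Subtype.val : {ω : S.Hex // S.Fixes u ω ∧ S.Fixes u ω} → S.Hex)).mpr
        ⟨Subtype.val_injective, by rw [hs.card]; exact h77⟩).2 ω
    exact hω x.2.1
  obtain ⟨ω, hω⟩ : ∃ ω : S.Hex, S.Fixes u ω := by
    by_contra hno
    push Not at hno
    haveI : Fintype S.Hex := Fintype.ofFinite _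
    haveI : Fact (Nat.Prime 2) := ⟨Nat.prime_two⟩
    set U : ↥S.H := ⟨u, hu⟩
    have hU : U ^ 2 = 1 := Subtype.ext (show u ^ 2 = 1 by rw [← ho, pow_orderOf_eq_one])
    have h2 : (MulAction.toPerm U : Equiv.Perm S.Hex) ^ 2 ^ 1 = 1 := by
      refine Equiv.ext fun ω => ?_
      rw [pow_one, pow_two, Equiv.Perm.mul_apply, MulAction.toPerm_apply, MulAction.toPerm_apply, smul_smul,
        ← pow_two, hU, one_smul, Equiv.Perm.one_apply]
    have h := Equiv.Perm.card_compl_support_modEq (p := 2) h2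
    rw [Finset.card_eq_zero.mpr (Finset.eq_empty_of_forall_notMem fun ω hω => by
      rw [Finset.mem_compl, Equiv.Perm.notMem_support, MulAction.toPerm_apply] at hω
      exact hno ω ((smul_eq_iff S U ω).mp hω)), ← Nat.card_eq_fintype_card, hs.card] at h
    exact absurd h (by decide)
  obtain ⟨a, rfl⟩ := exists_smul_base S ω
  have hai : (a : G)⁻¹ ∈ S.H := inv_mem a.2
  have hbase : S.Fixes ((a : G)⁻¹ * u * a) S.base := by
    simp only [Setup.Fixes, Subgroup.mem_normalizer_iff, smul_val, mem_conj_map] at hω ⊢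
    intro x
    have := hω ((a : G) * x * (a : G)⁻¹)
    simpa [mul_assoc] using this
  obtain ⟨i, hi, σ, hσz, eu⟩ := (mem_H0_iff S).mp
    (mem_H0_of_fixes hs hH (mul_mem (mul_mem hai hu) a.2) hbase)
  have hu2 : u * u = 1 := by rw [← pow_two, ← ho]; exact pow_orderOf_eq_one u
  have hσ : σ * σ = 1 := by
    have h0 : S.F.b i * S.F.kap σ * (S.F.b i * S.F.kap σ) = 1 := by
      rw [← eu, show (a : G)⁻¹ * u * a * ((a : G)⁻¹ * u * a) = (a : G)⁻¹ * (u * u) * a by group, hu2]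
      group
    rw [S.F.mul_form σ σ hi hi] at h0
    exact (S.F.form_inj (j := 0) (τ := 1) (xor_lt hi (act_lt _ _)) (by norm_num)
      (by rw [S.F.b_zero, map_one, mul_one]; exact h0)).2
  obtain ⟨g, hg, k, hk, eg⟩ := hrep1 σ hσ hσz
  set c := S.F.kap g * (a : G)⁻¹ with hc
  have hcH : c ∈ S.H := mul_mem (kap_mem_H hg) hai
  have ev : c * u * c⁻¹ = S.F.b (actG g i) * S.F.kap (elAt zTab k).sig := by
    rw [← eg, ← S.F.conj_kap g σ hi, ← eu, hc]; group
  set j := actG g i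
  have hj : j < 2048 := act_lt _ _
  have hE := hel k (lt_of_lt_of_le hk (by decide +kernel))
  have hov : orderOf (c * u * c⁻¹) = 2 := by rw [← MulAut.conj_apply, MulEquiv.orderOf_eq, ho]
  have hzc : IsConj z (c * u * c⁻¹) ↔ IsConj z u := conj_z_iff c u
  obtain ⟨grp, hgrp, hjm, hts⟩ : ∃ grp ∈ (elAt zTab k).groups, j ∈ grp.zs ++ grp.ts ∧
      (grp.zs = [] → ¬ IsConj z u) := by
    by_cases hz : IsConj z u
    · obtain ⟨grp, h1, h2⟩ := List.mem_flatMap.mp ((hE.memZ j hj).mpr (ev ▸ hzc.mpr hz))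
      exact ⟨grp, h1, List.mem_append_left _ h2, fun h0 => by rw [h0] at h2; simp at h2⟩
    · obtain ⟨grp, h1, h2⟩ := List.mem_flatMap.mp ((hE.memT j hj).mpr ⟨ev ▸ hov, fun h => hz (hzc.mp (ev ▸ h))⟩)
      exact ⟨grp, h1, List.mem_append_right _ h2, fun _ => hz⟩
  have hfix : S.fix u u = wt 77 grp.fixed := by
    rw [← fix_conj S hcH u u, ev]
    exact fix_self_eq_wt (hE.acts grp hgrp j hjm) (hE.mask grp hgrp).2
  have hinner : S.Inner S.pOdd u ↔ innerB (elAt zTab k).list j = true := by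
    rw [← inner_iff (S := S) (σ := (elAt zTab k).sig) (toList_ofList hE.gen) hE.sq hj, ← ev]
    refine ⟨inner_conj hJ hs he hcH hu, fun h => ?_⟩
    have h' := inner_conj hJ hs he (inv_mem hcH) (mul_mem (mul_mem hcH hu) (inv_mem hcH)) h
    rwa [show c⁻¹ * (c * u * c⁻¹) * c⁻¹⁻¹ = u by group] at h'
  have hk' := List.all_eq_true.mp (ck_kinds k hk) grp hgrp
  simp only [kindOK, Bool.or_eq_true, Bool.and_eq_true, beq_iff_eq, List.all_eq_true, Bool.not_eq_true',
    List.isEmpty_iff] at hk'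
  rw [← hfix] at hk'
  rcases hk' with (h | ⟨h, hall⟩) | ⟨h, hall⟩
  · exact absurd h hne
  · exact Or.inl ⟨h, hinner.mpr (hall j hjm)⟩
  · have hni : ¬ S.Inner S.pOdd u := fun hI => by
      rw [hinner, hall j hjm] at hI
      exact Bool.false_ne_true hI
    rcases h with h | ⟨h, he0⟩
    · exact Or.inr (Or.inl ⟨h, hni⟩)
    · exact Or.inr (Or.inr ⟨h, hni, hts he0⟩)

end CfsgLib.J4Order
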