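import Cfsg.Agent.J4Local.Order.CountZFrom
import Cfsg.Agent.J4Local.Order.HexFactsProof

/-!
The pairs with the central element among the powers of the product, from the list of hexads and the orbit lists.
-/

set_option autoImplicit false
set_option maxRecDepth 100000

namespace CfsgLib.J4Order

open Cfsg CfsgLib.J4CentT CfsgLib.Golay CfsgLib.Golay.Cert MulAction
open scoped Pointwise

variable {G : Type*} [Group G] [Finite G] {z : G} {S : Setup z} {e : Fin 77 ≃ S.Hex}

/-- The number of pairs, from the orbit lists. -/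
theorem card_pairs_z_lists (hJ : IsOfJankoFourTypeAt z) (hs : S.SplitFacts) (hz2 : S.rootZ 2)
    (hH : Nat.card ↥S.H = 21799895040) (he : S.IsEnum e) {I : Finset M24} (hI : OrbitSum I)
    (hrep1 : ∀ σ : M24, σ * σ = 1 → actG σ zIdx = zIdx →
      ∃ g, actG g zIdx = zIdx ∧ ∃ k < 7, g * σ * g⁻¹ = (elAt zTab k).sig) :
    Nat.card {q : G × G // IsConj z q.1 ∧ IsConj S.pair0 q.2 ∧ S.w ∈ Subgroup.zpowers (q.1 * q.2)} =
      29236337328 :=
  card_pairs_z_from hJ hs hz2 hH he hI
    (hexFacts hJ hs hH he (zel hs hz2 he) hrep1 (no_pair_of hs hz2 hH he hI))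

end CfsgLib.J4Order
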