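import Cfsg.Agent.J4Local.Order.Reduce

/-!
Good pairs fixing the base hexad, sorted by their parts in the Mathieu group.
-/

set_option autoImplicit false
set_option maxRecDepth 100000

namespace CfsgLib.J4Order

open Cfsg CfsgLib.J4CentT CfsgLib.Golay CfsgLib.Golay.Cert MulAction
open scoped Pointwise

variable {G : Type*} [Group G] [Finite G] {z : G} {S : Setup z}

/-- The good pairs with given parts and a given number of fixed hexads. -/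
noncomputable def Setup.pairsAt (S : Setup z) (f : ℕ) (σ τ : M24) : ℕ :=
  Nat.card {p : Fin 2048 × Fin 2048 // S.Good (S.F.b p.1 * S.F.kap σ, S.F.b p.2 * S.F.kap τ) ∧
    S.fix (S.F.b p.1 * S.F.kap σ) (S.F.b p.2 * S.F.kap τ) = f}

theorem actG_inj (S : Setup z) (g : M24) {i j : ℕ} (hi : i < 2048) (hj : j < 2048) (h : actG g i = actG g j) :
    i = j := by
  have := congrArg (actG g⁻¹) h
  rwa [← S.F.act_mul _ _ hi, ← S.F.act_mul _ _ hj, inv_mul_cancel, S.F.act_one hi, S.F.act_one hj] at this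

theorem pairsAt_conj (f : ℕ) {g : M24} (hg : actG g zIdx = zIdx) (σ τ : M24) :
    S.pairsAt f (g * σ * g⁻¹) (g * τ * g⁻¹) = S.pairsAt f σ τ := by
  symm
  let a : Fin 2048 → Fin 2048 := fun i => ⟨actG g i, act_lt _ _⟩
  have ha : Function.Bijective a :=
    Finite.injective_iff_bijective.mp fun i j e => Fin.ext (actG_inj S g i.2 j.2 (congrArg Fin.val e))
  have hgH : S.F.kap g ∈ S.H := by
    refine Subgroup.mem_centralizer_singleton_iff.mpr ?_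
    rw [S.F.swap g ck_zIdx.1, hg]
  refine Nat.card_congr (Equiv.subtypeEquiv ((Equiv.ofBijective a ha).prodCongr (Equiv.ofBijective a ha)) fun p => ?_)
  show _ ↔ S.Good (S.F.b (actG g p.1) * S.F.kap (g * σ * g⁻¹), S.F.b (actG g p.2) * S.F.kap (g * τ * g⁻¹)) ∧
    S.fix (S.F.b (actG g p.1) * S.F.kap (g * σ * g⁻¹)) (S.F.b (actG g p.2) * S.F.kap (g * τ * g⁻¹)) = f
  rw [← S.F.conj_kap g σ p.1.2, ← S.F.conj_kap g τ p.2.2,
    good_conj hgH (S.F.b p.1 * S.F.kap σ, S.F.b p.2 * S.F.kap τ), fix_conj S hgH]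

theorem good_invol {u v : G} (h : S.Good (u, v)) : u * u = 1 ∧ v * v = 1 := by
  obtain ⟨hu, hv, -, -⟩ := h
  refine ⟨?_, ?_⟩
  · obtain ⟨g, hg⟩ := isConj_iff.mp (S.F.zconj.symm.trans hu)
    change g * S.w * g⁻¹ = u at hg
    rw [← hg, show g * S.w * g⁻¹ * (g * S.w * g⁻¹) = g * (S.w * S.w) * g⁻¹ by group, S.F.b_sq ck_zIdx.1]
    group
  · change orderOf v = 2 at hv
    rw [← pow_two, ← hv]; exact pow_orderOf_eq_one v

theorem card_at_base (hs : S.SplitFacts) (hH : Nat.card ↥S.H = 21799895040) (I : Finset M24)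
    (hI : ∀ σ, σ ∈ I ↔ σ * σ = 1 ∧ actG σ zIdx = zIdx) (f : ℕ) :
    Nat.card {q : G × G // S.Good q ∧ S.fix q.1 q.2 = f ∧ S.Fixes q.1 S.base ∧ S.Fixes q.2 S.base} =
      ∑ σ ∈ I, ∑ τ ∈ I, S.pairsAt f σ τ := by
  classical
  let T : M24 × M24 → Type := fun st => {p : Fin 2048 × Fin 2048 //
    S.Good (S.F.b p.1 * S.F.kap st.1, S.F.b p.2 * S.F.kap st.2) ∧
      S.fix (S.F.b p.1 * S.F.kap st.1) (S.F.b p.2 * S.F.kap st.2) = f}
  have hfix : ∀ (i : Fin 2048) σ, σ ∈ I → S.F.b i * S.F.kap σ ∈ S.H0 := fun i σ hσ =>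
    (mem_H0_iff S).mpr ⟨i, i.2, σ, ((hI σ).mp hσ).2, rfl⟩
  let F : (Σ st : ↥(I ×ˢ I), T st.1) →
      {q : G × G // S.Good q ∧ S.fix q.1 q.2 = f ∧ S.Fixes q.1 S.base ∧ S.Fixes q.2 S.base} :=
    fun x => ⟨(S.F.b x.2.1.1 * S.F.kap x.1.1.1, S.F.b x.2.1.2 * S.F.kap x.1.1.2), x.2.2.1, x.2.2.2,
      H0_fixes S (hfix _ _ (Finset.mem_product.mp x.1.2).1), H0_fixes S (hfix _ _ (Finset.mem_product.mp x.1.2).2)⟩
  have hF : Function.Bijective F := by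
    refine ⟨?_, ?_⟩
    · rintro ⟨⟨⟨σ, τ⟩, h1⟩, ⟨⟨i, j⟩, h2⟩⟩ ⟨⟨⟨σ', τ'⟩, h1'⟩, ⟨⟨i', j'⟩, h2'⟩⟩ e
      obtain ⟨e1, e2⟩ := Prod.ext_iff.mp (congrArg Subtype.val e)
      obtain ⟨a1, b1⟩ := S.F.form_inj i.2 i'.2 e1
      obtain ⟨a2, b2⟩ := S.F.form_inj j.2 j'.2 e2
      change σ = σ' at b1
      change τ = τ' at b2
      subst b1 b2
      obtain rfl := Fin.ext a1
      obtain rfl := Fin.ext a2
      rfl
    · rintro ⟨⟨u, v⟩, hg, hf, hu, hv⟩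
      obtain ⟨huH, hvH⟩ := mem_H_of_good hg
      obtain ⟨i, hi, σ, hσ, eu⟩ := (mem_H0_iff S).mp (mem_H0_of_fixes hs hH huH hu)
      obtain ⟨j, hj, τ, hτ, ev⟩ := (mem_H0_iff S).mp (mem_H0_of_fixes hs hH hvH hv)
      obtain ⟨hu2, hv2⟩ := good_invol hg
      have key : ∀ {k : ℕ} {π : M24}, k < 2048 → S.F.b k * S.F.kap π * (S.F.b k * S.F.kap π) = 1 →
          π * π = 1 := by
        intro k π hk h
        rw [S.F.mul_form π π hk hk] at h
        exact (S.F.form_inj (j := 0) (τ := 1) (xor_lt hk (act_lt _ _)) (by norm_num)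
          (by rw [S.F.b_zero, map_one, mul_one]; exact h)).2
      have hσI : σ ∈ I := (hI σ).mpr ⟨key hi (eu ▸ hu2), hσ⟩
      have hτI : τ ∈ I := (hI τ).mpr ⟨key hj (ev ▸ hv2), hτ⟩
      refine ⟨⟨⟨(σ, τ), Finset.mem_product.mpr ⟨hσI, hτI⟩⟩, ⟨(⟨i, hi⟩, ⟨j, hj⟩), ?_, ?_⟩⟩, Subtype.ext ?_⟩
      · show S.Good (S.F.b i * S.F.kap σ, S.F.b j * S.F.kap τ)
        rw [← eu, ← ev]; exact hg
      · show S.fix (S.F.b i * S.F.kap σ) (S.F.b j * S.F.kap τ) = f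
        rw [← eu, ← ev]; exact hf
      · exact Prod.ext eu.symm ev.symm
  rw [← Nat.card_congr (Equiv.ofBijective F hF), Nat.card_sigma, Finset.univ_eq_attach,
    Finset.sum_attach (I ×ˢ I) (fun st => Nat.card (T st)), Finset.sum_product]
  rfl

end CfsgLib.J4Order
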