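import Cfsg.Agent.J4Local.Order.Basic

/-!
The action of the centraliser on the hexads.
-/

set_option autoImplicit false
set_option maxRecDepth 100000

namespace CfsgLib.J4Order

open Cfsg CfsgLib.J4CentT CfsgLib.Golay CfsgLib.Golay.Cert MulAction
open scoped Pointwise

variable {G : Type*} [Group G] [Finite G] {z : G} (S : Setup z)

instance : Finite S.Hex := Subtype.finite

/-- The base hexad as a member of the orbit. -/
def Setup.base : S.Hex := ⟨S.W, 1, one_mem _, by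
  ext x
  simp only [Subgroup.mem_map, MulEquiv.coe_toMonoidHom, map_one, MulAut.one_apply, exists_eq_right]⟩

theorem conj_map_mul (a c : G) (A : Subgroup G) :
    A.map (MulAut.conj (a * c)).toMonoidHom =
      (A.map (MulAut.conj c).toMonoidHom).map (MulAut.conj a).toMonoidHom := by
  rw [Subgroup.map_map]
  congr 1
  ext x
  simp [mul_assoc]

theorem mem_conj_map {a : G} {A : Subgroup G} {x : G} :
    x ∈ A.map (MulAut.conj a).toMonoidHom ↔ a⁻¹ * x * a ∈ A := by
  constructor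
  · rintro ⟨y, hy, rfl⟩
    simpa [mul_assoc] using hy
  · intro h
    exact ⟨_, h, by simp [mul_assoc]⟩

noncomputable instance hexAction : MulAction ↥S.H S.Hex where
  smul a ω := ⟨ω.1.map (MulAut.conj (a : G)).toMonoidHom, by
    obtain ⟨h, hh, e⟩ := ω.2
    exact ⟨a * h, mul_mem a.2 hh, by rw [conj_map_mul, e]⟩⟩
  one_smul ω := Subtype.ext (by
    show ω.1.map (MulAut.conj (1 : G)).toMonoidHom = ω.1
    ext x; rw [mem_conj_map]; simp)
  mul_smul a c ω := Subtype.ext (conj_map_mul (a : G) (c : G) ω.1)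

theorem smul_val (a : ↥S.H) (ω : S.Hex) : (a • ω).1 = ω.1.map (MulAut.conj (a : G)).toMonoidHom := rfl

theorem smul_eq_iff (a : ↥S.H) (ω : S.Hex) : a • ω = ω ↔ S.Fixes (a : G) ω := by
  rw [Setup.Fixes, Subgroup.mem_normalizer_iff]
  refine Subtype.ext_iff.trans ?_
  rw [smul_val]
  constructor
  · intro e x
    constructor
    · intro hx
      rw [← e, mem_conj_map]
      simpa [mul_assoc] using hx
    · intro hx
      rw [← e, mem_conj_map] at hx
      simpa [mul_assoc] using hx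
  · intro e
    ext x
    rw [mem_conj_map, e ((a : G)⁻¹ * x * a)]
    simp [mul_assoc]

theorem exists_smul_base (ω : S.Hex) : ∃ a : ↥S.H, a • S.base = ω := by
  obtain ⟨h, hh, e⟩ := ω.2
  exact ⟨⟨h, hh⟩, Subtype.ext e.symm⟩

instance hex_pretransitive : IsPretransitive ↥S.H S.Hex := ⟨fun ω ν => by
  obtain ⟨a, rfl⟩ := exists_smul_base S ω
  obtain ⟨c, rfl⟩ := exists_smul_base S ν
  exact ⟨c * a⁻¹, by rw [mul_smul, inv_smul_smul]⟩⟩

/-- The part of the centraliser in the normaliser of the 2^11. -/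
abbrev Setup.H0 : Subgroup G := S.H ⊓ Subgroup.normalizer (S.F.V : Set G)

theorem H0_fixes {d : G} (hd : d ∈ S.H0) : S.Fixes d S.base := by
  obtain ⟨h1, h2⟩ := hd
  have hE := Subgroup.mem_normalizer_iff.mp (S.data.cent_norm h1)
  have hV := Subgroup.mem_normalizer_iff.mp h2
  refine Subgroup.mem_normalizer_iff.mpr fun x => ?_
  show x ∈ S.E ⊓ S.F.V ↔ d * x * d⁻¹ ∈ S.E ⊓ S.F.V
  rw [Subgroup.mem_inf, Subgroup.mem_inf, hE x, hV x]

theorem mem_H0_iff {x : G} :
    x ∈ S.H0 ↔ ∃ i < 2048, ∃ σ : M24, actG σ zIdx = zIdx ∧ x = S.F.b i * S.F.kap σ := by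
  constructor
  · rintro ⟨h1, h2⟩
    obtain ⟨i, hi, σ, rfl⟩ := S.F.form h2
    exact ⟨i, hi, σ, (S.F.comm_iff σ hi ck_zIdx.1).mp (Subgroup.mem_centralizer_singleton_iff.mp h1), rfl⟩
  · rintro ⟨i, hi, σ, hσ, rfl⟩
    exact ⟨Subgroup.mem_centralizer_singleton_iff.mpr ((S.F.comm_iff σ hi ck_zIdx.1).mpr hσ),
      mul_mem (S.F.b_norm hi) (S.F.kap_norm σ)⟩

theorem card_H0 : Nat.card ↥S.H0 = 2048 * 138240 := by
  obtain ⟨K, hK, hmem⟩ := S.F.zstab
  let f : Fin 2048 × ↥K → ↥S.H0 := fun p => ⟨S.F.b p.1 * S.F.kap p.2.1,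
    (mem_H0_iff S).mpr ⟨p.1, p.1.2, p.2.1, (hmem _).mp p.2.2, rfl⟩⟩
  have hf : Function.Bijective f := by
    constructor
    · intro p q e
      obtain ⟨e1, e2⟩ := S.F.form_inj p.1.2 q.1.2 (congrArg Subtype.val e)
      exact Prod.ext (Fin.ext e1) (Subtype.ext e2)
    · intro x
      obtain ⟨i, hi, σ, hσ, e⟩ := (mem_H0_iff S).mp x.2
      exact ⟨(⟨i, hi⟩, ⟨σ, (hmem _).mpr hσ⟩), Subtype.ext e.symm⟩
  rw [← Nat.card_congr (Equiv.ofBijective f hf), Nat.card_prod, Nat.card_eq_fintype_card, Fintype.card_fin, hK]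

theorem card_hex_dvd (hH : Nat.card ↥S.H = 21799895040) : Nat.card S.Hex ∣ 77 := by
  have hi := MulAction.index_stabilizer_of_transitive ↥S.H S.base
  have hle : S.H0.subgroupOf S.H ≤ stabilizer ↥S.H S.base := fun a ha =>
    mem_stabilizer_iff.mpr ((smul_eq_iff S a _).mpr (H0_fixes S (Subgroup.mem_subgroupOf.mp ha)))
  have hd := Subgroup.index_dvd_of_le hle
  rw [hi] at hd
  have h1 := (S.H0.subgroupOf S.H).card_mul_index
  rw [Nat.card_congr (Subgroup.subgroupOfEquivOfLe (inf_le_left : S.H0 ≤ S.H)).toEquiv, card_H0, hH] at h1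
  rwa [show (S.H0.subgroupOf S.H).index = 77 by omega] at hd

theorem fix_conj {h : G} (hh : h ∈ S.H) (u v : G) :
    S.fix (h * u * h⁻¹) (h * v * h⁻¹) = S.fix u v := by
  symm
  have key : ∀ (d : G) (ω : S.Hex), S.Fixes d ω ↔ S.Fixes (h * d * h⁻¹) ((⟨h, hh⟩ : ↥S.H) • ω) := by
    intro d ω
    simp only [Setup.Fixes, Subgroup.mem_normalizer_iff, smul_val, mem_conj_map]
    constructor
    · intro H x
      have := H (h⁻¹ * x * h)
      simpa [mul_assoc] using this
    · intro H x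
      have := H (h * x * h⁻¹)
      simpa [mul_assoc] using this
  exact Nat.card_congr (Equiv.subtypeEquiv (MulAction.toPerm (⟨h, hh⟩ : ↥S.H))
    fun ω => and_congr (key u ω) (key v ω))

end CfsgLib.J4Order
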