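import Cfsg.Agent.J4Local.Order.HexRoot

/-!
The checks on the tables of the hexads.
-/

set_option autoImplicit false
set_option maxRecDepth 100000

namespace CfsgLib.J4Order

open Cfsg CfsgLib.J4CentT CfsgLib.Golay CfsgLib.Golay.Cert

/-- The hexads found before the second root is treated. -/
def knownRows : List ℕ := 0 :: List.range' 61 16

theorem ck_excl : knownRows.foldr (fun k m => Nat.lor (hexMasks.getD k 0) m) 0 = exclMask := by decide +kernel

theorem ck_root61 : rootData61.stabOK = true ∧ rootData61.orbOK = true ∧ distinctFrom rootData61.allCodes 0 = true ∧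
    rootData61.coverOK 0 = true ∧ rootData61.cpOK = true ∧ rootData61.srchOK = true ∧ rootData61.gensOK 61 = true := by
  decide +kernel

theorem ck_root1 : rootData1.stabOK = true ∧ rootData1.orbOK = true ∧ distinctFrom rootData1.allCodes 0 = true ∧
    rootData1.coverOK exclMask = true ∧ rootData1.cpOK = true ∧ rootData1.srchOK = true ∧
    rootData1.gensOK 1 = true := by
  decide +kernel

theorem ck_rootX : omask.testBit rootData1.x = true ∧ omask.testBit rootData61.x = true ∧
    ∀ k ∈ knownRows, (hexMasks.getD k 0).testBit rootData1.x = false := by decide +kernel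

theorem ck_base : (hexGens 0).all (fun c => decide (c < 128)) = true := by decide +kernel

theorem ck_step : ∀ k < 77, k ≠ 0 → k ≠ 1 → k ≠ 61 →
    (decide ((hexTab.getD k (0, 0, [])).1 < k) && decide ((hexTab.getD k (0, 0, [])).2.1 < 33) &&
      (decide (k < 61) || decide (61 ≤ (hexTab.getD k (0, 0, [])).1)) &&
      maskList (spanList ((hexGens (hexTab.getD k (0, 0, [])).1).map
        (mvImg (moveTab.getD (hexTab.getD k (0, 0, [])).2.1 [])))) == hexMasks.getD k 0) = true := by
  decide +kernel

theorem ck_separate : ∀ i < 77, ∀ j < 77, i ≠ j →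
    (hexGens i).any (fun c => !Nat.testBit (hexMasks.getD j 0) c) = true := by decide +kernel

end CfsgLib.J4Order
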