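import Cfsg.Agent.J4Local.Order.HexStep

/-!
The hexad over a given element of the orbit of pair type, by a search over unions of orbits of its fixers.
-/

set_option autoImplicit false
set_option maxRecDepth 100000

namespace CfsgLib.J4Order

open Cfsg CfsgLib.J4CentT CfsgLib.Golay CfsgLib.Golay.Cert MulAction

/-- The selections of pairwise compatible members of a list with a given total size. -/
def srch (sz : ℕ → ℕ) (ok : ℕ → ℕ → Bool) : List ℕ → List ℕ → ℕ → List (List ℕ)
  | [], ch, need => if need == 0 then [ch] else []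
  | i :: l, ch, need =>
    (if decide (sz i ≤ need) && ch.all (ok i) then srch sz ok l (i :: ch) (need - sz i) else []) ++
      (if decide (need ≤ (l.map sz).sum) then srch sz ok l ch need else [])

theorem srch_complete {sz : ℕ → ℕ} {ok : ℕ → ℕ → Bool} {p : ℕ → Bool}
    (hok : ∀ a b, p a = true → p b = true → ok a b = true) :
    ∀ (l ch : List ℕ) (need : ℕ), (∀ j ∈ ch, p j = true) → ((l.filter p).map sz).sum = need →
      (l.filter p).reverse ++ ch ∈ srch sz ok l ch need := by
  intro l
  induction l with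
  | nil =>
    intro ch need _ h
    simp only [List.filter_nil, List.map_nil, List.sum_nil] at h
    subst h
    simp [srch]
  | cons i l ih =>
    intro ch need hch h
    rw [srch, List.mem_append]
    by_cases hi : p i = true
    · left
      rw [List.filter_cons_of_pos hi, List.map_cons, List.sum_cons] at h
      have hcond : (decide (sz i ≤ need) && ch.all (ok i)) = true := by
        simp only [Bool.and_eq_true, decide_eq_true_eq, List.all_eq_true]
        exact ⟨by omega, fun j hj => hok i j hi (hch j hj)⟩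
      rw [if_pos hcond, List.filter_cons_of_pos hi, List.reverse_cons, List.append_assoc, List.singleton_append]
      exact ih (i :: ch) _ (fun j hj => (List.mem_cons.mp hj).elim (fun e => e ▸ hi) (hch j)) (by omega)
    · right
      rw [List.filter_cons_of_neg hi] at h ⊢
      have hle : ((l.filter p).map sz).sum ≤ (l.map sz).sum := (List.filter_sublist.map sz).sum_le_sum (fun _ _ => Nat.zero_le _)
      rw [if_pos (decide_eq_true (h ▸ hle))]
      exact ih ch need hch h

/-- The codes in an orbit. -/
def RootData.olist (D : RootData) (j : ℕ) : List ℕ := (D.orbs.getD j []).map fun e => e.1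

/-- The first code of an orbit. -/
def RootData.rep (D : RootData) (j : ℕ) : ℕ := ((D.orbs.getD j []).getD 0 (0, 0, 0)).1

/-- The size of an orbit. -/
def RootData.size (D : RootData) (j : ℕ) : ℕ := (D.orbs.getD j []).length

/-- The compatibility of two orbits. -/
def RootData.okP (D : RootData) (i j : ℕ) : Bool := (D.cp.getD i 0).testBit j

/-- The orbits compatible with themselves. -/
def RootData.good (D : RootData) : List ℕ := (List.range D.orbs.length).filter fun i => D.okP i i

/-- All codes in the orbits. -/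
def RootData.allCodes (D : RootData) : List ℕ := (List.range D.orbs.length).flatMap D.olist

/-- A selection is refuted by a product. -/
def RootData.killed (D : RootData) (C : List ℕ) : Bool :=
  C.any fun i => C.any fun j => (D.olist j).any fun b =>
    Nat.testBit omask (cmul (D.rep i) b) && !(C.any fun k => (D.olist k).contains (cmul (D.rep i) b))

/-- Check of the fixers. -/
def RootData.stabOK (D : RootData) : Bool :=
  decide (D.x < 8192) && D.stab.all fun s => mvOK s.1 s.2.1 s.2.2 && act s.2.1 zIdx == zIdx && mvImg s.2.2 D.x == D.x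

/-- Check of the orbits. -/
def RootData.orbOK (D : RootData) : Bool :=
  (List.range D.orbs.length).all fun j => decide (0 < D.size j) &&
    (List.range (D.size j)).all fun i =>
      let e := (D.orbs.getD j []).getD i (0, 0, 0)
      decide (e.1 < 8192) && Nat.testBit omask e.1 && (decide (i = 0) ||
        (decide (e.2.1 < i) && decide (e.2.2 < D.stab.length) &&
          mvImg (D.stab.getD e.2.2 (0, [], [])).2.2 ((D.orbs.getD j []).getD e.2.1 (0, 0, 0)).1 == e.1))

/-- Check that the orbits cover the candidates. -/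
def RootData.coverOK (D : RootData) (excl : ℕ) : Bool :=
  let all := maskList D.allCodes
  (List.range 64).all fun a => (List.range 128).all fun b =>
    let c := 128 * a + b
    !Nat.testBit omask c || !(cmul c D.x == cmul D.x c) || Nat.testBit excl c || Nat.testBit all c

/-- Check of the compatibility table. -/
def RootData.cpOK (D : RootData) : Bool :=
  (List.range D.orbs.length).all fun i => (List.range D.orbs.length).all fun j => D.okP i j ||
    (D.olist j).any (fun b => cmul (D.rep i) b != cmul b (D.rep i)) ||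
    (D.olist i).any (fun b => cmul (D.rep j) b != cmul b (D.rep j))

/-- Check of the search. -/
def RootData.srchOK (D : RootData) : Bool :=
  decide (D.ix < D.orbs.length) && (D.olist D.ix).contains D.x &&
    (srch D.size D.okP D.good [] 36).all fun C => C == D.sol || !C.contains D.ix || D.killed C

/-- Check of the generators. -/
def RootData.gensOK (D : RootData) (k : ℕ) : Bool :=
  D.gens.all (fun c => c == 90 || D.sol.any fun j => (D.olist j).contains c) &&
    maskList (spanList D.gens) == hexMasks.getD k 0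

theorem forall_lt_8192 {P : ℕ → Prop} (h : ∀ a < 64, ∀ b < 128, P (128 * a + b)) : ∀ c < 8192, P c := fun c hc => by
  have := h (c / 128) (by omega) (c % 128) (Nat.mod_lt _ (by norm_num))
  rwa [Nat.div_add_mod] at this

theorem length_filter_flatMap {O : ℕ → List ℕ} {q : ℕ → Bool} {p : ℕ → Bool} :
    ∀ l : List ℕ, (∀ j ∈ l, ∀ c ∈ O j, q c = p j) →
      ((l.flatMap O).filter q).length = ((l.filter p).map fun j => (O j).length).sum := by
  intro l
  induction l with
  | nil => simp
  | cons a l ih =>
    intro h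
    rw [List.flatMap_cons, List.filter_append, List.length_append, ih fun j hj => h j (List.mem_cons_of_mem _ hj)]
    have ha := h a List.mem_cons_self
    by_cases hp : p a = true
    · rw [List.filter_eq_self.mpr (fun c hc => (ha c hc).trans hp), List.filter_cons_of_pos hp, List.map_cons,
        List.sum_cons]
    · rw [List.filter_eq_nil_iff.mpr (fun c hc => by rw [ha c hc]; exact hp), List.filter_cons_of_neg hp,
        List.length_nil, Nat.zero_add]

variable {G : Type*} [Group G] [Finite G] {z : G} (S : Setup z)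

omit [Finite G] in
theorem hex_comm (ω : S.Hex) {x y : G} (hx : x ∈ ω.1) (hy : y ∈ ω.1) : x * y = y * x := by
  obtain ⟨h, -, e⟩ := ω.2
  rw [e] at hx hy
  obtain ⟨a, ha, rfl⟩ := hx
  obtain ⟨b, hb, rfl⟩ := hy
  obtain ⟨i, hi, rfl⟩ := S.F.b_surj a ha.2
  obtain ⟨j, hj, rfl⟩ := S.F.b_surj b hb.2
  rw [← map_mul, ← map_mul, S.F.b_comm hi hj]

theorem exists_hex_of_inO {x : G} (hx : S.InO x) : ∃ ω : S.Hex, x ∈ ω.1 := by
  obtain ⟨h, hh, rfl⟩ := hx
  refine ⟨(⟨h, hh⟩ : ↥S.H) • S.base, ?_⟩
  rw [smul_val]
  refine ⟨S.t0, ⟨(S.data.b_mem_iff S.unique (by norm_num)).mpr (by decide +kernel), S.F.b_mem _ (by norm_num)⟩, rfl⟩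

variable {S} (hs : S.SplitFacts) (hz2 : S.rootZ 2)

include hs hz2

/-- The hexad through the given element has the codes of the given row. -/
theorem hexad_of_root (D : RootData) {excl k : ℕ} (hk : k < 77) (h1 : D.stabOK = true) (h2 : D.orbOK = true)
    (h2' : distinctFrom D.allCodes 0 = true) (h3 : D.coverOK excl = true) (h4 : D.cpOK = true)
    (h5 : D.srchOK = true) (h6 : D.gensOK k = true) {ω : S.Hex} (hxω : S.el D.x ∈ ω.1) (hxO : S.InO (S.el D.x))
    (hexcl : ∀ c < 8192, excl.testBit c = true → S.InO (S.el c) → S.el c ∉ ω.1) : S.HasMask ω k := by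
  classical
  simp only [RootData.stabOK, Bool.and_eq_true, decide_eq_true_eq, List.all_eq_true, beq_iff_eq] at h1
  obtain ⟨hx8, h1⟩ := h1
  have hfix : ∀ g, g < D.stab.length → ∀ c < 8192,
      mvImg (D.stab.getD g (0, [], [])).2.2 c < 8192 ∧
        (S.el (mvImg (D.stab.getD g (0, [], [])).2.2 c) ∈ ω.1 ↔ S.el c ∈ ω.1) := by
    intro g hg c hc
    rw [List.getD_eq_getElem _ _ hg]
    have key := h1 _ (List.getElem_mem hg)
    generalize D.stab[g] = s at key ⊢
    obtain ⟨i, L, tab⟩ := s
    obtain ⟨⟨hmv, hz⟩, himg⟩ := key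
    have hh : genOK L = true ∧ i < 2048 := by
      have := hmv
      simp only [mvOK, Bool.and_eq_true, decide_eq_true_eq] at this
      exact this.1
    have hd := mem_H_of S hh.2 hh.1 hz
    obtain ⟨hc1, hc2⟩ := conj_el S hmv hc
    have hx' := (conj_el S hmv hx8).2
    rw [himg] at hx'
    have hfx : (⟨_, hd⟩ : ↥S.H) • ω = ω := hs.unique _ hxO _ _ (by
      rw [smul_val]; exact ⟨_, hxω, hx'⟩) hxω
    refine ⟨hc1, ?_⟩
    rw [← hc2]
    conv_lhs => rw [← hfx, smul_val, mem_conj_map]
    simp [mul_assoc]
  simp only [RootData.orbOK, List.all_eq_true, List.mem_range, Bool.and_eq_true, decide_eq_true_eq,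
    Bool.or_eq_true, beq_iff_eq] at h2
  have hrep : ∀ j < D.orbs.length, ∀ c ∈ D.olist j,
      c < 8192 ∧ omask.testBit c = true ∧ (S.el c ∈ ω.1 ↔ S.el (D.rep j) ∈ ω.1) := by
    intro j hj c hc
    obtain ⟨hpos, ho⟩ := h2 j hj
    suffices h : ∀ i < D.size j, ((D.orbs.getD j []).getD i (0, 0, 0)).1 < 8192 ∧
        omask.testBit ((D.orbs.getD j []).getD i (0, 0, 0)).1 = true ∧
        (S.el ((D.orbs.getD j []).getD i (0, 0, 0)).1 ∈ ω.1 ↔ S.el (D.rep j) ∈ ω.1) by
      obtain ⟨e, he, rfl⟩ := List.mem_map.mp hc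
      obtain ⟨i, hi, rfl⟩ := List.mem_iff_getElem.mp he
      have := h i hi
      rwa [List.getD_eq_getElem _ _ hi] at this
    intro i
    induction i using Nat.strongRecOn with | ind i ih => ?_
    intro hi
    obtain ⟨⟨hlt, hbit⟩, hstep⟩ := ho i hi
    refine ⟨hlt, hbit, ?_⟩
    rcases hstep with rfl | ⟨⟨hp, hg⟩, e⟩
    · exact Iff.rfl
    · obtain ⟨hp8, -, hiff⟩ := ih _ hp (lt_trans hp hi)
      rw [← e]
      exact (hfix _ hg _ hp8).2.trans hiff
  let p : ℕ → Bool := fun j => decide (S.el (D.rep j) ∈ ω.1)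
  let q : ℕ → Bool := fun c => decide (S.el c ∈ ω.1)
  have hin : ∀ j < D.orbs.length, p j = true → ∀ c ∈ D.olist j,
      c < 8192 ∧ S.el c ∈ ω.1 := fun j hj hp c hc =>
    ⟨(hrep j hj c hc).1, (hrep j hj c hc).2.2.mpr (of_decide_eq_true hp)⟩
  have hrep_mem : ∀ j < D.orbs.length, D.rep j ∈ D.olist j := by
    intro j hj
    have hpos := (h2 j hj).1
    refine List.mem_map.mpr ⟨(D.orbs.getD j []).getD 0 (0, 0, 0), ?_, rfl⟩
    rw [List.getD_eq_getElem _ _ hpos]
    exact List.getElem_mem _
  have hcomm : ∀ a b, a < 8192 → b < 8192 → S.el a ∈ ω.1 → S.el b ∈ ω.1 → cmul a b = cmul b a :=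
    fun a b ha hb h h' => el_inj S (cmul_lt ha hb) (cmul_lt hb ha)
      (by rw [← el_mul S ha hb, ← el_mul S hb ha, hex_comm S ω h h'])
  have hcover : ∀ c < 8192, S.el c ∈ ω.1 → S.InO (S.el c) →
      ∃ j < D.orbs.length, p j = true ∧ c ∈ D.olist j := by
    intro c hc hm hO
    simp only [RootData.coverOK, List.all_eq_true, List.mem_range, Bool.or_eq_true, Bool.not_eq_true',
      beq_eq_false_iff_ne] at h3
    have h := forall_lt_8192 (P := fun c => ((omask.testBit c = false ∨ cmul c D.x ≠ cmul D.x c) ∨
      excl.testBit c = true) ∨ (maskList D.allCodes).testBit c = true) h3 c hc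
    rcases h with ((h | h) | h) | h
    · rw [(inO_el hs hz2 hc).mp hO] at h; exact absurd h (by simp)
    · exact absurd (hcomm c D.x hc hx8 hm hxω) h
    · exact absurd hm (hexcl c hc h hO)
    · rw [testBit_maskList, RootData.allCodes] at h
      obtain ⟨j, hj, hcj⟩ := List.mem_flatMap.mp h
      rw [List.mem_range] at hj
      exact ⟨j, hj, decide_eq_true ((hrep j hj c hcj).2.2.mp hm), hcj⟩
  -- the number of members in the orbits
  have hmem : ∀ c ∈ D.allCodes, ∃ j < D.orbs.length, c ∈ D.olist j := fun c hc => by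
    obtain ⟨j, hj, hcj⟩ := List.mem_flatMap.mp hc
    exact ⟨j, List.mem_range.mp hj, hcj⟩
  have hlen : (D.allCodes.filter q).length = 36 := by
    rw [← List.toFinset_card_of_nodup ((distinctFrom_sound _ _ h2').1.filter _), ← card_fiber_hex S ω]
    let f : {c // c ∈ (D.allCodes.filter q).toFinset} → {x : G // S.InO x ∧ x ∈ ω.1} := fun c =>
      ⟨S.el c.1, by
        obtain ⟨h1, h2⟩ := List.mem_filter.mp (List.mem_toFinset.mp c.2)
        obtain ⟨j, hj, hcj⟩ := hmem _ h1
        exact ⟨(inO_el hs hz2 (hrep j hj _ hcj).1).mpr (hrep j hj _ hcj).2.1, of_decide_eq_true h2⟩⟩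
    have hf : Function.Bijective f := by
      refine ⟨fun a b e => Subtype.ext ?_, fun y => ?_⟩
      · obtain ⟨ja, hja, hca⟩ := hmem _ (List.mem_filter.mp (List.mem_toFinset.mp a.2)).1
        obtain ⟨jb, hjb, hcb⟩ := hmem _ (List.mem_filter.mp (List.mem_toFinset.mp b.2)).1
        exact el_inj S (hrep ja hja _ hca).1 (hrep jb hjb _ hcb).1 (congrArg Subtype.val e)
      · obtain ⟨y, hyO, hyω⟩ := y
        obtain ⟨c, hc, rfl⟩ := (mem_E_iff_el S).mp (hex_sub_E S ω hyω)
        obtain ⟨j, hj, -, hcj⟩ := hcover c hc hyω hyO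
        exact ⟨⟨c, List.mem_toFinset.mpr (List.mem_filter.mpr
          ⟨List.mem_flatMap.mpr ⟨j, List.mem_range.mpr hj, hcj⟩, decide_eq_true hyω⟩)⟩, rfl⟩
    rw [← Nat.card_congr (Equiv.ofBijective f hf), Nat.card_eq_fintype_card, Fintype.card_coe]
  have hok : ∀ i j, i < D.orbs.length → j < D.orbs.length → p i = true → p j = true → D.okP i j = true := by
    intro i j hi hj hpi hpj
    simp only [RootData.cpOK, List.all_eq_true, List.mem_range, Bool.or_eq_true, List.any_eq_true,
      bne_iff_ne] at h4
    rcases h4 i hi j hj with (h | ⟨b, hb, h⟩) | ⟨b, hb, h⟩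
    · exact h
    · obtain ⟨a8, ha⟩ := hin i hi hpi _ (hrep_mem i hi)
      obtain ⟨b8, hb'⟩ := hin j hj hpj b hb
      exact absurd (hcomm _ _ a8 b8 ha hb') h
    · obtain ⟨a8, ha⟩ := hin j hj hpj _ (hrep_mem j hj)
      obtain ⟨b8, hb'⟩ := hin i hi hpi b hb
      exact absurd (hcomm _ _ a8 b8 ha hb') h
  let p' : ℕ → Bool := fun j => decide (j < D.orbs.length) && p j
  have hgood : D.good.filter p' = (List.range D.orbs.length).filter p := by
    rw [RootData.good, List.filter_filter]
    refine List.filter_congr fun j hj => ?_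
    rw [List.mem_range] at hj
    by_cases hp : p j = true
    · simp [p', hj, hp, hok j j hj hj hp hp]
    · simp [p', Bool.eq_false_iff.mpr hp]
  have hsum : ((D.good.filter p').map D.size).sum = 36 := by
    rw [hgood, ← hlen, RootData.allCodes, length_filter_flatMap (p := p)]
    · refine congrArg List.sum (List.map_congr_left fun j _ => ?_)
      rw [RootData.size, RootData.olist, List.length_map]
    · intro j hj c hc
      exact decide_eq_decide.mpr (hrep j (List.mem_range.mp hj) c hc).2.2
  have hC := srch_complete (sz := D.size) (ok := D.okP) (p := p')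
    (fun a b ha hb => by
      simp only [p', Bool.and_eq_true, decide_eq_true_eq] at ha hb
      exact hok a b ha.1 hb.1 ha.2 hb.2) D.good [] 36 (fun _ h => absurd h List.not_mem_nil) hsum
  rw [List.append_nil, hgood] at hC
  set C := ((List.range D.orbs.length).filter p).reverse with hCd
  have hCm : ∀ j, j ∈ C ↔ j < D.orbs.length ∧ p j = true := fun j => by
    simp [hCd]
  simp only [RootData.srchOK, Bool.and_eq_true, decide_eq_true_eq, List.contains_iff_mem, List.all_eq_true,
    Bool.or_eq_true, beq_iff_eq, Bool.not_eq_true'] at h5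
  obtain ⟨⟨hix, hxix⟩, h5⟩ := h5
  have hsol : C = D.sol := by
    rcases h5 C hC with (h | h) | h
    · exact h
    · exfalso
      have : D.ix ∈ C := (hCm _).mpr ⟨hix, decide_eq_true ((hrep D.ix hix _ hxix).2.2.mp hxω)⟩
      simp [List.contains_eq_mem, this] at h
    · exfalso
      simp only [RootData.killed, List.any_eq_true, Bool.and_eq_true, Bool.not_eq_true',
        List.any_eq_false] at h
      obtain ⟨i, hi, j, hj, b, hb, hbit, hno⟩ := h
      obtain ⟨hi, hpi⟩ := (hCm i).mp hi
      obtain ⟨hj, hpj⟩ := (hCm j).mp hj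
      obtain ⟨a8, ha⟩ := hin i hi hpi _ (hrep_mem i hi)
      obtain ⟨b8, hb'⟩ := hin j hj hpj b hb
      have hm : S.el (cmul (D.rep i) b) ∈ ω.1 := by rw [← el_mul S a8 b8]; exact mul_mem ha hb'
      have hO := (inO_el hs hz2 (cmul_lt a8 b8)).mpr hbit
      obtain ⟨l, hl, hpl, hcl⟩ := hcover _ (cmul_lt a8 b8) hm hO
      exact hno l ((hCm l).mpr ⟨hl, hpl⟩) (List.contains_iff_mem.mpr hcl)
  simp only [RootData.gensOK, Bool.and_eq_true, List.all_eq_true, Bool.or_eq_true, beq_iff_eq,
    List.any_eq_true, List.contains_iff_mem] at h6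
  refine hasMask_of_gens S ω hk (fun c hc => ?_) h6.2
  rcases h6.1 c hc with rfl | ⟨j, hj, hcj⟩
  · exact ⟨by norm_num, el90_mem_hex S ω⟩
  · rw [← hsol, hCm] at hj
    exact hin j hj.1 hj.2 c hcj

end CfsgLib.J4Order
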