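import Cfsg.Agent.J4Local.Order.Perm
import Cfsg.Agent.J4Local.Order.Classes
import Cfsg.Agent.J4Local.Order.HexRootData

/-!
The members of a hexad from seven of them, the passage to a neighbour, and the codes of the orbit of pair type.
-/

set_option autoImplicit false
set_option maxRecDepth 100000

namespace CfsgLib.J4Order

open Cfsg CfsgLib.J4CentT CfsgLib.Golay CfsgLib.Golay.Cert MulAction

/-- The code of a state. -/
def stCode (p : ℕ × ℕ) : ℕ := 128 * p.1 + p.2 / 16

/-- The codes of the orbit of pair type. -/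
def oCodes : List ℕ := (tW.map fun i => i / 16) ++ (cls 1 ++ cls 3).map stCode

/-- The translation part of a move. -/
def moveI (g : ℕ) : ℕ := if g < 22 then 0 else 2 ^ (g - 22)

/-- The permutation part of a move. -/
def moveL (g : ℕ) : List ℕ := if g < 22 then stGen.getD g [] else List.range 24

theorem ck_oCodes : maskList oCodes = omask := by decide +kernel

theorem ck_moves : ∀ g < 33, (mvOK (moveI g) (moveL g) (moveTab.getD g []) &&
    act (moveL g) zIdx == zIdx) = true := by decide +kernel

/-- No member of the list is among the bits given or repeats. -/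
def distinctFrom : List ℕ → ℕ → Bool
  | [], _ => true
  | c :: l, m => !Nat.testBit m c && distinctFrom l (Nat.lor m (Nat.shiftLeft 1 c))

theorem distinctFrom_sound : ∀ (l : List ℕ) (m : ℕ), distinctFrom l m = true →
    l.Nodup ∧ ∀ c ∈ l, m.testBit c = false := by
  intro l
  induction l with
  | nil => simp
  | cons a l ih =>
    intro m h
    rw [distinctFrom, Bool.and_eq_true, Bool.not_eq_true'] at h
    obtain ⟨hn, hb⟩ := ih _ h.2
    have e : ∀ c, (Nat.lor m (Nat.shiftLeft 1 a)).testBit c = (m.testBit c || decide (a = c)) := fun c => by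
      rw [show Nat.lor m (Nat.shiftLeft 1 a) = m ||| 2 ^ a by rw [← Nat.one_shiftLeft]; rfl, Nat.testBit_or,
        Nat.testBit_two_pow]
    refine ⟨List.nodup_cons.mpr ⟨fun ha => ?_, hn⟩, fun c hc => ?_⟩
    · simpa [e] using hb a ha
    · rcases List.mem_cons.mp hc with rfl | hc
      · exact h.1
      · have := hb c hc
        rw [e, Bool.or_eq_false_iff] at this
        exact this.1

theorem ck_distinct : ∀ k < 77, distinctFrom (spanList (hexGens k)) 0 = true := by decide +kernel

theorem ck_spanNodup (k : ℕ) (hk : k < 77) : (spanList (hexGens k)).Nodup :=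
  (distinctFrom_sound _ _ (ck_distinct k hk)).1

theorem length_spanList : ∀ gs : List ℕ, (spanList gs).length = 2 ^ gs.length
  | [] => rfl
  | g :: gs => by simp [spanList, length_spanList gs, pow_succ]; omega

theorem ck_hexLen : ∀ k < 77, (hexGens k).length = 7 := by decide +kernel

theorem zero_mem_span : ∀ gs : List ℕ, 0 ∈ spanList gs
  | [] => by simp [spanList]
  | g :: gs => List.mem_append_right _ (zero_mem_span gs)

theorem gen_mem_span : ∀ (gs : List ℕ) (a : ℕ), a ∈ gs → a ∈ spanList gs := by
  intro gs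
  induction gs with
  | nil => simp
  | cons g gs ih =>
    intro a ha
    rcases List.mem_cons.mp ha with rfl | ha
    · refine List.mem_append_left _ (List.mem_map.mpr ⟨0, zero_mem_span gs, ?_⟩)
      simp only [cmul, show Nat.land (betaTab.getD (a / 128) 0) (0 % 128) = 0 from Nat.and_zero _,
        show Nat.testBit oddMask 0 = false by decide +kernel]
      simp
    · exact List.mem_append_right _ (ih a ha)

variable {G : Type*} [Group G] [Finite G] {z : G} (S : Setup z)

/-- A hexad has the codes of a row of the table. -/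
def Setup.HasMask (ω : S.Hex) (k : ℕ) : Prop :=
  ∀ c < 8192, (S.el c ∈ ω.1 ↔ (hexMasks.getD k 0).testBit c = true)

theorem el90_mem_hex (ω : S.Hex) : S.el 90 ∈ ω.1 := by
  obtain ⟨h, hh, e⟩ := ω.2
  have hw : S.el 90 = S.w := by
    rw [Setup.el, show 90 % 128 = 90 from rfl, show 90 / 128 = 0 from rfl, ck_code.2.1, rg_zero, map_one, mul_one]
  rw [hw, e, mem_conj_map,
    show h⁻¹ * S.w * h = S.w by
      rw [mul_assoc, ← Subgroup.mem_centralizer_singleton_iff.mp hh, inv_mul_cancel_left]]
  exact ⟨(S.data.b_mem_iff S.unique ck_zIdx.1).mpr (by decide +kernel), S.F.b_mem _ ck_zIdx.1⟩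

/-- Seven members whose span is a row determine the hexad. -/
theorem hasMask_of_gens (ω : S.Hex) {k : ℕ} (hk : k < 77) {gs : List ℕ}
    (hgs : ∀ g ∈ gs, g < 8192 ∧ S.el g ∈ ω.1) (hm : maskList (spanList gs) = hexMasks.getD k 0) :
    S.HasMask ω k := by
  classical
  have := Fintype.ofFinite G
  obtain ⟨hspan, hlt⟩ := ck_hexSpan k hk
  have hsub : ∀ c ∈ spanList (hexGens k), c < 8192 ∧ S.el c ∈ ω.1 := fun c hc => by
    rw [← testBit_maskList, hspan, ← hm, testBit_maskList] at hc
    exact el_mem_span S gs hgs c hc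
  set F := (spanList (hexGens k)).toFinset.image S.el with hF
  have hcard : F.card = 128 := by
    rw [hF, Finset.card_image_of_injOn, List.toFinset_card_of_nodup (ck_spanNodup k hk), length_spanList,
      ck_hexLen k hk]
    · norm_num
    · intro a ha b hb e
      exact el_inj S (hsub a (List.mem_toFinset.mp ha)).1 (hsub b (List.mem_toFinset.mp hb)).1 e
  have hFA : F = (ω.1 : Set G).toFinset := by
    refine Finset.eq_of_subset_of_card_le (fun x hx => ?_) (le_of_eq ?_)
    · obtain ⟨c, hc, rfl⟩ := Finset.mem_image.mp hx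
      exact Set.mem_toFinset.mpr (hsub c (List.mem_toFinset.mp hc)).2
    · rw [hcard, Set.toFinset_card, ← Nat.card_eq_fintype_card]
      exact card_hexad S ω
  intro c hc
  rw [← hspan, testBit_maskList]
  refine ⟨fun h => ?_, fun h => (hsub c h).2⟩
  have : S.el c ∈ F := by rw [hFA]; exact Set.mem_toFinset.mpr h
  obtain ⟨d, hd, e⟩ := Finset.mem_image.mp this
  rw [← el_inj S (hsub d (List.mem_toFinset.mp hd)).1 hc e]
  exact List.mem_toFinset.mp hd

omit [Finite G] in
theorem mem_H_of {i : ℕ} (hi : i < 2048) {L : List ℕ} (hL : genOK L = true) (hz : act L zIdx = zIdx) :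
    S.F.b i * S.F.kap (ofList L) ∈ S.H :=
  Subgroup.mem_centralizer_singleton_iff.mpr ((S.F.comm_iff _ hi ck_zIdx.1).mpr
    (by rw [actG, toList_ofList hL]; exact hz))

/-- The hexad moved from one with known members has those of the image. -/
theorem hasMask_step {ω : S.Hex} {p k g : ℕ} (hp : p < 77) (hk : k < 77) (hg : g < 33) (hω : S.HasMask ω p)
    (hm : maskList (spanList ((hexGens p).map (mvImg (moveTab.getD g [])))) = hexMasks.getD k 0) :
    ∃ ν : S.Hex, S.HasMask ν k := by
  obtain ⟨hmv, hz⟩ := Bool.and_eq_true_iff.mp (ck_moves g hg)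
  have hh : genOK (moveL g) = true ∧ moveI g < 2048 := by
    simp only [mvOK, Bool.and_eq_true, decide_eq_true_eq] at hmv
    exact hmv.1
  refine ⟨(⟨_, mem_H_of S hh.2 hh.1 (beq_iff_eq.mp hz)⟩ : ↥S.H) • ω, hasMask_of_gens S _ hk ?_ hm⟩
  intro c hc
  obtain ⟨a, ha, rfl⟩ := List.mem_map.mp hc
  obtain ⟨hspan, hlt⟩ := ck_hexSpan p hp
  have ha8 : a < 8192 := of_decide_eq_true (List.all_eq_true.mp hlt a ha)
  obtain ⟨h1, h2⟩ := conj_el S hmv ha8
  refine ⟨h1, ?_⟩
  rw [smul_val, ← h2]
  refine ⟨S.el a, (hω a ha8).mpr ?_, rfl⟩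
  rw [← hspan, testBit_maskList]
  exact gen_mem_span _ _ ha

theorem inv_inO : Inv fun n i => S.InO (S.F.b i * S.F.kap (rg n)) := by
  refine ⟨fun n hn i hi j hj => ?_, fun g hg n hn m hm h i hi => ?_⟩
  · have hx := inO_conj S (h := S.F.b j) (x := S.F.b i * S.F.kap (rg n)) (S.F.V_le_cent (S.F.b_mem j hj))
    rw [S.F.conj_b _ hi hj, show actG (rg n) j = act (rEl n) j by rw [actG, rg_list hn]] at hx
    exact hx
  · have hx := inO_conj S (h := S.F.kap (ofList g)) (x := S.F.b i * S.F.kap (rg m)) (stGen_mem_H S hg)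
    rw [S.F.conj_kap _ _ hi, rg_conj_of_comp hg hn hm h,
      show actG (ofList g) i = act g i by rw [actG, stGen_ofList hg]] at hx
    exact hx

variable {S} (hs : S.SplitFacts) (hz2 : S.rootZ 2)

include hs hz2

theorem inO_el {c : ℕ} (hc : c < 8192) : S.InO (S.el c) ↔ omask.testBit c = true := by
  have hn : c / 128 < 64 := by omega
  obtain ⟨hi, hw, hdiv, -⟩ := ck_code.1 _ (Nat.mod_lt c (show 128 > 0 by norm_num))
  have hcode : stCode (c / 128, wv (c % 128)) = c := by
    rw [stCode, hdiv]; exact Nat.div_add_mod c 128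
  have hr3 : ¬ S.rootZ 3 := hs.two_three.mp hz2
  rw [← ck_oCodes, testBit_maskList, oCodes, List.mem_append]
  constructor
  · intro h
    rcases Nat.eq_zero_or_pos (c / 128) with h0 | h0
    · left
      rw [Setup.el, h0, rg_zero, map_one, mul_one] at h
      exact List.mem_map.mpr ⟨_, (inO_W S ((inW_iff hi).mp hw)).mp h, by rw [hdiv]; omega⟩
    · right
      refine List.mem_map.mpr ⟨(c / 128, wv (c % 128)), ?_, hcode⟩
      have hfix := (S.data.sq_iff S.unique hi hn).mp (InO.invol S h).1
      have hst : (c / 128, wv (c % 128)) ∈ allStates := by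
        rw [← List.mem_toFinset, allStates_spec.2]
        exact mem_target.mpr ⟨h0, hn, List.mem_filter.mpr ⟨(inW_iff hi).mp hw, by simpa using hfix⟩⟩
      rw [allStates, List.mem_append, List.mem_append, List.mem_append] at hst
      rw [List.mem_append]
      rcases hst with ((h1 | h1) | h1) | h1
      · exact absurd ((cls_inv (inv_conj S) h1).2.2.2.mpr hs.zero) (InO.not_conj S h)
      · exact Or.inl h1
      · exact absurd ((cls_inv (inv_conj S) h1).2.2.2.mpr hz2) (InO.not_conj S h)
      · exact Or.inr h1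
  · rintro (h | h)
    · obtain ⟨i, hi', e⟩ := List.mem_map.mp h
      have hi1 := inW_lt (ck_tW.2.2.1 i hi')
      have hce : c / 128 = 0 := by omega
      have hiw : wv (c % 128) = i := by
        obtain ⟨j, hj, e'⟩ := List.mem_iff_getElem.mp (ck_tW.2.2.1 i hi')
        rw [ck_wList.2.1] at hj
        have hv : wv j = i := by rw [wv, List.getD_eq_getElem _ _ (by rw [ck_wList.2.1]; exact hj), e']
        have := (ck_code.1 j hj).2.2.1
        rw [show c % 128 = j by rw [hv] at this; omega, hv]
      rw [Setup.el, hce, rg_zero, map_one, mul_one, hiw]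
      exact (inO_W S (ck_tW.2.2.1 i hi')).mpr hi'
    · obtain ⟨⟨n, i⟩, hx, e⟩ := List.mem_map.mp h
      have hP : S.InO (S.F.b i * S.F.kap (rg n)) := by
        rcases List.mem_append.mp hx with h1 | h1
        · exact (cls_inv (inv_inO S) h1).2.2.2.mpr (hs.inO 1 (by norm_num) hs.one)
        · exact (cls_inv (inv_inO S) h1).2.2.2.mpr (hs.inO 3 (by norm_num) hr3)
      obtain ⟨hn0, hn1, hi1⟩ : 0 < n ∧ n < 64 ∧ i < 2048 := by
        rcases List.mem_append.mp hx with h1 | h1
        all_goals exact ⟨(cls_inv (inv_inO S) h1).1, (cls_inv (inv_inO S) h1).2.1, (cls_inv (inv_inO S) h1).2.2.1⟩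
      have hW : i ∈ wList := by
        have hst : (n, i) ∈ allStates.toFinset := by
          rw [List.mem_toFinset, allStates]
          rcases List.mem_append.mp hx with h1 | h1
          · exact List.mem_append_left _ (List.mem_append_left _ (List.mem_append_right _ h1))
          · exact List.mem_append_right _ h1
        rw [allStates_spec.2] at hst
        exact (List.mem_filter.mp (mem_target.mp hst).2.2).1
      obtain ⟨j, hj, e'⟩ := List.mem_iff_getElem.mp hW
      rw [ck_wList.2.1] at hj
      have hv : wv j = i := by rw [wv, List.getD_eq_getElem _ _ (by rw [ck_wList.2.1]; exact hj), e']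
      have := (ck_code.1 j hj).2.2.1
      rw [hv] at this
      simp only [stCode] at e
      rw [Setup.el, show c / 128 = n by omega, show c % 128 = j by omega, hv]
      exact hP

end CfsgLib.J4Order
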