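import Cfsg.Agent.J4Local.Order.Power

/-!
Counting equal values in two lists by splitting on bits, and linear maps given by their values on unit
vectors.
-/

set_option autoImplicit false

namespace CfsgLib.J4Order

open Cfsg CfsgLib.Golay CfsgLib.Golay.Cert CfsgLib.J4CentT

/-- The halves of the members of a given parity. -/
def halves (r : ℕ) (A : List ℕ) : List ℕ := (A.filter fun a => a % 2 == r).map fun a => a / 2

/-- The number of pairs of equal members, all members having at most `n` bits. -/
def joinCount : ℕ → List ℕ → List ℕ → ℕ
  | 0, A, B => A.length * B.length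
  | n + 1, A, B => if A.isEmpty || B.isEmpty then 0 else
      joinCount n (halves 0 A) (halves 0 B) + joinCount n (halves 1 A) (halves 1 B)

theorem count_halves (B : List ℕ) {r a : ℕ} (h : a % 2 = r) :
    (halves r B).count (a / 2) = B.count a := by
  induction B with
  | nil => rfl
  | cons b B ih =>
    by_cases hb : b % 2 = r
    · have : halves r (b :: B) = b / 2 :: halves r B := by simp [halves, hb]
      rw [this, List.count_cons, List.count_cons, ih]
      by_cases hab : b = a
      · simp [hab]
      · have : b / 2 ≠ a / 2 := by omega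
        simp [hab, this]
    · have : halves r (b :: B) = halves r B := by simp [halves, hb]
      have hne : b ≠ a := fun e => hb (e ▸ h)
      rw [this, List.count_cons, ih]
      simp [hne]

theorem halves_lt {n r : ℕ} {A : List ℕ} (h : ∀ a ∈ A, a < 2 ^ (n + 1)) : ∀ a ∈ halves r A, a < 2 ^ n := by
  intro a ha
  obtain ⟨x, hx, rfl⟩ := List.mem_map.mp ha
  have := h x (List.mem_filter.mp hx).1
  rw [pow_succ] at this
  omega

theorem split_sum (A B : List ℕ) : (A.map fun a => B.count a).sum =
    ((halves 0 A).map fun a => (halves 0 B).count a).sum + ((halves 1 A).map fun a => (halves 1 B).count a).sum := by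
  induction A with
  | nil => rfl
  | cons a A ih =>
    rcases Nat.mod_two_eq_zero_or_one a with h | h
    · have h0 : halves 0 (a :: A) = a / 2 :: halves 0 A := by simp [halves, h]
      have h1 : halves 1 (a :: A) = halves 1 A := by simp [halves, h]
      rw [h0, h1, List.map_cons, List.sum_cons, List.map_cons, List.sum_cons, ih, count_halves B h]
      ring
    · have h0 : halves 0 (a :: A) = halves 0 A := by simp [halves, h]
      have h1 : halves 1 (a :: A) = a / 2 :: halves 1 A := by simp [halves, h]
      rw [h0, h1, List.map_cons, List.sum_cons, List.map_cons, List.sum_cons, ih, count_halves B h]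
      ring

theorem joinCount_eq : ∀ (n : ℕ) (A B : List ℕ), (∀ a ∈ A, a < 2 ^ n) → (∀ b ∈ B, b < 2 ^ n) →
    joinCount n A B = (A.map fun a => B.count a).sum
  | 0, A, B, hA, hB => by
    have h : ∀ a ∈ A, B.count a = B.length := fun a ha => List.count_eq_length.mpr fun b hb => by
      have := hA a ha
      have := hB b hb
      simp only [pow_zero] at *
      omega
    rw [joinCount, List.map_congr_left h, List.map_const', List.sum_replicate, smul_eq_mul]
  | n + 1, A, B, hA, hB => by
    rw [joinCount]
    by_cases hAe : A = []
    · simp [hAe]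
    by_cases hBe : B = []
    · simp [hBe]
    rw [if_neg (by simp [hAe, hBe]), joinCount_eq n _ _ (halves_lt hA) (halves_lt hB),
      joinCount_eq n _ _ (halves_lt hA) (halves_lt hB), ← split_sum]

/-- A linear map is given by its values on the unit vectors. -/
theorem comb_linear : ∀ (n : ℕ) (f : ℕ → ℕ), (∀ x < 2 ^ n, ∀ y < 2 ^ n, f (x ^^^ y) = f x ^^^ f y) →
    ∀ c < 2 ^ n, comb ((List.range n).map fun k => f (2 ^ k)) c = f c := by
  intro n
  induction n with
  | zero =>
    intro f hf c hc
    have h0 := hf 0 (by norm_num) 0 (by norm_num)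
    simp only [Nat.xor_self] at h0
    rw [show c = 0 by simpa using hc, h0]
    rfl
  | succ n ih =>
    intro f hf c hc
    have hp : (2 : ℕ) ^ (n + 1) = 2 * 2 ^ n := by rw [pow_succ, mul_comm]
    have hd : ∀ x < 2 ^ n, 2 * x < 2 ^ (n + 1) := fun x hx => by omega
    have h2 : ∀ x y : ℕ, 2 * (x ^^^ y) = (2 * x) ^^^ (2 * y) := fun x y => by
      simpa [pow_one, Nat.shiftLeft_eq, mul_comm] using Nat.shiftLeft_xor_distrib (a := x) (b := y) (i := 1)
    have ih' := ih (fun x => f (2 * x)) (fun x hx y hy => by rw [h2]; exact hf _ (hd x hx) _ (hd y hy)) (c / 2)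
      (by omega)
    rw [List.range_succ_eq_map, List.map_cons, List.map_map, comb,
      show (fun k => f (2 ^ k)) ∘ Nat.succ = fun k => f (2 * 2 ^ k) by funext k; simp [pow_succ, mul_comm], ih',
      pow_zero]
    have hx : (c % 2) ^^^ (2 * (c / 2)) = c := by
      apply Nat.eq_of_testBit_eq
      intro i
      rcases Nat.mod_two_eq_zero_or_one c with h | h
      · rw [h, Nat.zero_xor]; congr 1; omega
      · rw [h]
        cases i with
        | zero => simp [Nat.testBit_zero, h]
        | succ i => rw [Nat.testBit_xor, Nat.testBit_succ, Nat.testBit_succ, Nat.testBit_succ]; simp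
    have h1 := hf (c % 2) (by omega) (2 * (c / 2)) (by omega)
    rw [hx] at h1
    rw [h1]
    congr 1
    rcases Nat.mod_two_eq_zero_or_one c with h | h
    · have h0 := hf 0 (Nat.two_pow_pos _) 0 (Nat.two_pow_pos _)
      simp only [Nat.xor_self] at h0
      rw [if_neg (by omega), h, h0]
    · rw [if_pos h, h]

end CfsgLib.J4Order
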