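import Cfsg.Agent.J4Local.Order.Code

/-!
Conjugation on codes by an element of the normaliser fixing the chosen element, from thirteen values.
-/

set_option autoImplicit false
set_option maxRecDepth 100000

namespace CfsgLib.J4Order

open Cfsg CfsgLib.J4CentT CfsgLib.Golay CfsgLib.Golay.Cert

/-- The powers of two selected by the bits of a code. -/
def bitsOf (c : ℕ) : List ℕ := (List.range 13).filter fun k => Nat.testBit c k

/-- Check that thirteen codes are the images of the basis. -/
def mvOK (i : ℕ) (L : List ℕ) (tab : List ℕ) : Bool :=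
  genOK L && decide (i < 2048) && (List.range 13).all fun k =>
    let c := tab.getD k 0
    decide (c < 8192) && (compL L (rEl (2 ^ k / 128)) == compL (rEl (c / 128)) L) &&
      (wv (c % 128) == Nat.xor (act L (wv (2 ^ k % 128))) (Nat.xor i (act (rEl (c / 128)) i)))

/-- The image of a code. -/
def mvImg (tab : List ℕ) (c : ℕ) : ℕ := cprod ((bitsOf c).map fun k => tab.getD k 0)

theorem ck_bits : ∀ a < 64, ∀ b < 128, cprod ((bitsOf (128 * a + b)).map fun k => 2 ^ k) = 128 * a + b := by
  decide +kernel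

theorem cprod_lt : ∀ l : List ℕ, (∀ c ∈ l, c < 8192) → cprod l < 8192 := by
  intro l
  induction l with
  | nil => intro _; decide
  | cons a l ih => intro h; exact cmul_lt (h a List.mem_cons_self) (ih fun c hc => h c (List.mem_cons_of_mem _ hc))

variable {G : Type*} [Group G] [Finite G] {z : G} (S : Setup z)

theorem el_cprod : ∀ l : List ℕ, (∀ c ∈ l, c < 8192) → S.el (cprod l) = (l.map S.el).prod := by
  intro l
  induction l with
  | nil => intro _; simp [cprod, el_zero]
  | cons a l ih =>
    intro h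
    rw [cprod, ← el_mul S (h a List.mem_cons_self) (cprod_lt l fun c hc => h c (List.mem_cons_of_mem _ hc)),
      ih fun c hc => h c (List.mem_cons_of_mem _ hc), List.map_cons, List.prod_cons]

theorem conj_el_basis {i : ℕ} {L tab : List ℕ} (h : mvOK i L tab = true) {k : ℕ} (hk : k < 13) :
    tab.getD k 0 < 8192 ∧
      S.F.b i * S.F.kap (ofList L) * S.el (2 ^ k) * (S.F.b i * S.F.kap (ofList L))⁻¹ = S.el (tab.getD k 0) := by
  simp only [mvOK, Bool.and_eq_true, decide_eq_true_eq, List.all_eq_true, List.mem_range, beq_iff_eq] at h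
  obtain ⟨⟨hg, hi⟩, h⟩ := h
  obtain ⟨⟨hc, hcomp⟩, hw⟩ := h k hk
  refine ⟨hc, ?_⟩
  set c := tab.getD k 0 with hcd
  have hn : 2 ^ k / 128 < 64 := by
    have : (2 : ℕ) ^ k ≤ 2 ^ 12 := Nat.pow_le_pow_right (by norm_num) (by omega)
    omega
  have hm : c / 128 < 64 := by omega
  have hx : 2 ^ k % 128 < 128 := Nat.mod_lt _ (by norm_num)
  have hr : ofList L * rg (2 ^ k / 128) * (ofList L)⁻¹ = rg (c / 128) := by
    rw [mul_inv_eq_iff_eq_mul]
    refine toList_coe_injective ?_
    show toList ((ofList L * rg (2 ^ k / 128) : M24)).1 = toList ((rg (c / 128) * ofList L : M24)).1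
    rw [Subgroup.coe_mul, Subgroup.coe_mul, toList_mul, toList_mul, toList_ofList hg, rg_list hn, rg_list hm]
    exact hcomp
  rw [Setup.el, Setup.el, show S.F.b i * S.F.kap (ofList L) * (S.F.b (wv (2 ^ k % 128)) *
      S.F.kap (rg (2 ^ k / 128))) * (S.F.b i * S.F.kap (ofList L))⁻¹ =
      S.F.b i * (S.F.kap (ofList L) * (S.F.b (wv (2 ^ k % 128)) * S.F.kap (rg (2 ^ k / 128))) *
        (S.F.kap (ofList L))⁻¹) * (S.F.b i)⁻¹ by group,
    S.F.conj_kap _ _ (ck_code.1 _ hx).1, hr, S.F.conj_b _ (act_lt _ _) hi, hw]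
  congr 2
  rw [show actG (rg (c / 128)) i = act (rEl (c / 128)) i by rw [actG, rg_list hm],
    toList_ofList hg]
  rfl

theorem conj_el {i : ℕ} {L tab : List ℕ} (h : mvOK i L tab = true) {c : ℕ} (hc : c < 8192) :
    mvImg tab c < 8192 ∧
      S.F.b i * S.F.kap (ofList L) * S.el c * (S.F.b i * S.F.kap (ofList L))⁻¹ = S.el (mvImg tab c) := by
  set d := S.F.b i * S.F.kap (ofList L) with hd
  have hb : ∀ k ∈ bitsOf c, k < 13 := fun k hk => List.mem_range.mp (List.mem_filter.mp hk).1
  have hc2 : cprod ((bitsOf c).map fun k => 2 ^ k) = c := by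
    have := ck_bits (c / 128) (by omega) (c % 128) (Nat.mod_lt _ (by norm_num))
    rwa [Nat.div_add_mod] at this
  have hl1 : ∀ x ∈ (bitsOf c).map (fun k => tab.getD k 0), x < 8192 := by
    intro x hx
    obtain ⟨k, hk, rfl⟩ := List.mem_map.mp hx
    exact (conj_el_basis S h (hb k hk)).1
  have hl2 : ∀ x ∈ (bitsOf c).map (fun k => 2 ^ k), x < 8192 := by
    intro x hx
    obtain ⟨k, hk, rfl⟩ := List.mem_map.mp hx
    exact Nat.pow_lt_pow_right (a := 2) (n := 13) (by norm_num) (hb k hk)
  refine ⟨cprod_lt _ hl1, ?_⟩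
  have e : MulAut.conj d (((bitsOf c).map fun k => 2 ^ k).map S.el).prod =
      (((bitsOf c).map fun k => tab.getD k 0).map S.el).prod := by
    rw [map_list_prod, List.map_map, List.map_map, List.map_map]
    congr 1
    exact List.map_congr_left fun k hk => (conj_el_basis S h (hb k hk)).2
  rw [← el_cprod S _ hl2, hc2, ← el_cprod S _ hl1] at e
  exact e

end CfsgLib.J4Order
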