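import Cfsg.Agent.J4Local.CentT.Ops

/-!
Sums over a tabled set of elements of the Mathieu group by orbits, read from a checked forest.
-/

set_option autoImplicit false
set_option maxRecDepth 100000

namespace CfsgLib.J4Order

open Cfsg CfsgLib.Golay CfsgLib.Golay.Cert CfsgLib.J4CentT

/-- A position list from its packed form. -/
def unpack24 (x : ℕ) : List ℕ := (List.range 24).map fun i => Nat.shiftRight x (5 * i) % 32

/-- Reading a table cut into blocks of 64. -/
def tabGet (T : List (List ℕ)) (n : ℕ) : ℕ := (T.getD (n / 64) []).getD (n % 64) 0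

/-- Earlier entry. -/
def entPar (e : ℕ) : ℕ := e % 4096
/-- Generator used. -/
def entGen (e : ℕ) : ℕ := e / 4096 % 64
/-- Orbit number. -/
def entCls (e : ℕ) : ℕ := e / 262144 % 64
/-- Depth. -/
def entDep (e : ℕ) : ℕ := e / 16777216

/-- A digit of a packed list. -/
def dget (x i : ℕ) : ℕ := Nat.shiftRight x (5 * i) % 32

/-- The packed conjugation equation. -/
def conjP (A B C : ℕ) : Bool := (List.range 24).all fun i => dget C (dget A i) == dget B (dget C i)

/-- Check of one entry of a forest. -/
def entOK (N : ℕ) (U T : List (List ℕ)) (gens : List ℕ) (roots : List ℕ) (n : ℕ) : Bool :=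
  let e := tabGet T n
  let p := entPar e
  decide (entCls e < roots.length) &&
    (roots.getD (entCls e) N == n ||
      (decide (p < N) && decide (entGen e < gens.length) && decide (entDep (tabGet T p) < entDep e) &&
        entCls (tabGet T p) == entCls e &&
        conjP (tabGet U p) (tabGet U n) (gens.getD (entGen e) 0)))

/-- The tabled element. -/
noncomputable def tabElt (U : List (List ℕ)) (n : ℕ) : M24 :=
  open Classical in if h : ∃ σ : M24, toList σ.1 = unpack24 (tabGet U n) then h.choose else 1

theorem tabElt_of {U : List (List ℕ)} {n : ℕ} {w : M24} (e : toList w.1 = unpack24 (tabGet U n)) :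
    tabElt U n = w := by
  have h : ∃ σ : M24, toList σ.1 = unpack24 (tabGet U n) := ⟨w, e⟩
  rw [tabElt, dif_pos h]
  exact toList_coe_injective (h.choose_spec.trans e.symm)

theorem unpack_getD {x i : ℕ} (hi : i < 24) : (unpack24 x).getD i 0 = dget x i := by
  rw [List.getD_eq_getElem _ _ (by simp [unpack24, hi])]
  simp [unpack24, dget]

/-- A packed conjugate of a tabled symmetry is a symmetry. -/
theorem conjP_step {A B C : ℕ} {a g : M24} (ha : toList a.1 = unpack24 A) (hg : toList g.1 = unpack24 C)
    (h : conjP A B C = true) : toList (g * a * g⁻¹).1 = unpack24 B := by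
  refine List.ext_getElem (by simp [toList, unpack24]) fun j h1 h2 => ?_
  have hj : j < 24 := by simpa [unpack24] using h2
  have hrw : ∀ {σ : M24} {X : ℕ}, toList σ.1 = unpack24 X → ∀ i < 24, dget X i = idx (σ.1 (pt i)) := by
    intro σ X e i hi
    rw [← unpack_getD hi, ← e, toList_getD _ hi]
  rw [← List.getD_eq_getElem _ 0 h1, ← List.getD_eq_getElem _ 0 h2, toList_getD _ hj, unpack_getD hj]
  have hC : dget C (idx (g.1⁻¹ (pt j))) = j := by
    rw [hrw hg _ (idx_lt _), pt_idx, Equiv.Perm.inv_def, Equiv.apply_symm_apply, idx_pt j hj]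
  have hh := List.all_eq_true.mp h (idx (g.1⁻¹ (pt j))) (List.mem_range.mpr (idx_lt _))
  rw [beq_iff_eq, hC, hrw ha _ (idx_lt _), hrw hg _ (idx_lt _), pt_idx, pt_idx] at hh
  simpa [Equiv.Perm.mul_apply] using hh

/-- Packed lists are determined by their digits. -/
theorem unpack_inj {x y : ℕ} (hx : x < 2 ^ 120) (hy : y < 2 ^ 120) (h : unpack24 x = unpack24 y) : x = y := by
  refine Nat.eq_of_testBit_eq fun i => ?_
  by_cases hi : i < 120
  · have e : dget x (i / 5) = dget y (i / 5) := by
      rw [← unpack_getD (show i / 5 < 24 by omega), h, unpack_getD (show i / 5 < 24 by omega)]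
    have e' := congrArg (fun v => v.testBit (i % 5)) e
    have h5 : i % 5 < 5 := Nat.mod_lt _ (by norm_num)
    simp only [dget, show (32 : ℕ) = 2 ^ 5 from rfl, Nat.testBit_mod_two_pow, h5, decide_true, Bool.true_and] at e'
    rw [show Nat.shiftRight x (5 * (i / 5)) = x >>> (5 * (i / 5)) from rfl,
      show Nat.shiftRight y (5 * (i / 5)) = y >>> (5 * (i / 5)) from rfl,
      Nat.testBit_shiftRight, Nat.testBit_shiftRight, Nat.div_add_mod] at e'
    exact e'
  · rw [Nat.testBit_lt_two_pow (hx.trans_le (Nat.pow_le_pow_right (by norm_num) (by omega))),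
      Nat.testBit_lt_two_pow (hy.trans_le (Nat.pow_le_pow_right (by norm_num) (by omega)))]

theorem tabElt_inj {U : List (List ℕ)} {N : ℕ}
    (hlist : ∀ n < N, toList (tabElt U n).1 = unpack24 (tabGet U n)) (hlt : ∀ n < N, tabGet U n < 2 ^ 120)
    (hinc : ∀ n, n + 1 < N → tabGet U n < tabGet U (n + 1)) :
    ∀ n < N, ∀ m < N, tabElt U n = tabElt U m → n = m := by
  have hmono : ∀ n m, m < N → n < m → tabGet U n < tabGet U m := by
    intro n m
    induction m with
    | zero => intro _ h; omega
    | succ m ih =>
      intro hm h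
      rcases Nat.lt_succ_iff_lt_or_eq.mp h with h' | rfl
      · exact (ih (by omega) h').trans (hinc m hm)
      · exact hinc n hm
  intro n hn m hm e
  have hp : tabGet U n = tabGet U m :=
    unpack_inj (hlt n hn) (hlt m hm) (by rw [← hlist n hn, ← hlist m hm, e])
  rcases lt_trichotomy n m with h | h | h
  · exact absurd hp (hmono n m hm h).ne
  · exact h
  · exact absurd hp.symm (hmono m n hn h).ne

variable {N : ℕ} {U T : List (List ℕ)} {gens : List ℕ} {roots : List ℕ} {R : Type*} (F : M24 → R)

/-- Checked roots and generators make every tabled list a symmetry; properties pass down the trees. -/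
theorem tree_all {P : M24 → Prop} (hT : ∀ n < N, entOK N U T gens roots n = true)
    (hg : ∀ C ∈ gens, genOK (unpack24 C) = true)
    (hr : ∀ r ∈ roots, genOK (unpack24 (tabGet U r)) = true ∧ P (tabElt U r))
    (hP : ∀ C ∈ gens, ∀ x, P x → P (ofList (unpack24 C) * x * (ofList (unpack24 C))⁻¹)) :
    ∀ n < N, toList (tabElt U n).1 = unpack24 (tabGet U n) ∧ P (tabElt U n) := by
  suffices h : ∀ d, ∀ n < N, entDep (tabGet T n) = d →
      toList (tabElt U n).1 = unpack24 (tabGet U n) ∧ P (tabElt U n) from fun n hn => h _ n hn rfl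
  intro d
  induction d using Nat.strongRecOn with | ind d ih => ?_
  intro n hn hd
  have h := hT n hn
  simp only [entOK, Bool.and_eq_true, Bool.or_eq_true, decide_eq_true_eq, beq_iff_eq] at h
  rcases h.2 with h' | ⟨⟨⟨⟨hp, hgl⟩, hdp⟩, -⟩, hconj⟩
  · have hm : n ∈ roots := by
      rw [← h', List.getD_eq_getElem _ _ h.1]
      exact List.getElem_mem _
    refine ⟨?_, (hr n hm).2⟩
    rw [tabElt_of (toList_ofList (hr n hm).1)]
    exact toList_ofList (hr n hm).1
  · set C := gens.getD (entGen (tabGet T n)) 0 with hgd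
    have hgm : C ∈ gens := by rw [hgd, List.getD_eq_getElem _ _ hgl]; exact List.getElem_mem _
    obtain ⟨ha, hpa⟩ := ih _ (hd ▸ hdp) _ hp rfl
    set g := ofList (unpack24 C) with hgdef
    set a := tabElt U (entPar (tabGet T n)) with hadef
    have e := conjP_step (g := g) ha (toList_ofList (hg C hgm)) hconj
    rw [tabElt_of e]
    exact ⟨e, hP C hgm _ hpa⟩

/-- A function invariant under the generators is constant on each tree. -/
theorem tree_const (hU : ∀ n < N, toList (tabElt U n).1 = unpack24 (tabGet U n))
    (hT : ∀ n < N, entOK N U T gens roots n = true) (hg : ∀ C ∈ gens, genOK (unpack24 C) = true)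
    (hF : ∀ C ∈ gens, ∀ x, F (ofList (unpack24 C) * x * (ofList (unpack24 C))⁻¹) = F x) :
    ∀ n < N, F (tabElt U n) = F (tabElt U (roots.getD (entCls (tabGet T n)) N)) := by
  suffices h : ∀ d, ∀ n < N, entDep (tabGet T n) = d →
      F (tabElt U n) = F (tabElt U (roots.getD (entCls (tabGet T n)) N)) from fun n hn => h _ n hn rfl
  intro d
  induction d using Nat.strongRecOn with | ind d ih => ?_
  intro n hn hd
  have h := hT n hn
  simp only [entOK, Bool.and_eq_true, Bool.or_eq_true, decide_eq_true_eq, beq_iff_eq] at h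
  rcases h.2 with h | ⟨⟨⟨⟨hp, hgl⟩, hdp⟩, hc⟩, hconj⟩
  · rw [h]
  · set C := gens.getD (entGen (tabGet T n)) 0 with hgd
    have hgm : C ∈ gens := by rw [hgd, List.getD_eq_getElem _ _ hgl]; exact List.getElem_mem _
    have e := conjP_step (g := ofList (unpack24 C)) (hU _ hp) (toList_ofList (hg C hgm)) hconj
    rw [← hU n hn] at e
    rw [← toList_coe_injective e, hF C hgm, ih _ (hd ▸ hdp) _ hp rfl, hc]

/-- The sum over the table by orbits. -/
theorem sum_trees (cnt : List ℕ) (F : M24 → ℕ) (hU : ∀ n < N, toList (tabElt U n).1 = unpack24 (tabGet U n))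
    (hT : ∀ n < N, entOK N U T gens roots n = true) (hg : ∀ C ∈ gens, genOK (unpack24 C) = true)
    (hF : ∀ C ∈ gens, ∀ x, F (ofList (unpack24 C) * x * (ofList (unpack24 C))⁻¹) = F x)
    (hl : (List.range N).map (tabGet T) = T.flatten)
    (hc : ((List.range roots.length).map fun k => T.flatten.countP fun e => entCls e == k) = cnt) :
    (∑ n ∈ Finset.range N, F (tabElt U n)) =
      ∑ k ∈ Finset.range roots.length, cnt.getD k 0 * F (tabElt U (roots.getD k N)) := by
  have hlt : ∀ n ∈ Finset.range N, entCls (tabGet T n) ∈ Finset.range roots.length := fun n hn => by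
    have h := hT n (Finset.mem_range.mp hn)
    simp only [entOK, Bool.and_eq_true, decide_eq_true_eq] at h
    exact Finset.mem_range.mpr h.1
  rw [Finset.sum_congr rfl (fun n hn => tree_const F hU hT hg hF n (Finset.mem_range.mp hn)),
    ← Finset.sum_fiberwise_of_maps_to hlt]
  refine Finset.sum_congr rfl fun k hk => ?_
  rw [Finset.sum_congr rfl (fun n hn => by rw [(Finset.mem_filter.mp hn).2]), Finset.sum_const, smul_eq_mul]
  congr 1
  have hlen : k < cnt.length := by rw [← hc, List.length_map, List.length_range]; exact Finset.mem_range.mp hk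
  rw [List.getD_eq_getElem _ _ hlen, List.getElem_of_eq hc.symm hlen, List.getElem_map, List.getElem_range,
    ← hl, List.countP_map, List.countP_eq_length_filter,
    ← List.toFinset_card_of_nodup (List.nodup_range.filter _)]
  refine congrArg Finset.card ?_
  ext n
  simp

end CfsgLib.J4Order
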