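import Cfsg.Agent.J4Local.CentT.Ops
import Cfsg.Agent.Golay.ExactList
import Mathlib.Data.List.Perm.Subperm

/-!
Orbit certificates on lists of elements of the Mathieu group on 24 points given by position lists.
-/

set_option autoImplicit false

namespace CfsgLib.J4Order

open Cfsg CfsgLib.Golay CfsgLib.Golay.Cert CfsgLib.J4CentT

/-- Lists of position lists cut into blocks of 32. -/
abbrev Blocks := List (List (List ℕ))

/-- The member with a given number. -/
def blkEl (T : Blocks) (i : ℕ) : List ℕ := (T.getD (i / 32) []).getD (i % 32) []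

/-- A base 24 code of a position list. -/
def code (L : List ℕ) : ℕ := L.foldl (fun a x => a * 24 + x) 0

/-- The codes increase strictly. -/
def codesOK (T : Blocks) (n : ℕ) : Bool :=
  (List.range n).all fun i => i + 1 == n || decide (code (blkEl T i) < code (blkEl T (i + 1)))

theorem codes_lt {T : Blocks} {n : ℕ} (h : codesOK T n = true) :
    ∀ d i, i + d + 1 < n → code (blkEl T i) < code (blkEl T (i + d + 1)) := by
  simp only [codesOK, List.all_eq_true, List.mem_range, Bool.or_eq_true, beq_iff_eq, decide_eq_true_eq] at h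
  intro d
  induction d with
  | zero =>
    intro i hi
    exact (h i (by omega)).resolve_left (by omega)
  | succ d ih =>
    intro i hi
    exact (ih i (by omega)).trans ((h (i + d + 1) (by omega)).resolve_left (by omega))

theorem blkEl_inj {T : Blocks} {n : ℕ} (h : codesOK T n = true) {i j : ℕ} (hi : i < n) (hj : j < n)
    (e : blkEl T i = blkEl T j) : i = j := by
  rcases lt_trichotomy i j with l | l | l
  · obtain ⟨d, rfl⟩ : ∃ d, j = i + d + 1 := ⟨j - i - 1, by omega⟩
    exact absurd (congrArg code e) (codes_lt h d i hj).ne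
  · exact l
  · obtain ⟨d, rfl⟩ : ∃ d, i = j + d + 1 := ⟨i - j - 1, by omega⟩
    exact absurd (congrArg code e) (codes_lt h d j hi).ne'

/-- The set given by a blocked table. -/
noncomputable def tabSet (T : Blocks) (n : ℕ) : Finset M24 :=
  (Finset.range n).image fun i => ofList (blkEl T i)

theorem toList_el {T : Blocks} {n : ℕ} (hok : ∀ i < n, genOK (blkEl T i) = true) {i : ℕ} (hi : i < n) :
    toList (ofList (blkEl T i)).1 = blkEl T i := toList_ofList (hok i hi)

theorem sum_tabSet {T : Blocks} {n : ℕ} (hc : codesOK T n = true) (hok : ∀ i < n, genOK (blkEl T i) = true)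
    (v : M24 → ℕ) : ∑ σ ∈ tabSet T n, v σ = ∑ i ∈ Finset.range n, v (ofList (blkEl T i)) := by
  refine Finset.sum_image fun i hi j hj e => ?_
  have hi' : i < n := Finset.mem_range.mp hi
  have hj' : j < n := Finset.mem_range.mp hj
  exact blkEl_inj hc hi' hj' (by rw [← toList_el hok hi', e, toList_el hok hj'])

theorem actG_mul (σ τ : M24) {i : ℕ} (hi : i < 2048) : actG (σ * τ) i = actG σ (actG τ i) := by
  obtain ⟨he, hl, -, -⟩ := mk_spec i hi
  have hwt : wt 24 (permF (toList τ.1) (mk i)) % 2 = 0 := by
    rw [← card_pts, pts_permF, Finset.card_image_of_injective _ τ.1.injective, card_pts, he]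
  rw [show actG τ i = cd (permF (toList τ.1) (mk i)) from rfl, actG_cd σ (permF_lt _ _) hwt]
  refine congrArg cd (pts_inj (permF_lt _ _) (permF_lt _ _) ?_)
  rw [pts_permF, pts_permF, pts_permF, Finset.image_image]
  rfl

/-- A bit mask of a list of numbers. -/
def maskL (l : List ℕ) : ℕ := l.foldl (fun m i => Nat.lor m (Nat.shiftLeft 1 i)) 0

theorem testBit_maskFold (i : ℕ) : ∀ (l : List ℕ) (m : ℕ),
    (l.foldl (fun m i => Nat.lor m (Nat.shiftLeft 1 i)) m).testBit i = true ↔ m.testBit i = true ∨ i ∈ l := by
  intro l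
  induction l with
  | nil => intro m; simp
  | cons x xs ih =>
    intro m
    rw [List.foldl_cons, ih, List.mem_cons,
      show Nat.lor m (Nat.shiftLeft 1 x) = m ||| 1 <<< x from rfl, Nat.one_shiftLeft, Nat.testBit_or,
      Bool.or_eq_true, Nat.testBit_two_pow, decide_eq_true_eq]
    constructor
    · rintro ((h | h) | h) <;> simp [*]
    · rintro (h | h | h) <;> simp [*]

/-- The list consists of the numbers below `n`, each once. -/
def permFine (n : ℕ) (l : List ℕ) : Bool := l.length == n && maskL l == 2 ^ n - 1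

theorem permFine_spec {n : ℕ} {l : List ℕ} (h : permFine n l = true) : l.Perm (List.range n) := by
  simp only [permFine, Bool.and_eq_true, beq_iff_eq] at h
  have hsub : List.range n ⊆ l := by
    intro i hi
    have hb : (maskL l).testBit i = true := by
      rw [h.2, Nat.testBit_two_pow_sub_one]; simpa using List.mem_range.mp hi
    rcases (testBit_maskFold i l 0).mp hb with hz | hm
    · simp at hz
    · exact hm
  exact ((List.subperm_of_subset List.nodup_range hsub).perm_of_length_le (by simp [h.1])).symm

/-- An orbit: a root and entries (child, parent, generator), a parent occurring before its child. -/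
abbrev Orb := ℕ × List (ℕ × ℕ × ℕ)

/-- The members of an orbit. -/
def Orb.nums (o : Orb) : List ℕ := o.1 :: o.2.map (·.1)

/-- An entry is a conjugation by a generator. -/
def edgeOK (T : Blocks) (gens : List (List ℕ)) (e : ℕ × ℕ × ℕ) : Bool :=
  Nat.blt e.2.2 gens.length && conjB (blkEl T e.2.1) (blkEl T e.1) (gens.getD e.2.2 [])

/-- The entries are checked in order, with the mask of the members reached so far. -/
def treeOK (T : Blocks) (gens : List (List ℕ)) : ℕ → List (ℕ × ℕ × ℕ) → Bool
  | _, [] => true
  | seen, e :: es =>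
    seen.testBit e.2.1 && edgeOK T gens e && treeOK T gens (Nat.lor seen (Nat.shiftLeft 1 e.1)) es

/-- A forest covering all numbers below `n`. -/
def forestFine (T : Blocks) (n : ℕ) (gens : List (List ℕ)) (F : List Orb) : Bool :=
  permFine n (F.flatMap Orb.nums) && F.all fun o => treeOK T gens (Nat.shiftLeft 1 o.1) o.2

theorem edge_spec {T : Blocks} {n : ℕ} (hok : ∀ i < n, genOK (blkEl T i) = true) {gens : List (List ℕ)}
    (hg : ∀ g ∈ gens, genOK g = true) {e : ℕ × ℕ × ℕ} (hc : e.1 < n) (hp : e.2.1 < n)
    (h : edgeOK T gens e = true) :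
    ∃ g ∈ gens, ofList (blkEl T e.1) = ofList g * ofList (blkEl T e.2.1) * (ofList g)⁻¹ := by
  simp only [edgeOK, Bool.and_eq_true, Nat.blt_eq] at h
  have hm : gens.getD e.2.2 [] ∈ gens := by
    rw [List.getD_eq_getElem _ _ h.1]; exact List.getElem_mem _
  refine ⟨_, hm, eq_mul_inv_of_mul_eq ?_⟩
  refine (conjB_iff.mp ?_).symm
  rw [toList_el hok hp, toList_el hok hc, toList_ofList (hg _ hm)]
  exact h.2

theorem tree_spec {β : Type*} {T : Blocks} {n : ℕ} (hok : ∀ i < n, genOK (blkEl T i) = true)
    {gens : List (List ℕ)} (hg : ∀ g ∈ gens, genOK g = true) (v : M24 → β)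
    (hv : ∀ g ∈ gens, ∀ x, v (ofList g * x * (ofList g)⁻¹) = v x) (c : β) :
    ∀ (es : List (ℕ × ℕ × ℕ)) (seen : ℕ), (∀ e ∈ es, e.1 < n) →
      (∀ i, seen.testBit i = true → i < n ∧ v (ofList (blkEl T i)) = c) → treeOK T gens seen es = true →
      ∀ e ∈ es, v (ofList (blkEl T e.1)) = c := by
  intro es
  induction es with
  | nil => simp
  | cons e es ih =>
    intro seen hb hs h
    simp only [treeOK, Bool.and_eq_true] at h
    obtain ⟨⟨h1, h2⟩, h3⟩ := h
    obtain ⟨hp, hvp⟩ := hs _ h1
    obtain ⟨g, hgm, he⟩ := edge_spec hok hg (hb e (List.mem_cons_self ..)) hp h2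
    have hve : v (ofList (blkEl T e.1)) = c := by rw [he, hv g hgm, hvp]
    intro e' he'
    rcases List.mem_cons.mp he' with rfl | he'
    · exact hve
    · refine ih _ (fun x hx => hb x (List.mem_cons_of_mem _ hx)) (fun i hi => ?_) h3 e' he'
      rw [show Nat.lor seen (Nat.shiftLeft 1 e.1) = seen ||| 1 <<< e.1 from rfl, Nat.one_shiftLeft,
        Nat.testBit_or, Bool.or_eq_true, Nat.testBit_two_pow, decide_eq_true_eq] at hi
      rcases hi with hi | rfl
      · exact hs i hi
      · exact ⟨hb e (List.mem_cons_self ..), hve⟩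

theorem forest_spec {β : Type*} {T : Blocks} {n : ℕ} (hok : ∀ i < n, genOK (blkEl T i) = true)
    {gens : List (List ℕ)} (hg : ∀ g ∈ gens, genOK g = true) (v : M24 → β)
    (hv : ∀ g ∈ gens, ∀ x, v (ofList g * x * (ofList g)⁻¹) = v x) {F : List Orb}
    (h : forestFine T n gens F = true) :
    ∀ o ∈ F, ∀ i ∈ o.nums, i < n ∧ v (ofList (blkEl T i)) = v (ofList (blkEl T o.1)) := by
  simp only [forestFine, Bool.and_eq_true, List.all_eq_true] at h
  have hb : ∀ o ∈ F, ∀ i ∈ Orb.nums o, i < n := fun o ho i hi =>
    List.mem_range.mp ((permFine_spec h.1).mem_iff.mp (List.mem_flatMap.mpr ⟨o, ho, hi⟩))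
  intro o ho i hi
  refine ⟨hb o ho i hi, ?_⟩
  rcases List.mem_cons.mp hi with rfl | hi'
  · rfl
  obtain ⟨e, he, rfl⟩ := List.mem_map.mp hi'
  refine tree_spec hok hg v hv _ o.2 _ (fun x hx => hb o ho _ (List.mem_cons_of_mem _ (List.mem_map_of_mem hx)))
    (fun j hj => ?_) (h.2 o ho) e he
  rw [show Nat.shiftLeft 1 o.1 = 1 <<< o.1 from rfl, Nat.one_shiftLeft, Nat.testBit_two_pow,
    decide_eq_true_eq] at hj
  subst hj
  exact ⟨hb o ho _ (List.mem_cons_self ..), rfl⟩

theorem forest_cover {T : Blocks} {n : ℕ} {gens : List (List ℕ)} {F : List Orb}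
    (h : forestFine T n gens F = true) {i : ℕ} (hi : i < n) : ∃ o ∈ F, i ∈ o.nums := by
  simp only [forestFine, Bool.and_eq_true] at h
  exact List.mem_flatMap.mp ((permFine_spec h.1).mem_iff.mpr (List.mem_range.mpr hi))

theorem sum_forest {T : Blocks} {n : ℕ} (hok : ∀ i < n, genOK (blkEl T i) = true)
    {gens : List (List ℕ)} (hg : ∀ g ∈ gens, genOK g = true) (v : M24 → ℕ)
    (hv : ∀ g ∈ gens, ∀ x, v (ofList g * x * (ofList g)⁻¹) = v x) {F : List Orb}
    (h : forestFine T n gens F = true) :
    ∑ i ∈ Finset.range n, v (ofList (blkEl T i)) =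
      (F.map fun o => (o.2.length + 1) * v (ofList (blkEl T o.1))).sum := by
  have hs := forest_spec hok hg v hv h
  simp only [forestFine, Bool.and_eq_true] at h
  rw [← List.toFinset_range, List.sum_toFinset _ List.nodup_range,
    ← ((permFine_spec h.1).map fun i => v (ofList (blkEl T i))).sum_eq]
  clear h
  induction F with
  | nil => simp
  | cons o os ih =>
    rw [List.flatMap_cons, List.map_append, List.sum_append, List.map_cons, List.sum_cons,
      ih fun o' ho' => hs o' (List.mem_cons_of_mem _ ho'),
      List.map_congr_left (g := fun _ => v (ofList (blkEl T o.1)))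
        (fun i hi => (hs o (List.mem_cons_self ..) i hi).2),
      List.map_const', List.sum_replicate, smul_eq_mul]
    simp [Orb.nums, mul_comm]

/-- Finding a list in a table whose codes increase. -/
def findIn (T : Blocks) (n : ℕ) (L : List ℕ) : Bool :=
  let k := code L
  match (List.range (n / 32 + 1)).find? fun b => Nat.ble n (32 * b + 32) || Nat.ble k (code (blkEl T (32 * b + 31))) with
  | none => false
  | some b => ((List.range 32).find? fun j => Nat.blt (32 * b + j) n && blkEl T (32 * b + j) == L).isSome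

theorem findIn_spec {T : Blocks} {n : ℕ} {L : List ℕ} (h : findIn T n L = true) : ∃ i < n, blkEl T i = L := by
  unfold findIn at h
  simp only at h
  split at h
  · exact absurd h (by simp)
  · obtain ⟨j, -, hj⟩ := List.find?_isSome.mp h
    simp only [Bool.and_eq_true, Nat.blt_eq, beq_iff_eq] at hj
    exact ⟨_, hj.1, hj.2⟩

/-- The list squares to the identity. -/
def invB (L : List ℕ) : Bool := (List.range 24).all fun i => L.getD (L.getD i 0) 0 == i

theorem invB_of_sq {σ : M24} (h : σ * σ = 1) : invB (toList σ.1) = true := by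
  simp only [invB, List.all_eq_true, List.mem_range, beq_iff_eq]
  intro i hi
  rw [toList_getD _ hi, toList_getD_idx,
    show σ.1 (σ.1 (pt i)) = (σ * σ : M24).1 (pt i) from rfl, h, OneMemClass.coe_one, Equiv.Perm.one_apply,
    idx_pt i hi]

theorem sq_of_invB {σ : M24} (h : invB (toList σ.1) = true) : σ * σ = 1 := by
  simp only [invB, List.all_eq_true, List.mem_range, beq_iff_eq] at h
  refine Subtype.ext (Equiv.ext fun p => idx_injective ?_)
  have := h (idx p) (idx_lt p)
  rw [toList_getD_idx, toList_getD_idx] at this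
  simpa using this

end CfsgLib.J4Order
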