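import Cfsg.Agent.J4Local.Order.OrbitsKDefs

/-!
Checks of the involution table.
-/

set_option autoImplicit false
set_option maxRecDepth 100000

namespace CfsgLib.J4Order

open Cfsg CfsgLib.Golay CfsgLib.Golay.Cert CfsgLib.J4CentT MulAction
open scoped Pointwise

theorem ck_blocksA : (List.range 24).all blockFine = true := by decide +kernel

theorem ck_blocksB : ((List.range 23).map (· + 24)).all blockFine = true := by decide +kernel

theorem ck_codesK : codesOK invKT 1504 = true := by decide +kernel

theorem ck_tetrads : (masksW 24 4).all (fun m => !(cd m == zIdx) || sStd.contains m) = true := by decide +kernel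

/-- Every involutive arrangement is given by a listed element. -/
theorem ck_cosets : ((arrs sStd 6).all fun p =>
    !(sStd.all fun c => arrAt p (arrAt p c) == c) || tetK.any fun t => sStd.map (permF t) == p) = true := by
  decide +kernel

theorem ck_cosetFineA : (tetK.take 38).all cosetFine = true := by decide +kernel

theorem ck_cosetFineB : (tetK.drop 38).all cosetFine = true := by decide +kernel

theorem ck_cent : ∀ k < 7, centFine k = true ∧ repIdxK.getD k 0 < 1504 := by decide +kernel

end CfsgLib.J4Order
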