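import Cfsg.Agent.J4Local.Order.OrbitsGen
import Cfsg.Agent.J4Local.Order.OrbitsData
import Cfsg.Agent.J4Local.Order.OrbitsDataT

/-!
Definitions for the involutions of the sextet stabiliser and their orbits.
-/

set_option autoImplicit false
set_option maxRecDepth 100000

namespace CfsgLib.J4Order

open Cfsg CfsgLib.Golay CfsgLib.Golay.Cert CfsgLib.J4CentT MulAction
open scoped Pointwise

/-- The identity and the involutions of the sextet stabiliser. -/
def invK : List (List ℕ) := (List.range 1504).map (blkEl invKT)

/-- The same as a set of elements. -/
noncomputable def invSetK : Finset M24 := tabSet invKT 1504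

/-- The representatives of pairs with their weights. -/
def repsK : List (List ℕ × List ℕ × ℕ) :=
  repsIdxK.map fun r => (blkEl invKT r.1, blkEl invKT r.2.1, r.2.2)

/-- The representatives of the classes. -/
def repK1 : List (List ℕ) := repIdxK.map (blkEl invKT)

/-- A list fixes the chosen element. -/
def fixZ (L : List ℕ) : Bool := genOK L && act L zIdx == zIdx

/-- The table is good on a block. -/
def blockFine (b : ℕ) : Bool :=
  (List.range 32).all fun j =>
    let i := 32 * b + j
    !(Nat.blt i 1504) || (fixZ (blkEl invKT i) && invB (blkEl invKT i))

/-- The masks of a given weight. -/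
def masksW : ℕ → ℕ → List ℕ
  | 0, 0 => [0]
  | 0, _ + 1 => []
  | n + 1, 0 => (masksW n 0).map (2 * ·)
  | n + 1, k + 1 => (masksW n (k + 1)).map (2 * ·) ++ (masksW n k).map (2 * · + 1)

/-- All arrangements of a list without repetition. -/
def arrs (S : List ℕ) : ℕ → List (List ℕ)
  | 0 => [[]]
  | n + 1 => (arrs S n).flatMap fun l => (S.filter fun a => !l.contains a).map fun a => a :: l

/-- The image of a tetrad under an arrangement. -/
def arrAt (p : List ℕ) (c : ℕ) : ℕ := p.getD (sStd.idxOf c) 0

/-- The involutions in a coset of the tetrad-wise fixer are listed. -/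
def cosetFine (t : List ℕ) : Bool :=
  sextKer.all fun k => !((List.range 24).all fun i =>
    t.getD (k.getD (t.getD (k.getD i 0) 0) 0) 0 == i) || findIn invKT 1504 (compL t k)

/-- The centraliser data of the seven representatives. -/
def centKs : List (List (List ℕ) × List Orb) :=
  [(centK0, forestK0), (centK1, forestK1), (centK2, forestK2), (centK3, forestK3), (centK4, forestK4),
    (centK5, forestK5), (centK6, forestK6)]

/-- The generators commute with the representative and fix the chosen element. -/
def centFine (k : ℕ) : Bool :=
  ((centKs.getD k ([], [])).1).all fun g =>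
    fixZ g && conjB (blkEl invKT (repIdxK.getD k 0)) (blkEl invKT (repIdxK.getD k 0)) g

/-- The weighted pairs read off from the forests. -/
def pairsRead : List (ℕ × ℕ × ℕ) :=
  (List.range 7).flatMap fun k => ((centKs.getD k ([], [])).2).map fun o =>
    (repIdxK.getD k 0, o.1, ((forestK.getD k (0, [])).2.length + 1) * (o.2.length + 1))

end CfsgLib.J4Order
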