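import Cfsg.Agent.Golay.Centralisers
import Cfsg.Agent.Golay.OctadInvolution
import Cfsg.Agent.Invol.BrauerFowler
import Cfsg.Agent.J4Local.CentT.Main
import Cfsg.Agent.Solvable.Basics

/-!
The number of elements squaring to 1 in the stabiliser of a pair, by double counting.
-/

set_option autoImplicit false
set_option maxRecDepth 100000

namespace CfsgLib.J4Order

open Cfsg CfsgLib.Golay CfsgLib.Golay.Cert CfsgLib.J4CentT MulAction
open scoped Pointwise

/-- The first pair of points. -/
def firstPair : Finset GolayPt := {pt 0, pt 1}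

theorem firstPair_card : firstPair.card = 2 := by decide +kernel

theorem actG_pair_iff (σ : M24) : actG σ (pairNo 0 1) = pairNo 0 1 ↔ σ • firstPair = firstPair := by
  have ha : (0 : ℕ) < 24 := by norm_num
  have hc : (1 : ℕ) < 24 := by norm_num
  obtain ⟨e, hl, hv⟩ := pts_pair ha hc zero_ne_one
  have hne : pt 0 ≠ pt 1 := fun h => zero_ne_one (α := ℕ) (by rw [← idx_pt 0 ha, h, idx_pt 1 hc])
  have hpq : idx (σ.1 (pt 0)) ≠ idx (σ.1 (pt 1)) := fun h => hne (σ.1.injective (idx_injective h))
  obtain ⟨e', hl', -⟩ := pts_pair (idx_lt (σ.1 (pt 0))) (idx_lt (σ.1 (pt 1))) hpq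
  rw [pt_idx, pt_idx] at e'
  have himg : σ • firstPair = {σ.1 (pt 0), σ.1 (pt 1)} := by
    rw [firstPair, smul_finset_eq_image, Finset.image_insert, Finset.image_singleton]
  have hperm : permF (toList σ.1) (Nat.xor (2 ^ 0) (2 ^ 1)) =
      Nat.xor (2 ^ idx (σ.1 (pt 0))) (2 ^ idx (σ.1 (pt 1))) := by
    refine pts_inj (permF_lt _ _) hl' ?_
    rw [pts_permF, e, e', Finset.image_insert, Finset.image_singleton]
  have hact : actG σ (pairNo 0 1) = pairNo (idx (σ.1 (pt 0))) (idx (σ.1 (pt 1))) := by
    rw [pairNo, actG_cd σ hl hv, hperm]; rfl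
  rw [hact, himg]
  constructor
  · intro h
    have := pairNo_inj (idx_lt _) (idx_lt _) hpq ha hc zero_ne_one h
    rwa [pt_idx, pt_idx] at this
  · intro h
    rw [pairNo, pairNo, pts_inj hl' hl (by rw [e', e]; exact h)]

theorem ck_fixPairs :
    ((Finset.powersetCard 2 (Finset.univ : Finset GolayPt)).filter fun s =>
      s.image (fun p => pt (rep2A.getD (idx p) 0)) = s).card = 36 ∧
    ((Finset.powersetCard 2 (Finset.univ : Finset GolayPt)).filter fun s =>
      s.image (fun p => pt (rep2B.getD (idx p) 0)) = s).card = 12 := by decide +kernel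

theorem pairs_card : (Finset.powersetCard 2 (Finset.univ : Finset GolayPt)).card = 276 := by
  rw [Finset.card_powersetCard, Finset.card_univ, card_golayPt]
  rfl

open Classical in
/-- A class meets the stabiliser of each pair equally often. -/
theorem class_in_stab {r : M24} {L : List ℕ} (hr : toList r.1 = L) (k : ℕ)
    (hk : ((Finset.powersetCard 2 (Finset.univ : Finset GolayPt)).filter fun s =>
      s.image (fun p => pt (L.getD (idx p) 0)) = s).card = k) :
    Nat.card {σ : M24 // IsConj r σ ∧ σ • firstPair = firstPair} * 276 = Nat.card {σ : M24 // IsConj r σ} * k := by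
  haveI := Fintype.ofFinite M24
  rw [← pairs_card, ← hk, Nat.card_eq_fintype_card, Nat.card_eq_fintype_card, Fintype.card_subtype,
    Fintype.card_subtype]
  set X := (Finset.univ : Finset M24).filter fun σ => IsConj r σ with hX
  set P := Finset.powersetCard 2 (Finset.univ : Finset GolayPt) with hP
  have key := Finset.sum_card_bipartiteAbove_eq_sum_card_bipartiteBelow (fun (σ : M24) (s : Finset GolayPt) => σ • s = s)
    (s := X) (t := P)
  have hmemP : ∀ (g : M24) (s : Finset GolayPt), s ∈ P → g • s ∈ P := fun g s hs => by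
    rw [hP, Finset.mem_powersetCard] at hs ⊢
    exact ⟨Finset.subset_univ _, by rw [Finset.card_smul_finset, hs.2]⟩
  have h1 : ∀ σ ∈ X, (P.bipartiteAbove (fun (σ : M24) s => σ • s = s) σ).card =
      (P.filter fun s => s.image (fun p => pt (L.getD (idx p) 0)) = s).card := by
    intro σ hσ
    obtain ⟨g, hg⟩ := isConj_iff.mp (Finset.mem_filter.mp hσ).2
    have himg : ∀ s : Finset GolayPt, s.image (fun p => pt (L.getD (idx p) 0)) = r • s := fun s => by
      rw [smul_finset_eq_image]
      refine Finset.image_congr fun p _ => ?_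
      show pt (L.getD (idx p) 0) = r.1 p
      rw [← hr, toList_getD_idx, pt_idx]
    refine Finset.card_bij (fun s _ => g⁻¹ • s) (fun s hs => ?_) (fun s _ t _ h => smul_left_cancel _ h)
      (fun s hs => ⟨g • s, ?_, inv_smul_smul g s⟩)
    · simp only [Finset.bipartiteAbove, Finset.mem_filter] at hs ⊢
      refine ⟨hmemP _ _ hs.1, ?_⟩
      rw [himg, ← mul_smul, show r * g⁻¹ = g⁻¹ * (g * r * g⁻¹) by group, hg, mul_smul, hs.2]
    · rw [Finset.mem_filter] at hs
      simp only [Finset.bipartiteAbove, Finset.mem_filter]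
      refine ⟨hmemP _ _ hs.1, ?_⟩
      rw [← hg, ← mul_smul, show g * r * g⁻¹ * g = g * r by group, mul_smul, ← himg, hs.2]
  have h2 : ∀ s ∈ P, (X.bipartiteBelow (fun (σ : M24) t => σ • t = t) s).card =
      ((Finset.univ : Finset M24).filter fun σ => IsConj r σ ∧ σ • firstPair = firstPair).card := by
    intro s hs
    obtain ⟨g, hg⟩ := exists_map_card (s := firstPair) (t := s)
      (by rw [firstPair_card, (Finset.mem_powersetCard.mp hs).2]) (by rw [firstPair_card]; norm_num)
    refine Finset.card_bij (fun σ _ => g⁻¹ * σ * g) (fun σ hσ => ?_)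
      (fun σ _ τ _ h => mul_left_cancel (mul_right_cancel h))
      (fun τ hτ => ⟨g * τ * g⁻¹, ?_, by group⟩)
    · simp only [Finset.bipartiteBelow, hX, Finset.mem_filter, Finset.mem_univ, true_and] at hσ ⊢
      refine ⟨hσ.1.trans (isConj_iff.mpr ⟨g⁻¹, by group⟩), ?_⟩
      rw [mul_smul, mul_smul, hg, hσ.2, inv_smul_eq_iff, hg]
    · simp only [Finset.bipartiteBelow, hX, Finset.mem_filter, Finset.mem_univ, true_and] at hτ ⊢
      refine ⟨hτ.1.trans (isConj_iff.mpr ⟨g, rfl⟩), ?_⟩
      rw [mul_smul, mul_smul, show g⁻¹ • s = firstPair by rw [inv_smul_eq_iff, hg], hτ.2, hg]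
  rw [Finset.sum_congr rfl h1, Finset.sum_congr rfl h2, Finset.sum_const, Finset.sum_const, smul_eq_mul,
    smul_eq_mul] at key
  rw [mul_comm, ← key]

theorem class_card {r : M24} {c : ℕ} (h : Nat.card ↥(Subgroup.centralizer ({r} : Set M24)) = c) :
    Nat.card {σ : M24 // IsConj r σ} * c = 244823040 := by
  rw [← h, CfsgLib.BrauerFowler.card_class_mul, card_M24]

theorem two_rep_spec : compL rep2A rep2A = List.range 24 ∧ compL rep2B rep2B = List.range 24 ∧
    rep2A ≠ List.range 24 ∧ rep2B ≠ List.range 24 := by decide +kernel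

theorem order_rep {L : List ℕ} (h : genOK L = true) (h2 : compL L L = List.range 24) (h1 : L ≠ List.range 24) :
    orderOf (ofList L) = 2 := by
  haveI : Fact (Nat.Prime 2) := ⟨Nat.prime_two⟩
  refine orderOf_eq_prime (toList_coe_injective ?_) fun e => h1 ?_
  · show toList ((ofList L) ^ 2).1 = toList (1 : Equiv.Perm GolayPt)
    rw [pow_two, Subgroup.coe_mul, toList_mul, toList_ofList h, h2, toList_one]
  · rw [← toList_ofList h, e]
    exact toList_one

theorem fix_of_list {L : List ℕ} (h : genOK L = true) : fixedPts (ofList L).1 = fixSet L := by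
  rw [fixedPts_eq, toList_ofList h]
  rfl

theorem cent_repA : Nat.card ↥(Subgroup.centralizer ({ofList rep2A} : Set M24)) = 21504 := by
  set r := ofList rep2A
  have hr : fixedPts r.1 ∈ octads := by rw [fix_of_list reps_eq.2.2.1]; exact fixSet_rep2A_mem
  obtain ⟨-, hQc, -, -, K, hKC, hQK, hQKC, ⟨e⟩⟩ := octad_involution_extraspecial r
    (order_rep reps_eq.2.2.1 two_rep_spec.1 two_rep_spec.2.2.1) hr _ rfl
  have hn : K ≤ Subgroup.normalizer (((Cfsg.pCore 2 ↥(Subgroup.centralizer ({r} : Set M24))).map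
      (Subgroup.centralizer ({r} : Set M24)).subtype : Subgroup M24) : Set M24) := by
    intro k hk
    have key : ∀ a : ↥(Subgroup.centralizer ({r} : Set M24)), ∀ x ∈ (Cfsg.pCore 2 ↥(Subgroup.centralizer ({r} : Set M24))).map
        (Subgroup.centralizer ({r} : Set M24)).subtype, (a : M24) * x * (a : M24)⁻¹ ∈
          (Cfsg.pCore 2 ↥(Subgroup.centralizer ({r} : Set M24))).map (Subgroup.centralizer ({r} : Set M24)).subtype := by
      rintro a _ ⟨x, hx, rfl⟩
      exact ⟨a * x * a⁻¹,
        (inferInstance : (Cfsg.pCore 2 ↥(Subgroup.centralizer ({r} : Set M24))).Normal).conj_mem x hx _, rfl⟩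
    refine Subgroup.mem_normalizer_iff.mpr fun x => ⟨key ⟨k, hKC hk⟩ x, fun h => ?_⟩
    have := key ⟨k, hKC hk⟩⁻¹ _ h
    simpa [mul_assoc] using this
  have h168 : Nat.card (Matrix.SpecialLinearGroup (Fin 3) (ZMod 2)) = 168 := by
    rw [Nat.card_eq_fintype_card]; decide +kernel
  rw [← hQKC, sup_comm, CfsgLib.Solvable.card_sup_of_disjoint hn (by rw [inf_comm]; exact hQK), hQc,
    Nat.card_congr e.toEquiv, h168]
  norm_num

theorem cent_repB : Nat.card ↥(Subgroup.centralizer ({ofList rep2B} : Set M24)) = 7680 := by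
  refine (fpf_centralizer (order_rep reps_eq.2.2.2.1 two_rep_spec.2.1 two_rep_spec.2.2.2) fun p hp => ?_).1
  have h : p ∈ fixedPts (ofList rep2B).1 := by simpa [fixedPts] using hp
  rw [fix_of_list reps_eq.2.2.2.1, fixSet_spec.2.2.1] at h
  simp at h

open Classical in
/-- There are 2872 elements squaring to 1 in the stabiliser of the first pair. -/
theorem card_pair_invol :
    Nat.card {σ : M24 // σ * σ = 1 ∧ actG σ (pairNo 0 1) = pairNo 0 1} = 2872 := by
  haveI := Fintype.ofFinite M24
  haveI : Fact (Nat.Prime 2) := ⟨Nat.prime_two⟩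
  have hA := class_in_stab (toList_ofList reps_eq.2.2.1) 36 ck_fixPairs.1
  have hB := class_in_stab (toList_ofList reps_eq.2.2.2.1) 12 ck_fixPairs.2
  have cA := class_card cent_repA
  have cB := class_card cent_repB
  set rA := ofList rep2A with hrA
  set rB := ofList rep2B with hrB
  have split : ((Finset.univ : Finset M24).filter fun σ => σ * σ = 1 ∧ actG σ (pairNo 0 1) = pairNo 0 1) =
      insert 1 (((Finset.univ : Finset M24).filter fun σ => IsConj rA σ ∧ σ • firstPair = firstPair) ∪
        ((Finset.univ : Finset M24).filter fun σ => IsConj rB σ ∧ σ • firstPair = firstPair)) := by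
    ext σ
    simp only [Finset.mem_filter, Finset.mem_univ, true_and, Finset.mem_insert, Finset.mem_union, actG_pair_iff]
    constructor
    · rintro ⟨h2, hf⟩
      by_cases h1 : σ = 1
      · exact Or.inl h1
      refine Or.inr ?_
      obtain ⟨k, hk | hk⟩ := two_cases (orderOf_eq_prime ((pow_two σ).trans h2) h1)
      · exact Or.inl ⟨(isConj_iff.mpr ⟨k, toList_coe_injective (hk.1.trans (toList_ofList reps_eq.2.2.1).symm)⟩ :
          IsConj σ rA).symm, hf⟩
      · exact Or.inr ⟨(isConj_iff.mpr ⟨k, toList_coe_injective (hk.1.trans (toList_ofList reps_eq.2.2.2.1).symm)⟩ :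
          IsConj σ rB).symm, hf⟩
    · rintro (rfl | ⟨h, hf⟩ | ⟨h, hf⟩)
      · exact ⟨one_mul 1, one_smul _ _⟩
      all_goals
        refine ⟨?_, hf⟩
        obtain ⟨g, hg⟩ := isConj_iff.mp h
        rw [← hg, ← pow_two, conj_pow]
      · rw [show rA ^ 2 = 1 from by rw [← order_rep reps_eq.2.2.1 two_rep_spec.1 two_rep_spec.2.2.1]; exact pow_orderOf_eq_one _]
        group
      · rw [show rB ^ 2 = 1 from by rw [← order_rep reps_eq.2.2.2.1 two_rep_spec.2.1 two_rep_spec.2.2.2]; exact pow_orderOf_eq_one _]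
        group
  have hfix : ∀ {L : List ℕ}, genOK L = true → ∀ σ : M24, IsConj (ofList L) σ →
      (fixedPts σ.1).card = (fixSet L).card := by
    intro L hL σ h
    obtain ⟨g, hg⟩ := isConj_iff.mp h
    rw [← hg, fixedPts_conj, Finset.card_smul_finset, fix_of_list hL]
  rw [Nat.card_eq_fintype_card, Fintype.card_subtype, split, Finset.card_insert_of_notMem, Finset.card_union_of_disjoint]
  · simp only [Nat.card_eq_fintype_card, Fintype.card_subtype] at hA hB cA cB
    omega
  · rw [Finset.disjoint_left]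
    intro σ h h'
    have e1 := hfix reps_eq.2.2.1 σ (Finset.mem_filter.mp h).2.1
    rw [hfix reps_eq.2.2.2.1 σ (Finset.mem_filter.mp h').2.1, fixSet_spec.2.1, fixSet_spec.2.2.1] at e1
    simp at e1
  · simp only [Finset.mem_union, Finset.mem_filter, Finset.mem_univ, true_and]
    rintro (⟨h, -⟩ | ⟨h, -⟩)
    · have := order_rep reps_eq.2.2.1 two_rep_spec.1 two_rep_spec.2.2.1
      rw [← hrA, isConj_one_right.mp h.symm, orderOf_one] at this
      norm_num at this
    · have := order_rep reps_eq.2.2.2.1 two_rep_spec.2.1 two_rep_spec.2.2.2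
      rw [← hrB, isConj_one_right.mp h.symm, orderOf_one] at this
      norm_num at this

end CfsgLib.J4Order
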