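import Cfsg.Agent.J4Local.Order.OrbitsPCheck
import Cfsg.Agent.J4Local.Order.PairInvol

/-!
The elements of the stabiliser of the first pair squaring to 1, and double sums over them by orbits.
-/

set_option autoImplicit false
set_option maxRecDepth 100000

namespace CfsgLib.J4Order

open Cfsg CfsgLib.Golay CfsgLib.Golay.Cert CfsgLib.J4CentT MulAction
open scoped Pointwise

/-- The forest for the second element over the given orbit of the first. -/
def forS (j : ℕ) : List (List ℕ) := [forP1, forP2, forP3, forP4].getD j []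
/-- Its generators. -/
def genS (j : ℕ) : List ℕ := [genP1, genP2, genP3, genP4].getD j []
/-- Its roots. -/
def rootS (j : ℕ) : List ℕ := [rootP1, rootP2, rootP3, rootP4].getD j []
/-- Its orbit lengths. -/
def cntS (j : ℕ) : List ℕ := [cntP1, cntP2, cntP3, cntP4].getD j []

theorem forS_facts : ∀ j < 4, (∀ n < 2872, entOK 2872 tabP (forS j) (genS j) (rootS j) n = true) ∧
    (∀ C ∈ genS j, genOK (unpack24 C) = true ∧ act (unpack24 C) (pairNo 0 1) = pairNo 0 1) ∧
    (∀ C ∈ genS j, conjP (tabGet tabP (rootP0.getD j 0)) (tabGet tabP (rootP0.getD j 0)) C = true) ∧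
    (List.range 2872).map (tabGet (forS j)) = (forS j).flatten ∧
    ((List.range (rootS j).length).map fun k => (forS j).flatten.countP fun e => entCls e == k) = cntS j := by
  intro j hj
  match j with
  | 0 => exact ⟨forP1_ok, genP1_ok, genP1_fix, forP1_flat, cntP1_ok⟩
  | 1 => exact ⟨forP2_ok, genP2_ok, genP2_fix, forP2_flat, cntP2_ok⟩
  | 2 => exact ⟨forP3_ok, genP3_ok, genP3_fix, forP3_flat, cntP3_ok⟩
  | 3 => exact ⟨forP4_ok, genP4_ok, genP4_fix, forP4_flat, cntP4_ok⟩
  | _ + 4 => exact absurd hj (by omega)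

theorem rootP0_len : rootP0.length = 4 := by decide +kernel

theorem gen_fix {C : ℕ} (h : genOK (unpack24 C) = true)
    (h' : act (unpack24 C) (pairNo 0 1) = pairNo 0 1) : ofList (unpack24 C) • firstPair = firstPair := by
  rw [← actG_pair_iff]
  show act (toList (ofList (unpack24 C)).1) _ = _
  rw [toList_ofList h, h']

theorem invol_conj {g x : M24} (hg : g • firstPair = firstPair)
    (h : x * x = 1 ∧ actG x (pairNo 0 1) = pairNo 0 1) :
    g * x * g⁻¹ * (g * x * g⁻¹) = 1 ∧ actG (g * x * g⁻¹) (pairNo 0 1) = pairNo 0 1 := by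
  refine ⟨?_, ?_⟩
  · rw [show g * x * g⁻¹ * (g * x * g⁻¹) = g * (x * x) * g⁻¹ by group, h.1]
    group
  · rw [actG_pair_iff] at h ⊢
    rw [mul_smul, mul_smul, show g⁻¹ • firstPair = firstPair by rw [inv_smul_eq_iff, hg], h.2, hg]

theorem tabP_spec : ∀ n < 2872, toList (tabElt tabP n).1 = unpack24 (tabGet tabP n) ∧
    (tabElt tabP n * tabElt tabP n = 1 ∧ actG (tabElt tabP n) (pairNo 0 1) = pairNo 0 1) := by
  refine tree_all (P := fun x => x * x = 1 ∧ actG x (pairNo 0 1) = pairNo 0 1) forP0_ok
    (fun C hC => (genP0_ok C hC).1) (fun r hr => ?_)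
    (fun C hC x hx => invol_conj (gen_fix (genP0_ok C hC).1 (genP0_ok C hC).2) hx)
  obtain ⟨hok, hsq, hfix⟩ := rootP0_ok r hr
  have e : toList (tabElt tabP r).1 = unpack24 (tabGet tabP r) := by
    rw [tabElt_of (toList_ofList hok)]; exact toList_ofList hok
  refine ⟨hok, toList_coe_injective ?_, ?_⟩
  · show toList (tabElt tabP r * tabElt tabP r).1 = toList (1 : Equiv.Perm GolayPt)
    rw [Subgroup.coe_mul, toList_mul, e, hsq, toList_one]
  · show act (toList (tabElt tabP r).1) _ = _
    rw [e, hfix]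

/-- The elements squaring to 1 in the stabiliser of the first pair. -/
noncomputable def invSetP : Finset M24 :=
  open Classical in (Finset.range 2872).image (tabElt tabP)

theorem tabP_inj : Set.InjOn (tabElt tabP) (Finset.range 2872 : Finset ℕ) := by
  intro n hn m hm e
  refine tabElt_inj (N := 2872) (fun n hn => (tabP_spec n hn).1) (fun k hk => ?_) (fun k hk => ?_) n
    (Finset.mem_range.mp hn) m (Finset.mem_range.mp hm) e
  · have h := tabP_inc k hk
    simp only [Bool.and_eq_true, decide_eq_true_eq] at h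
    exact h.1
  · have h := tabP_inc k (by omega)
    simp only [Bool.and_eq_true, Bool.or_eq_true, decide_eq_true_eq] at h
    rcases h.2 with h' | h'
    · omega
    · exact h'

theorem mem_invSetP (σ : M24) :
    σ ∈ invSetP ↔ σ * σ = 1 ∧ actG σ (pairNo 0 1) = pairNo 0 1 := by
  classical
  haveI := Fintype.ofFinite M24
  have e : invSetP = (Finset.univ : Finset M24).filter fun σ => σ * σ = 1 ∧ actG σ (pairNo 0 1) = pairNo 0 1 := by
    refine Finset.eq_of_subset_of_card_le (fun x hx => ?_) ?_
    · rw [invSetP, Finset.mem_image] at hx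
      obtain ⟨n, hn, rfl⟩ := hx
      exact Finset.mem_filter.mpr ⟨Finset.mem_univ _, (tabP_spec n (Finset.mem_range.mp hn)).2⟩
    · have h := card_pair_invol
      rw [Nat.card_eq_fintype_card, Fintype.card_subtype] at h
      rw [h, invSetP, Finset.card_image_of_injOn tabP_inj, Finset.card_range]
  rw [e, Finset.mem_filter]
  simp

/-- A double sum over the stabiliser by orbits of pairs. -/
theorem sum_pairsP (f : M24 → M24 → ℕ)
    (hf : ∀ g : M24, actG g (pairNo 0 1) = pairNo 0 1 → ∀ s t, f (g * s * g⁻¹) (g * t * g⁻¹) = f s t) :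
    (∑ s ∈ invSetP, ∑ t ∈ invSetP, f s t) =
      ∑ j ∈ Finset.range 4, cntP0.getD j 0 * ∑ k ∈ Finset.range (rootS j).length,
        (cntS j).getD k 0 * f (tabElt tabP (rootP0.getD j 2872)) (tabElt tabP ((rootS j).getD k 2872)) := by
  classical
  have hsum : ∀ F : M24 → ℕ, (∑ s ∈ invSetP, F s) = ∑ n ∈ Finset.range 2872, F (tabElt tabP n) := fun F => by
    rw [invSetP, Finset.sum_image tabP_inj]
  have hinv : ∀ g : M24, g • firstPair = firstPair → ∀ s,
      (∑ t ∈ invSetP, f (g * s * g⁻¹) t) = ∑ t ∈ invSetP, f s t := by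
    intro g hg s
    refine Finset.sum_nbij' (fun t => g⁻¹ * t * g) (fun t => g * t * g⁻¹) (fun t ht => ?_) (fun t ht => ?_)
      (fun t _ => by group) (fun t _ => by group) (fun t _ => ?_)
    · rw [mem_invSetP] at ht ⊢
      simpa using invol_conj (g := g⁻¹) (inv_smul_eq_iff.mpr hg.symm) ht
    · rw [mem_invSetP] at ht ⊢
      exact invol_conj hg ht
    · have h := hf g ((actG_pair_iff g).mpr hg) s (g⁻¹ * t * g)
      rwa [show g * (g⁻¹ * t * g) * g⁻¹ = t by group] at h
  rw [hsum, sum_trees cntP0 (fun s => ∑ t ∈ invSetP, f s t) (fun n hn => (tabP_spec n hn).1) forP0_ok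
    (fun C hC => (genP0_ok C hC).1) (fun C hC x => hinv _ (gen_fix (genP0_ok C hC).1 (genP0_ok C hC).2) x)
    forP0_flat cntP0_ok, rootP0_len]
  refine Finset.sum_congr rfl fun j hj => congrArg _ ?_
  have hj4 : j < 4 := Finset.mem_range.mp hj
  obtain ⟨hT, hg, hfx, hflat, hc⟩ := forS_facts j hj4
  have hlen : j < rootP0.length := by rw [rootP0_len]; exact hj4
  rw [hsum]
  refine sum_trees (cntS j) (fun t => f (tabElt tabP (rootP0.getD j 2872)) t) (fun n hn => (tabP_spec n hn).1) hT
    (fun C hC => (hg C hC).1) (fun C hC x => ?_) hflat hc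
  set r := rootP0.getD j 2872 with hr
  have hr' : rootP0.getD j 0 = r := by rw [hr, List.getD_eq_getElem _ _ hlen, List.getD_eq_getElem _ _ hlen]
  have hrm : r ∈ rootP0 := by rw [hr, List.getD_eq_getElem _ _ hlen]; exact List.getElem_mem _
  have e : toList (tabElt tabP r).1 = unpack24 (tabGet tabP r) := by
    rw [tabElt_of (toList_ofList (rootP0_ok r hrm).1)]; exact toList_ofList (rootP0_ok r hrm).1
  have h := conjP_step (g := ofList (unpack24 C)) e (toList_ofList (hg C hC).1) (hr' ▸ hfx C hC)
  rw [← e] at h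
  have hfix := (actG_pair_iff _).mpr (gen_fix (hg C hC).1 (hg C hC).2)
  have := hf _ hfix (tabElt tabP r) x
  rw [toList_coe_injective h] at this
  exact this

end CfsgLib.J4Order
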