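import Cfsg.Agent.J4Local.Order.OrbitForest
import Cfsg.Agent.J4Local.Order.OrbitsPData

/-!
Checks of the tables for the stabiliser of the first pair.
-/

set_option autoImplicit false
set_option maxRecDepth 100000

namespace CfsgLib.J4Order

open Cfsg CfsgLib.Golay CfsgLib.Golay.Cert CfsgLib.J4CentT

theorem all_upTo {P : ℕ → Bool} {N : ℕ}
    (h : ∀ k < 6, ((List.range 512).all fun b => decide (N ≤ 512 * k + b) || P (512 * k + b)) = true)
    (hN : N ≤ 3072) : ∀ n < N, P n = true := by
  intro n hn
  have := List.all_eq_true.mp (h (n / 512) (by omega)) (n % 512) (List.mem_range.mpr (Nat.mod_lt _ (by norm_num)))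
  rw [Nat.div_add_mod] at this
  simpa [Nat.not_le.mpr hn] using this

theorem tabP_inc_0 : ((List.range 512).all fun b => decide (2872 ≤ 512 * 0 + b) || (fun n => decide (tabGet tabP n < 2 ^ 120) && (decide (2872 ≤ n + 1) || decide (tabGet tabP n < tabGet tabP (n + 1)))) (512 * 0 + b)) = true := by
  decide +kernel

theorem tabP_inc_1 : ((List.range 512).all fun b => decide (2872 ≤ 512 * 1 + b) || (fun n => decide (tabGet tabP n < 2 ^ 120) && (decide (2872 ≤ n + 1) || decide (tabGet tabP n < tabGet tabP (n + 1)))) (512 * 1 + b)) = true := by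
  decide +kernel

theorem tabP_inc_2 : ((List.range 512).all fun b => decide (2872 ≤ 512 * 2 + b) || (fun n => decide (tabGet tabP n < 2 ^ 120) && (decide (2872 ≤ n + 1) || decide (tabGet tabP n < tabGet tabP (n + 1)))) (512 * 2 + b)) = true := by
  decide +kernel

theorem tabP_inc_3 : ((List.range 512).all fun b => decide (2872 ≤ 512 * 3 + b) || (fun n => decide (tabGet tabP n < 2 ^ 120) && (decide (2872 ≤ n + 1) || decide (tabGet tabP n < tabGet tabP (n + 1)))) (512 * 3 + b)) = true := by
  decide +kernel

theorem tabP_inc_4 : ((List.range 512).all fun b => decide (2872 ≤ 512 * 4 + b) || (fun n => decide (tabGet tabP n < 2 ^ 120) && (decide (2872 ≤ n + 1) || decide (tabGet tabP n < tabGet tabP (n + 1)))) (512 * 4 + b)) = true := by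
  decide +kernel

theorem tabP_inc_5 : ((List.range 512).all fun b => decide (2872 ≤ 512 * 5 + b) || (fun n => decide (tabGet tabP n < 2 ^ 120) && (decide (2872 ≤ n + 1) || decide (tabGet tabP n < tabGet tabP (n + 1)))) (512 * 5 + b)) = true := by
  decide +kernel

theorem tabP_inc : ∀ n < 2872, (fun n => decide (tabGet tabP n < 2 ^ 120) && (decide (2872 ≤ n + 1) || decide (tabGet tabP n < tabGet tabP (n + 1)))) n = true :=
  all_upTo (fun k hk => match k with
    | 0 => tabP_inc_0
    | 1 => tabP_inc_1
    | 2 => tabP_inc_2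
    | 3 => tabP_inc_3
    | 4 => tabP_inc_4
    | 5 => tabP_inc_5
    | _ + 6 => absurd hk (by omega)) (by norm_num)

theorem rootP0_ok : ∀ r ∈ rootP0, genOK (unpack24 (tabGet tabP r)) = true ∧
    compL (unpack24 (tabGet tabP r)) (unpack24 (tabGet tabP r)) = List.range 24 ∧
    act (unpack24 (tabGet tabP r)) (pairNo 0 1) = pairNo 0 1 := by decide +kernel

theorem forP0_ok_0 : ((List.range 512).all fun b => decide (2872 ≤ 512 * 0 + b) || (entOK 2872 tabP forP0 genP0 rootP0) (512 * 0 + b)) = true := by
  decide +kernel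

theorem forP0_ok_1 : ((List.range 512).all fun b => decide (2872 ≤ 512 * 1 + b) || (entOK 2872 tabP forP0 genP0 rootP0) (512 * 1 + b)) = true := by
  decide +kernel

theorem forP0_ok_2 : ((List.range 512).all fun b => decide (2872 ≤ 512 * 2 + b) || (entOK 2872 tabP forP0 genP0 rootP0) (512 * 2 + b)) = true := by
  decide +kernel

theorem forP0_ok_3 : ((List.range 512).all fun b => decide (2872 ≤ 512 * 3 + b) || (entOK 2872 tabP forP0 genP0 rootP0) (512 * 3 + b)) = true := by
  decide +kernel

theorem forP0_ok_4 : ((List.range 512).all fun b => decide (2872 ≤ 512 * 4 + b) || (entOK 2872 tabP forP0 genP0 rootP0) (512 * 4 + b)) = true := by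
  decide +kernel

theorem forP0_ok_5 : ((List.range 512).all fun b => decide (2872 ≤ 512 * 5 + b) || (entOK 2872 tabP forP0 genP0 rootP0) (512 * 5 + b)) = true := by
  decide +kernel

theorem forP0_ok : ∀ n < 2872, (entOK 2872 tabP forP0 genP0 rootP0) n = true :=
  all_upTo (fun k hk => match k with
    | 0 => forP0_ok_0
    | 1 => forP0_ok_1
    | 2 => forP0_ok_2
    | 3 => forP0_ok_3
    | 4 => forP0_ok_4
    | 5 => forP0_ok_5
    | _ + 6 => absurd hk (by omega)) (by norm_num)

theorem genP0_ok : ∀ C ∈ genP0, genOK (unpack24 C) = true ∧ act (unpack24 C) (pairNo 0 1) = pairNo 0 1 := by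
  decide +kernel

theorem forP0_flat : (List.range 2872).map (tabGet forP0) = forP0.flatten := by decide +kernel

theorem cntP0_ok : ((List.range rootP0.length).map fun k =>
    forP0.flatten.countP fun e => entCls e == k) = cntP0 := by decide +kernel

theorem forP1_ok_0 : ((List.range 512).all fun b => decide (2872 ≤ 512 * 0 + b) || (entOK 2872 tabP forP1 genP1 rootP1) (512 * 0 + b)) = true := by
  decide +kernel

theorem forP1_ok_1 : ((List.range 512).all fun b => decide (2872 ≤ 512 * 1 + b) || (entOK 2872 tabP forP1 genP1 rootP1) (512 * 1 + b)) = true := by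
  decide +kernel

theorem forP1_ok_2 : ((List.range 512).all fun b => decide (2872 ≤ 512 * 2 + b) || (entOK 2872 tabP forP1 genP1 rootP1) (512 * 2 + b)) = true := by
  decide +kernel

theorem forP1_ok_3 : ((List.range 512).all fun b => decide (2872 ≤ 512 * 3 + b) || (entOK 2872 tabP forP1 genP1 rootP1) (512 * 3 + b)) = true := by
  decide +kernel

theorem forP1_ok_4 : ((List.range 512).all fun b => decide (2872 ≤ 512 * 4 + b) || (entOK 2872 tabP forP1 genP1 rootP1) (512 * 4 + b)) = true := by
  decide +kernel

theorem forP1_ok_5 : ((List.range 512).all fun b => decide (2872 ≤ 512 * 5 + b) || (entOK 2872 tabP forP1 genP1 rootP1) (512 * 5 + b)) = true := by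
  decide +kernel

theorem forP1_ok : ∀ n < 2872, (entOK 2872 tabP forP1 genP1 rootP1) n = true :=
  all_upTo (fun k hk => match k with
    | 0 => forP1_ok_0
    | 1 => forP1_ok_1
    | 2 => forP1_ok_2
    | 3 => forP1_ok_3
    | 4 => forP1_ok_4
    | 5 => forP1_ok_5
    | _ + 6 => absurd hk (by omega)) (by norm_num)

theorem genP1_ok : ∀ C ∈ genP1, genOK (unpack24 C) = true ∧ act (unpack24 C) (pairNo 0 1) = pairNo 0 1 := by
  decide +kernel

theorem forP1_flat : (List.range 2872).map (tabGet forP1) = forP1.flatten := by decide +kernel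

theorem cntP1_ok : ((List.range rootP1.length).map fun k =>
    forP1.flatten.countP fun e => entCls e == k) = cntP1 := by decide +kernel

theorem genP1_fix : ∀ C ∈ genP1,
    conjP (tabGet tabP (rootP0.getD 0 0)) (tabGet tabP (rootP0.getD 0 0)) C = true := by decide +kernel

theorem forP2_ok_0 : ((List.range 512).all fun b => decide (2872 ≤ 512 * 0 + b) || (entOK 2872 tabP forP2 genP2 rootP2) (512 * 0 + b)) = true := by
  decide +kernel

theorem forP2_ok_1 : ((List.range 512).all fun b => decide (2872 ≤ 512 * 1 + b) || (entOK 2872 tabP forP2 genP2 rootP2) (512 * 1 + b)) = true := by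
  decide +kernel

theorem forP2_ok_2 : ((List.range 512).all fun b => decide (2872 ≤ 512 * 2 + b) || (entOK 2872 tabP forP2 genP2 rootP2) (512 * 2 + b)) = true := by
  decide +kernel

theorem forP2_ok_3 : ((List.range 512).all fun b => decide (2872 ≤ 512 * 3 + b) || (entOK 2872 tabP forP2 genP2 rootP2) (512 * 3 + b)) = true := by
  decide +kernel

theorem forP2_ok_4 : ((List.range 512).all fun b => decide (2872 ≤ 512 * 4 + b) || (entOK 2872 tabP forP2 genP2 rootP2) (512 * 4 + b)) = true := by
  decide +kernel

theorem forP2_ok_5 : ((List.range 512).all fun b => decide (2872 ≤ 512 * 5 + b) || (entOK 2872 tabP forP2 genP2 rootP2) (512 * 5 + b)) = true := by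
  decide +kernel

theorem forP2_ok : ∀ n < 2872, (entOK 2872 tabP forP2 genP2 rootP2) n = true :=
  all_upTo (fun k hk => match k with
    | 0 => forP2_ok_0
    | 1 => forP2_ok_1
    | 2 => forP2_ok_2
    | 3 => forP2_ok_3
    | 4 => forP2_ok_4
    | 5 => forP2_ok_5
    | _ + 6 => absurd hk (by omega)) (by norm_num)

theorem genP2_ok : ∀ C ∈ genP2, genOK (unpack24 C) = true ∧ act (unpack24 C) (pairNo 0 1) = pairNo 0 1 := by
  decide +kernel

theorem forP2_flat : (List.range 2872).map (tabGet forP2) = forP2.flatten := by decide +kernel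

theorem cntP2_ok : ((List.range rootP2.length).map fun k =>
    forP2.flatten.countP fun e => entCls e == k) = cntP2 := by decide +kernel

theorem genP2_fix : ∀ C ∈ genP2,
    conjP (tabGet tabP (rootP0.getD 1 0)) (tabGet tabP (rootP0.getD 1 0)) C = true := by decide +kernel

theorem forP3_ok_0 : ((List.range 512).all fun b => decide (2872 ≤ 512 * 0 + b) || (entOK 2872 tabP forP3 genP3 rootP3) (512 * 0 + b)) = true := by
  decide +kernel

theorem forP3_ok_1 : ((List.range 512).all fun b => decide (2872 ≤ 512 * 1 + b) || (entOK 2872 tabP forP3 genP3 rootP3) (512 * 1 + b)) = true := by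
  decide +kernel

theorem forP3_ok_2 : ((List.range 512).all fun b => decide (2872 ≤ 512 * 2 + b) || (entOK 2872 tabP forP3 genP3 rootP3) (512 * 2 + b)) = true := by
  decide +kernel

theorem forP3_ok_3 : ((List.range 512).all fun b => decide (2872 ≤ 512 * 3 + b) || (entOK 2872 tabP forP3 genP3 rootP3) (512 * 3 + b)) = true := by
  decide +kernel

theorem forP3_ok_4 : ((List.range 512).all fun b => decide (2872 ≤ 512 * 4 + b) || (entOK 2872 tabP forP3 genP3 rootP3) (512 * 4 + b)) = true := by
  decide +kernel

theorem forP3_ok_5 : ((List.range 512).all fun b => decide (2872 ≤ 512 * 5 + b) || (entOK 2872 tabP forP3 genP3 rootP3) (512 * 5 + b)) = true := by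
  decide +kernel

theorem forP3_ok : ∀ n < 2872, (entOK 2872 tabP forP3 genP3 rootP3) n = true :=
  all_upTo (fun k hk => match k with
    | 0 => forP3_ok_0
    | 1 => forP3_ok_1
    | 2 => forP3_ok_2
    | 3 => forP3_ok_3
    | 4 => forP3_ok_4
    | 5 => forP3_ok_5
    | _ + 6 => absurd hk (by omega)) (by norm_num)

theorem genP3_ok : ∀ C ∈ genP3, genOK (unpack24 C) = true ∧ act (unpack24 C) (pairNo 0 1) = pairNo 0 1 := by
  decide +kernel

theorem forP3_flat : (List.range 2872).map (tabGet forP3) = forP3.flatten := by decide +kernel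

theorem cntP3_ok : ((List.range rootP3.length).map fun k =>
    forP3.flatten.countP fun e => entCls e == k) = cntP3 := by decide +kernel

theorem genP3_fix : ∀ C ∈ genP3,
    conjP (tabGet tabP (rootP0.getD 2 0)) (tabGet tabP (rootP0.getD 2 0)) C = true := by decide +kernel

theorem forP4_ok_0 : ((List.range 512).all fun b => decide (2872 ≤ 512 * 0 + b) || (entOK 2872 tabP forP4 genP4 rootP4) (512 * 0 + b)) = true := by
  decide +kernel

theorem forP4_ok_1 : ((List.range 512).all fun b => decide (2872 ≤ 512 * 1 + b) || (entOK 2872 tabP forP4 genP4 rootP4) (512 * 1 + b)) = true := by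
  decide +kernel

theorem forP4_ok_2 : ((List.range 512).all fun b => decide (2872 ≤ 512 * 2 + b) || (entOK 2872 tabP forP4 genP4 rootP4) (512 * 2 + b)) = true := by
  decide +kernel

theorem forP4_ok_3 : ((List.range 512).all fun b => decide (2872 ≤ 512 * 3 + b) || (entOK 2872 tabP forP4 genP4 rootP4) (512 * 3 + b)) = true := by
  decide +kernel

theorem forP4_ok_4 : ((List.range 512).all fun b => decide (2872 ≤ 512 * 4 + b) || (entOK 2872 tabP forP4 genP4 rootP4) (512 * 4 + b)) = true := by
  decide +kernel

theorem forP4_ok_5 : ((List.range 512).all fun b => decide (2872 ≤ 512 * 5 + b) || (entOK 2872 tabP forP4 genP4 rootP4) (512 * 5 + b)) = true := by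
  decide +kernel

theorem forP4_ok : ∀ n < 2872, (entOK 2872 tabP forP4 genP4 rootP4) n = true :=
  all_upTo (fun k hk => match k with
    | 0 => forP4_ok_0
    | 1 => forP4_ok_1
    | 2 => forP4_ok_2
    | 3 => forP4_ok_3
    | 4 => forP4_ok_4
    | 5 => forP4_ok_5
    | _ + 6 => absurd hk (by omega)) (by norm_num)

theorem genP4_ok : ∀ C ∈ genP4, genOK (unpack24 C) = true ∧ act (unpack24 C) (pairNo 0 1) = pairNo 0 1 := by
  decide +kernel

theorem forP4_flat : (List.range 2872).map (tabGet forP4) = forP4.flatten := by decide +kernel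

theorem cntP4_ok : ((List.range rootP4.length).map fun k =>
    forP4.flatten.countP fun e => entCls e == k) = cntP4 := by decide +kernel

theorem genP4_fix : ∀ C ∈ genP4,
    conjP (tabGet tabP (rootP0.getD 3 0)) (tabGet tabP (rootP0.getD 3 0)) C = true := by decide +kernel

end CfsgLib.J4Order
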