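import Cfsg.Agent.J4Local.Order.Classes
import Cfsg.Agent.J4Local.Order.Join

/-!
The fixed numbers of each class over the three kinds of elements, and the value of a pair of elements.
-/

set_option autoImplicit false
set_option maxRecDepth 100000

namespace CfsgLib.J4Order

open Cfsg CfsgLib.J4CentT CfsgLib.Golay CfsgLib.Golay.Cert MulAction
open scoped Pointwise

/-- The number of the first pair. -/
def tP : ℕ := 234

/-- The numbers of all pairs as a mask. -/
def pMask : ℕ := 0x2100008048010001071801000100204800001400001082004100002200840000008188e10007118041000088002100004200008024010004d04240004000081400020010002084000180400810000200024080018008e080200108000400801012000088004100080000240e880800120b24020002008010420000180010117040020404d0404020018010024000080004240d42400004020000840b220200180010008042010000200402000400801100002400008800104800001200101172008b22004102000088e20080008400101002040008008014008000120010117004024000200008110080001800101170820000140010117000181170117177e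

/-- The fixed numbers of the class of `z` over the first element. -/
def zFixA : List ℕ := [0,65,433,496,541,604,940,1005,1040,1105,1441,1504,1549,1612,1980,2045]

/-- The other fixed numbers over the first element. -/
def tFixA : List ℕ := [4,32,36,69,97,101,139,143,171,175,202,206,234,238,282,286,314,318,347,351,379,383,401,405,437,464,468,500,537,569,573,600,632,636,658,662,690,694,723,727,755,759,771,775,803,807,834,838,866,870,904,908,936,969,973,1001,1044,1072,1076,1109,1137,1141,1179,1183,1211,1215,1242,1246,1274,1278,1290,1294,1322,1326,1355,1359,1387,1391,1409,1413,1445,1472,1476,1508,1545,1577,1581,1608,1640,1644,1666,1670,1698,1702,1731,1735,1763,1767,1811,1815,1843,1847,1874,1878,1906,1910,1944,1948,1976,2009,2013,2041]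

/-- The fixed numbers of the class of `z` over the second element. -/
def zFixB : List ℕ := [0,119,185,206,300,347,405,482,555,604,658,741,775,880,958,969,1076,1091,1165,1274,1304,1391,1441,1494,1567,1640,1702,1745,1843,1860,1930,2045]

/-- The other fixed numbers over the second element. -/
def tFixB : List ℕ := [36,83,157,234,264,383,433,454,527,632,694,705,803,852,922,1005,1040,1127,1193,1246,1340,1355,1413,1522,1595,1612,1666,1781,1815,1888,1966,2009]

/-- The numbers giving the class of `z`, by kind. -/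
def zFix : ℕ → List ℕ
  | 0 => (List.range 2048).filter fun i => !pMask.testBit i && i != 0
  | 1 => zFixA
  | _ => zFixB

/-- The numbers giving the second class, by kind. -/
def tFix : ℕ → List ℕ
  | 0 => (List.range 2048).filter fun i => pMask.testBit i
  | 1 => tFixA
  | _ => tFixB

/-- The representative of a kind. -/
def repL : ℕ → List ℕ
  | 0 => List.range 24
  | 1 => rEl idxA
  | _ => rEl idxB

theorem ck_tP : pairNo 0 1 = tP ∧ tP ≠ 0 := by decide +kernel

theorem ck_pMask : (∀ i ∈ pairList, pMask.testBit i = true) ∧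
    ((List.range 2048).filter fun i => pMask.testBit i).length = 276 := by decide +kernel

theorem ck_pairList : pairList.Nodup := by decide +kernel

theorem ck_fixA : (∀ j < 2048, j ∈ zFixA ↔ (act (rEl idxA) j = j ∧ zMaskA.testBit j = true)) ∧
    (∀ j < 2048, j ∈ tFixA ↔ (act (rEl idxA) j = j ∧ zMaskA.testBit j = false)) :=
  ⟨forall_lt_2048 (by decide +kernel), forall_lt_2048 (by decide +kernel)⟩

theorem ck_fixB : (∀ j < 2048, j ∈ zFixB ↔ (act (rEl idxB) j = j ∧ zMaskB.testBit j = true)) ∧
    (∀ j < 2048, j ∈ tFixB ↔ (act (rEl idxB) j = j ∧ zMaskB.testBit j = false)) :=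
  ⟨forall_lt_2048 (by decide +kernel), forall_lt_2048 (by decide +kernel)⟩

theorem ck_fix_lists : zFixA.Nodup ∧ tFixA.Nodup ∧ zFixB.Nodup ∧ tFixB.Nodup ∧
    (zFixA ++ tFixA ++ zFixB ++ tFixB).all (fun i => decide (i < 2048)) = true := by decide +kernel

theorem fix_nodup_lt : ∀ k, (zFix k).Nodup ∧ (tFix k).Nodup ∧ (∀ i ∈ zFix k, i < 2048) ∧
    (∀ i ∈ tFix k, i < 2048) := by
  obtain ⟨n1, n2, n3, n4, hlt⟩ := ck_fix_lists
  simp only [List.all_append, Bool.and_eq_true, List.all_eq_true, decide_eq_true_eq] at hlt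
  intro k
  match k with
  | 0 => exact ⟨List.nodup_range.filter _, List.nodup_range.filter _,
      fun i hi => List.mem_range.mp (List.mem_filter.mp hi).1, fun i hi => List.mem_range.mp (List.mem_filter.mp hi).1⟩
  | 1 => exact ⟨n1, n2, hlt.1.1.1, hlt.1.1.2⟩
  | _ + 2 => exact ⟨n3, n4, hlt.1.2, hlt.2⟩

theorem pMask_iff {i : ℕ} (hi : i < 2048) : pMask.testBit i = true ↔ i ∈ pairList := by
  refine ⟨fun h => ?_, ck_pMask.1 i⟩
  have hsub : pairList.toFinset ⊆ ((List.range 2048).filter fun i => pMask.testBit i).toFinset := fun x hx => by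
    have hx' := List.mem_toFinset.mp hx
    obtain ⟨c, -, a, -, e⟩ := mem_pairList.mp hx'
    exact List.mem_toFinset.mpr (List.mem_filter.mpr ⟨List.mem_range.mpr (e ▸ cd_lt _), ck_pMask.1 x hx'⟩)
  have hlen : pairList.length = 276 := by decide +kernel
  have heq := Finset.eq_of_subset_of_card_le hsub (by
    rw [List.toFinset_card_of_nodup ck_pairList, hlen]
    exact (List.toFinset_card_le _).trans ck_pMask.2.le)
  rw [← List.mem_toFinset, heq]
  exact List.mem_toFinset.mpr (List.mem_filter.mpr ⟨List.mem_range.mpr hi, h⟩)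

/-- The images of the unit vectors under the first map of a pair. -/
def colsX (R : List ℕ) (m : ℕ) (M : List ℕ) : List ℕ :=
  (List.range 11).map fun k => NsumL R m (act (invL M) (2 ^ k))

/-- The images of the unit vectors under the second map of a pair. -/
def colsY (R : List ℕ) (m : ℕ) (S M : List ℕ) : List ℕ :=
  (List.range 11).map fun k => NsumL R m (act S (act (invL M) (2 ^ k)))

/-- The number of pairs over two elements, from the images of the unit vectors. -/
def pairCount (cX cY : List ℕ) (k l : ℕ) : ℕ :=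
  joinCount 11 ((zFix k).map fun a => Nat.xor tP (comb cX a)) ((tFix l).map (comb cY))

/-- Check of the value of a pair: the two lists, kinds, conjugators, order, images and value. -/
def pairOK (S T : List ℕ) (c : ℕ × List ℕ × ℕ × List ℕ × ℕ × List ℕ × List ℕ × ℕ) : Bool :=
  match c with
  | (k, M, l, N, m, cX, cY, v) =>
    decide (k < 3) && decide (l < 3) && genOK S && genOK T && genOK M && genOK N &&
      conjB S (repL k) M && conjB T (repL l) N && decide (0 < m) &&
      powL (compL S T) m == List.range 24 &&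
      (List.range m).all (fun i => i == 0 || powL (compL S T) i != List.range 24) &&
      cX == colsX (compL S T) m M && cY == colsY (compL S T) m S N && pairCount cX cY k l == v

variable {G : Type*} [Group G] [Finite G] {z : G} (S : Setup z)

/-- The element of the second class. -/
abbrev Setup.tt : G := S.F.b (pairNo 0 1)

/-- A pair counted at the second element. -/
def Setup.GoodT (q : G × G) : Prop :=
  IsConj z q.1 ∧ IsConj S.tt q.2 ∧ S.tt ∈ Subgroup.zpowers (q.1 * q.2)

/-- Being over a given element of the Mathieu group. -/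
def Setup.Over (σ : M24) (x : G) : Prop := ∃ i < 2048, x = S.F.b i * S.F.kap σ

/-- The number of counted pairs over two elements. -/
noncomputable def Setup.fT (σ τ : M24) : ℕ :=
  Nat.card {q : G × G // S.GoodT q ∧ S.Over σ q.1 ∧ S.Over τ q.2}

omit [Finite G] in
theorem order_conj (g x : G) : orderOf (g * x * g⁻¹) = orderOf x := (MulAut.conj g).orderOf_eq x

include S in
theorem z_invol : orderOf z = 2 := by
  obtain ⟨g, hg⟩ := isConj_iff.mp S.F.zconj
  have : Fact (Nat.Prime 2) := ⟨Nat.prime_two⟩
  have h : orderOf S.w = 2 := orderOf_eq_prime (by rw [pow_two]; exact S.F.b_sq ck_zIdx.1)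
    (fun e => absurd ((b_zero_iff S ck_zIdx.1).mp e) (by decide +kernel))
  rw [← h, show S.w = g * z * g⁻¹ from hg.symm, order_conj]

theorem tt_invol : orderOf S.tt = 2 := by
  have : Fact (Nat.Prime 2) := ⟨Nat.prime_two⟩
  exact orderOf_eq_prime (by rw [pow_two]; exact S.F.b_sq (cd_lt _))
    fun e => ck_tP.2 (ck_tP.1 ▸ (b_zero_iff S (cd_lt _)).mp e)

theorem sq_form {σ : M24} {i : ℕ} (hi : i < 2048) :
    S.F.b i * S.F.kap σ * (S.F.b i * S.F.kap σ) = 1 ↔ σ * σ = 1 ∧ actG σ i = i := by
  rw [S.F.mul_form _ _ hi hi]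
  constructor
  · intro h
    have h' := S.F.form_inj (xor_lt hi (act_lt _ _)) (show 0 < 2048 by norm_num)
      (h.trans (by rw [S.F.b_zero, map_one, mul_one] : (1 : G) = S.F.b 0 * S.F.kap 1))
    exact ⟨h'.2, by simpa [← Nat.xor_assoc] using congrArg (i ^^^ ·) h'.1⟩
  · rintro ⟨h1, h2⟩
    rw [h1, h2, Nat.xor_self, S.F.b_zero, map_one, one_mul]

theorem invol_form {x : G} (hx : orderOf x = 2) {σ : M24} {i : ℕ} (hi : i < 2048)
    (e : x = S.F.b i * S.F.kap σ) : σ * σ = 1 ∧ actG σ i = i := by
  refine (sq_form S hi).mp ?_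
  rw [← e, ← pow_two, ← hx]
  exact pow_orderOf_eq_one x

/-- The element of a kind. -/
noncomputable def repM (k : ℕ) : M24 := ofList (repL k)

theorem repM_eq : repM 0 = 1 ∧ repM 1 = rg idxA ∧ ∀ k, repM (k + 2) = rg idxB := by
  refine ⟨toList_coe_injective ?_, rfl, fun k => rfl⟩
  show toList (ofList (repL 0)).1 = toList (1 : Equiv.Perm GolayPt)
  rw [toList_ofList (by decide +kernel), toList_one]
  rfl

theorem repM_sq (k : ℕ) : repM k * repM k = 1 := by
  obtain ⟨h0, h1, h2⟩ := repM_eq
  match k with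
  | 0 => rw [h0, one_mul]
  | 1 => rw [h1]; exact rg_sq ck_conj.2.2.2.2.1
  | n + 2 => rw [h2]; exact rg_sq ck_conj.2.2.2.2.2.1

theorem repM_list {k : ℕ} (hk : k < 3) : toList (repM k).1 = repL k := by
  have h : genOK (repL 0) = true ∧ genOK (repL 1) = true ∧ genOK (repL 2) = true := by decide +kernel
  refine toList_ofList ?_
  interval_cases k
  exacts [h.1, h.2.1, h.2.2]

variable {S} (hs : S.SplitFacts) (hz2 : S.rootZ 2)

include hs hz2

/-- The two classes over an element, read in the lists of its kind. -/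
theorem over_iff {σ n : M24} {k i : ℕ} (hi : i < 2048) (hn : n * σ * n⁻¹ = repM k) :
    (IsConj z (S.F.b i * S.F.kap σ) ↔ actG n i ∈ zFix k) ∧
      (IsConj S.tt (S.F.b i * S.F.kap σ) ↔ actG n i ∈ tFix k) := by
  have : Fact (Nat.Prime 2) := ⟨Nat.prime_two⟩
  have hσ : σ * σ = 1 := by
    have h := repM_sq k
    rw [← hn, show n * σ * n⁻¹ * (n * σ * n⁻¹) = n * (σ * σ) * n⁻¹ by group, conj_eq_one_iff] at h
    exact h
  have hj := act_lt (toList n.1) i
  have hfx : actG σ i = i ↔ act (toList (repM k).1) (actG n i) = actG n i := by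
    rw [← hn]
    show _ ↔ actG (n * σ * n⁻¹) (actG n i) = actG n i
    rw [← S.F.act_mul _ _ hi, inv_mul_cancel_right, S.F.act_mul _ _ hi]
    refine ⟨fun h => by rw [h], fun h => ?_⟩
    have h2 : actG n⁻¹ (actG n (actG σ i)) = actG n⁻¹ (actG n i) := congrArg (fun x => actG n⁻¹ x) h
    rwa [← S.F.act_mul n⁻¹ n (act_lt _ _), inv_mul_cancel, S.F.act_one (act_lt _ _), ← S.F.act_mul n⁻¹ n hi,
      inv_mul_cancel, S.F.act_one hi] at h2
  have hzfix : IsConj z (S.F.b i * S.F.kap σ) → actG σ i = i := fun h => by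
    obtain ⟨g, hg⟩ := isConj_iff.mp h
    exact (invol_form S (by rw [← hg, order_conj, z_invol S]) hi rfl).2
  have htt : IsConj S.tt (S.F.b i * S.F.kap σ) ↔ actG σ i = i ∧ ¬ IsConj z (S.F.b i * S.F.kap σ) ∧
      S.F.b i * S.F.kap σ ≠ 1 := by
    constructor
    · intro h
      obtain ⟨g, hg⟩ := isConj_iff.mp h
      have ho : orderOf (S.F.b i * S.F.kap σ) = 2 := by rw [← hg, order_conj, tt_invol S]
      refine ⟨(invol_form S ho hi rfl).2, fun hc => pair_not_conj S.F (hc.trans h.symm), fun e => ?_⟩
      rw [e, orderOf_one] at ho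
      norm_num at ho
    · rintro ⟨hf, hnz, hne⟩
      exact second_class S.data S.unique
        (orderOf_eq_prime (by rw [pow_two]; exact (sq_form S hi).mpr ⟨hσ, hf⟩) hne) hnz
  obtain ⟨h0, h1, h2⟩ := repM_eq
  match k with
  | 0 =>
    have hσ1 : σ = 1 := by rw [h0] at hn; exact conj_eq_one_iff.mp hn
    subst hσ1
    have hmove : IsConj z (S.F.b i) ↔ IsConj z (S.F.b (actG n i)) := by
      rw [show S.F.b (actG n i) = S.F.kap n * S.F.b i * (S.F.kap n)⁻¹ from (S.F.b_conj n i hi).symm, conj_z_iff]
    have hzero : i = 0 ↔ actG n i = 0 := by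
      rw [← b_zero_iff S hi, ← b_zero_iff S hj,
        show S.F.b (actG n i) = S.F.kap n * S.F.b i * (S.F.kap n)⁻¹ from (S.F.b_conj n i hi).symm, conj_eq_one_iff]
    have hzc : IsConj z (S.F.b i * S.F.kap 1) ↔ actG n i ∈ zFix 0 := by
      rw [map_one, mul_one, hmove, conj_iff_one hj, ← pMask_iff hj]
      simp only [zFix, List.mem_filter, List.mem_range, Bool.and_eq_true, Bool.not_eq_true', bne_iff_ne]
      simp [hj, and_comm]
    refine ⟨hzc, ?_⟩
    rw [htt, map_one, mul_one, hmove, conj_iff_one hj]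
    simp only [ne_eq, b_zero_iff S hi, hzero, ← pMask_iff hj]
    simp only [tFix, List.mem_filter, List.mem_range]
    constructor
    · rintro ⟨-, h, h'⟩
      refine ⟨hj, ?_⟩
      by_contra hb
      exact h ⟨h', hb⟩
    · rintro ⟨-, h⟩
      refine ⟨S.F.act_one hi, fun hc => hc.2 h, fun e => ?_⟩
      rw [e] at h
      exact absurd h (by decide +kernel)
  | 1 =>
    rw [h1] at hn
    rw [show toList (repM 1).1 = rEl idxA from repM_list (by norm_num)] at hfx
    have hm : IsConj z (S.F.b i * S.F.kap σ) ↔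
        (act (rEl idxA) (actG n i) = actG n i ∧ zMaskA.testBit (actG n i) = true) :=
      ⟨fun h => ⟨hfx.mp (hzfix h), (conj_iffA hs hz2 hi hn (hzfix h)).mp h⟩,
        fun h => (conj_iffA hs hz2 hi hn (hfx.mpr h.1)).mpr h.2⟩
    refine ⟨hm.trans (ck_fixA.1 _ hj).symm, ?_⟩
    rw [htt, hm]
    refine ⟨fun ⟨a, b, _⟩ => (ck_fixA.2 _ hj).mpr ⟨hfx.mp a, by simpa [hfx.mp a] using b⟩, fun h => ?_⟩
    obtain ⟨a, b⟩ := (ck_fixA.2 _ hj).mp h
    refine ⟨hfx.mpr a, fun hc => by rw [b] at hc; simp at hc, fun e => ?_⟩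
    have h' := (S.F.form_inj hi (show 0 < 2048 by norm_num)
      (e.trans (by rw [S.F.b_zero, map_one, mul_one] : (1 : G) = S.F.b 0 * S.F.kap 1))).2
    rw [h', mul_one, mul_inv_cancel, ← rg_zero] at hn
    exact absurd (rg_inj (by norm_num) ck_conj.2.2.2.2.1 hn) (by decide +kernel)
  | l + 2 =>
    rw [h2] at hn
    rw [show toList (repM (l + 2)).1 = rEl idxB from repM_list (k := 2) (by norm_num)] at hfx
    have hm : IsConj z (S.F.b i * S.F.kap σ) ↔
        (act (rEl idxB) (actG n i) = actG n i ∧ zMaskB.testBit (actG n i) = true) :=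
      ⟨fun h => ⟨hfx.mp (hzfix h), (conj_iffB hs hz2 hi hn (hzfix h)).mp h⟩,
        fun h => (conj_iffB hs hz2 hi hn (hfx.mpr h.1)).mpr h.2⟩
    refine ⟨hm.trans (ck_fixB.1 _ hj).symm, ?_⟩
    rw [htt, hm]
    refine ⟨fun ⟨a, b, _⟩ => (ck_fixB.2 _ hj).mpr ⟨hfx.mp a, by simpa [hfx.mp a] using b⟩, fun h => ?_⟩
    obtain ⟨a, b⟩ := (ck_fixB.2 _ hj).mp h
    refine ⟨hfx.mpr a, fun hc => by rw [b] at hc; simp at hc, fun e => ?_⟩
    have h' := (S.F.form_inj hi (show 0 < 2048 by norm_num)
      (e.trans (by rw [S.F.b_zero, map_one, mul_one] : (1 : G) = S.F.b 0 * S.F.kap 1))).2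
    rw [h', mul_one, mul_inv_cancel, ← rg_zero] at hn
    exact absurd (rg_inj (by norm_num) ck_conj.2.2.2.2.2.1 hn) (by decide +kernel)

end CfsgLib.J4Order
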