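import Cfsg.Agent.J4Local.Order.Hex
import Cfsg.Agent.J4Local.Order.Lin

/-!
The classes of the involutions of the 2-core, and the 77 hexads.
-/

set_option autoImplicit false
set_option maxRecDepth 100000

namespace CfsgLib.J4Order

open Cfsg CfsgLib.J4CentT CfsgLib.Golay CfsgLib.Golay.Cert MulAction
open scoped Pointwise

/-- The pair sums in the subgroup of order 128, each with an earlier one and a generator. -/
def tForest : List (ℕ × ℕ × ℕ) :=
  [(18, 0, 0), (419, 0, 0), (1040, 0, 1), (1413, 0, 4), (1459, 0, 5), (1026, 0, 6), (922, 0, 8), (264, 0, 11),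
   (365, 0, 13), (433, 0, 14), (1141, 0, 15), (1767, 1, 4), (65, 1, 8), (541, 1, 11), (640, 1, 13), (318, 1, 15),
   (1731, 2, 4), (1658, 2, 8), (1716, 2, 11), (1612, 2, 13), (234, 2, 15), (1595, 3, 1), (866, 3, 7), (838, 3, 8),
   (36, 3, 14), (1193, 4, 11), (1228, 4, 13), (468, 4, 15), (1504, 5, 8), (1980, 5, 11), (1825, 5, 13), (1183, 5, 15),
   (987, 6, 0), (789, 6, 6), (1355, 7, 12), (1005, 8, 1)]

/-- The pair sums in the subgroup of order 128. -/
def tW : List ℕ := tForest.map fun e => e.1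

/-- The other members of the subgroup of order 128, apart from 0 and the chosen one. -/
def zW : List ℕ := wList.filter fun i => !tW.contains i && i != 0 && i != zIdx

/-- The numbers of all pairs. -/
def pairList : List ℕ := (List.range 24).flatMap fun c => (List.range c).map fun a => pairNo a c

theorem ck_tForest : ∀ i < 36, 0 < i → (tForest.getD i (0, 0, 0)).2.1 < i ∧
    (tForest.getD i (0, 0, 0)).2.2 < stGen.length ∧
    act (stGen.getD (tForest.getD i (0, 0, 0)).2.2 []) (tForest.getD (tForest.getD i (0, 0, 0)).2.1 (0, 0, 0)).1 =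
      (tForest.getD i (0, 0, 0)).1 := by decide +kernel

theorem ck_tW : tForest.length = 36 ∧ tW.Nodup ∧ (∀ i ∈ tW, i ∈ wList) ∧ zW.length = 90 ∧
    ∀ i ∈ wList, (i ∈ tW ↔ i ∈ pairList) := by decide +kernel

theorem mem_pairList {i : ℕ} : i ∈ pairList ↔ ∃ c < 24, ∃ a < c, i = pairNo a c := by
  simp only [pairList, List.mem_flatMap, List.mem_range, List.mem_map]
  constructor
  · rintro ⟨c, hc, a, ha, rfl⟩; exact ⟨c, hc, a, ha, rfl⟩
  · rintro ⟨c, hc, a, ha, rfl⟩; exact ⟨c, hc, a, ha, rfl⟩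

theorem ck_subsets3 : ∀ o1 o2 o3 u0 u1 u2 u3 : Bool,
    (36 + (if o1 then 2160 else 0) + (if o2 then 576 else 0) + (if o3 then 576 else 0)) % 11 = 0 →
    (90 + (if u0 then 720 else 0) + (if u1 then 2160 else 0) + (if u2 then 576 else 0) +
      (if u3 then 576 else 0)) % 11 = 0 →
    (o1 && u1) = false → (o2 && u2) = false → (o3 && u3) = false →
    (o1 = false ∧ o2 = true ∧ o3 = true) ∨
      (o1 = true ∧ o2 = true ∧ o3 = false ∧ u0 = true ∧ u1 = false ∧ u2 = false ∧ u3 = true) ∨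
      (o1 = true ∧ o2 = false ∧ o3 = true ∧ u0 = true ∧ u1 = false ∧ u2 = true ∧ u3 = false) := by
  intro o1 o2 o3 u0 u1 u2 u3
  cases o1 <;> cases o2 <;> cases o3 <;> cases u0 <;> cases u1 <;> cases u2 <;> cases u3 <;> simp

theorem ck_zero_class : (36 + 720) % 11 ≠ 0 ∧ (36 + 720 + 2160) % 11 ≠ 0 ∧ (36 + 720 + 576) % 11 ≠ 0 ∧
    (36 + 720 + 2160 + 576) % 11 ≠ 0 ∧ (36 + 720 + 576 + 576) % 11 ≠ 0 := by decide +kernel

variable {G : Type*} [Group G] [Finite G] {z : G} (S : Setup z)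

theorem stGen_mem_H {g : List ℕ} (hg : g ∈ stGen) : S.F.kap (ofList g) ∈ S.H := S.F.kap_cent (Fr.stGen_fix hg)

theorem conj_mem_E {h x : G} (hh : h ∈ S.H) (hx : x ∈ S.E) : h * x * h⁻¹ ∈ S.E :=
  (Subgroup.mem_normalizer_iff.mp (S.data.cent_norm hh) x).mp hx

theorem b_zero_iff {i : ℕ} (hi : i < 2048) : S.F.b i = 1 ↔ i = 0 :=
  ⟨fun h => S.F.b_inj i hi 0 (by norm_num) (h.trans S.F.b_zero.symm), fun h => h ▸ S.F.b_zero⟩

open Classical in
theorem card_class_eleven (R : G → Prop) (hR : ∀ h ∈ S.H, ∀ x, R x ↔ R (h * x * h⁻¹))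
    (h2 : ∀ x ∈ S.E, R x → x * x = 1 ∧ x ≠ 1 ∧ x ≠ S.w) :
    Nat.card {e : G // e ∈ S.E ∧ R e} = (wList.filter fun i => decide (R (S.F.b i))).length +
      (if R (S.F.b (root 0).2 * S.F.kap (rg (root 0).1)) then 720 else 0) +
      (if R (S.F.b (root 1).2 * S.F.kap (rg (root 1).1)) then 2160 else 0) +
      (if R (S.F.b (root 2).2 * S.F.kap (rg (root 2).1)) then 576 else 0) +
      (if R (S.F.b (root 3).2 * S.F.kap (rg (root 3).1)) then 576 else 0) ∧
    Nat.card {e : G // e ∈ S.E ∧ R e} % 11 = 0 := by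
  haveI : Fintype G := Fintype.ofFinite G
  have hE := S.data
  have hU := S.unique
  obtain ⟨c, hc, hord⟩ := hE.eleven
  let P : ℕ → ℕ → Prop := fun n i => R (S.F.b i * S.F.kap (rg n))
  have hP : Inv P := by
    refine ⟨fun n hn i hi j hj => ?_, fun g hg n hn m hm h i hi => ?_⟩
    · have hx := hR (S.F.b j) (S.F.V_le_cent (S.F.b_mem j hj)) (S.F.b i * S.F.kap (rg n))
      rw [S.F.conj_b _ hi hj, show actG (rg n) j = act (rEl n) j by rw [actG, rg_list hn]] at hx
      exact hx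
    · have hx := hR (S.F.kap (ofList g)) (stGen_mem_H S hg) (S.F.b i * S.F.kap (rg m))
      rw [S.F.conj_kap _ _ hi, rg_conj_of_comp hg hn hm h,
        show actG (ofList g) i = act g i by rw [actG, stGen_ofList hg]] at hx
      exact hx
  set U := Finset.univ.filter fun e : G => e ∈ S.E ∧ R e with hUdef
  have hUn : Nat.card {e : G // e ∈ S.E ∧ R e} = U.card := by
    rw [Nat.card_eq_fintype_card, Fintype.card_subtype]
  set A := ((wList.filter fun i => decide (R (S.F.b i))).map fun i => (0, i)) ++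
    allStates.filter fun x => decide (P x.1 x.2) with hA
  have hAn : A.Nodup := by
    rw [hA, List.nodup_append]
    refine ⟨(ck_wList.1.filter _).map (fun a b e => congrArg Prod.snd e), allStates_spec.1.filter _, ?_⟩
    intro x hx y hy e
    obtain ⟨i, -, rfl⟩ := List.mem_map.mp hx
    have hm : y ∈ allStates.toFinset := List.mem_toFinset.mpr (List.mem_filter.mp hy).1
    rw [allStates_spec.2, ← e] at hm
    exact absurd (mem_target.mp hm).1 (lt_irrefl 0)
  have hmemA : ∀ x ∈ A, x.1 < 64 ∧ x.2 < 2048 ∧ inW x.2 = true ∧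
      R (S.F.b x.2 * S.F.kap (rg x.1)) := by
    intro x hx
    rcases List.mem_append.mp hx with h | h
    · obtain ⟨i, hi, rfl⟩ := List.mem_map.mp h
      obtain ⟨hi1, hi2⟩ := List.mem_filter.mp hi
      exact ⟨by norm_num, inW_lt hi1, (ck_wList.2.2 _ hi1).2,
        by rw [rg_zero, map_one, mul_one]; exact of_decide_eq_true hi2⟩
    · obtain ⟨h1, h3⟩ := List.mem_filter.mp h
      have hm : x ∈ allStates.toFinset := List.mem_toFinset.mpr h1
      rw [allStates_spec.2] at hm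
      obtain ⟨-, hn, hf⟩ := mem_target.mp hm
      exact ⟨hn, inW_lt (List.mem_filter.mp hf).1, (ck_wList.2.2 _ (List.mem_filter.mp hf).1).2,
        of_decide_eq_true h3⟩
  have hUA : U.card = A.length := by
    rw [← List.toFinset_card_of_nodup hAn]
    symm
    refine Finset.card_bij (fun x _ => S.F.b x.2 * S.F.kap (rg x.1)) (fun x hx => ?_) (fun x hx y hy h => ?_)
      (fun e he => ?_)
    · obtain ⟨hn, hi, hw, hr⟩ := hmemA x (List.mem_toFinset.mp hx)
      exact Finset.mem_filter.mpr ⟨Finset.mem_univ _, (hE.mem_iff hU _).mpr ⟨_, hi, hw, _, hn, rfl⟩, hr⟩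
    · obtain ⟨hn, hi, -, -⟩ := hmemA x (List.mem_toFinset.mp hx)
      obtain ⟨hn', hi', -, -⟩ := hmemA y (List.mem_toFinset.mp hy)
      obtain ⟨e1, e2⟩ := S.F.form_inj hi hi' h
      exact Prod.ext (rg_inj hn hn' e2) e1
    · obtain ⟨-, he1, he2⟩ := Finset.mem_filter.mp he
      obtain ⟨i, hi, hw, n, hn, rfl⟩ := (hE.mem_iff hU e).mp he1
      refine ⟨(n, i), List.mem_toFinset.mpr ?_, rfl⟩
      rcases Nat.eq_zero_or_pos n with rfl | h0
      · refine List.mem_append_left _ (List.mem_map.mpr ⟨i, List.mem_filter.mpr ⟨(inW_iff hi).mp hw, ?_⟩, rfl⟩)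
        rw [rg_zero, map_one, mul_one] at he2
        exact decide_eq_true he2
      · refine List.mem_append_right _ (List.mem_filter.mpr ⟨?_, decide_eq_true he2⟩)
        rw [← List.mem_toFinset, allStates_spec.2]
        exact mem_target.mpr ⟨h0, hn, List.mem_filter.mpr ⟨(inW_iff hi).mp hw,
          by simpa using (hE.sq_iff hU hi hn).mp (h2 _ he1 he2).1⟩⟩
  have part : ∀ k, ((cls k).filter fun x => decide (P x.1 x.2)).length =
      if P (root k).1 (root k).2 then (cls k).length else 0 := fun k => by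
    by_cases hk : P (root k).1 (root k).2
    · rw [if_pos hk, List.filter_eq_self.mpr fun x hx => decide_eq_true ((cls_inv hP hx).2.2.2.mpr hk)]
    · rw [if_neg hk, List.length_eq_zero_iff, List.filter_eq_nil_iff]
      exact fun x hx => by simpa using fun h => hk ((cls_inv hP hx).2.2.2.mp h)
  obtain ⟨s0, s1, s2, s3⟩ := ck_sizes
  refine ⟨?_, ?_⟩
  · rw [hUn, hUA, hA, List.length_append, List.length_map, allStates, List.filter_append, List.filter_append,
      List.filter_append, List.length_append, List.length_append, List.length_append, part, part, part, part,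
      s0, s1, s2, s3]
    simp only [P]
    omega
  · rw [hUn]
    have h := conj_mod (hord ▸ pow_orderOf_eq_one c) U fun x hx => by
      obtain ⟨-, h1, h1'⟩ := Finset.mem_filter.mp hx
      exact Finset.mem_filter.mpr ⟨Finset.mem_univ _, conj_mem_E S hc h1, (hR c hc x).mp h1'⟩
    rw [← h, Finset.card_eq_zero.mpr]
    refine Finset.filter_eq_empty_iff.mpr fun {x} hx hcx => ?_
    obtain ⟨-, h1, h1'⟩ := Finset.mem_filter.mp hx
    obtain ⟨hsq, hne, hnw⟩ := h2 x h1 h1'
    rcases hE.fixed_two hU hc hord x h1 hsq hcx with h | h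
    exacts [hne h, hnw h]

/-- The element spanning the orbit of pair type in the 2-core. -/
abbrev Setup.t0 : G := S.F.b 18

/-- Conjugacy under the centraliser to the chosen pair sum. -/
def Setup.InO (x : G) : Prop := ∃ h ∈ S.H, h * S.t0 * h⁻¹ = x

theorem t0_pair : ∃ c < 24, ∃ a < c, 18 = pairNo a c :=
  mem_pairList.mp ((ck_tW.2.2.2.2 18 (ck_tW.2.2.1 18 (by decide +kernel))).mp (by decide +kernel))

theorem t0_not : ¬ IsConj z S.t0 := by
  obtain ⟨c, hc, a, ha, e⟩ := t0_pair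
  show ¬ IsConj z (S.F.b 18)
  rw [e]; exact (S.F.pair_out c hc a ha).1

theorem InO.not_conj {x : G} (hx : S.InO x) : ¬ IsConj z x := by
  obtain ⟨h, -, rfl⟩ := hx
  exact fun hc => t0_not S (hc.trans (isConj_iff.mpr ⟨h, rfl⟩).symm)

theorem InO.invol {x : G} (hx : S.InO x) : x * x = 1 ∧ x ≠ 1 ∧ x ≠ S.w := by
  have hn := InO.not_conj S hx
  obtain ⟨h, hh, rfl⟩ := hx
  refine ⟨?_, fun e => ?_, fun e => hn (e ▸ S.F.zconj)⟩
  · rw [show h * S.t0 * h⁻¹ * (h * S.t0 * h⁻¹) = h * (S.t0 * S.t0) * h⁻¹ by group, S.F.b_sq (by norm_num)]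
    group
  · exact absurd ((b_zero_iff S (by norm_num)).mp (conj_eq_one_iff.mp e)) (show (18 : ℕ) ≠ 0 by norm_num)

theorem inO_conj {h x : G} (hh : h ∈ S.H) : S.InO x ↔ S.InO (h * x * h⁻¹) := by
  constructor
  · rintro ⟨k, hk, rfl⟩; exact ⟨h * k, mul_mem hh hk, by group⟩
  · rintro ⟨k, hk, e⟩
    exact ⟨h⁻¹ * k, mul_mem (inv_mem hh) hk, by
      rw [show h⁻¹ * k * S.t0 * (h⁻¹ * k)⁻¹ = h⁻¹ * (k * S.t0 * k⁻¹) * h by group, e]; group⟩

theorem inO_tW : ∀ i < 36, S.InO (S.F.b (tForest.getD i (0, 0, 0)).1) := by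
  intro i
  induction i using Nat.strongRecOn with | ind i ih => ?_
  intro hi
  rcases Nat.eq_zero_or_pos i with rfl | h0
  · exact ⟨1, one_mem _, by simp [tForest]⟩
  obtain ⟨hp, hg, e⟩ := ck_tForest i hi h0
  obtain ⟨h, hh, eh⟩ := ih _ hp (by omega)
  set g := stGen.getD (tForest.getD i (0, 0, 0)).2.2 [] with hgd
  have hgm : g ∈ stGen := by rw [hgd, List.getD_eq_getElem _ _ hg]; exact List.getElem_mem _
  have hlt : (tForest.getD (tForest.getD i (0, 0, 0)).2.1 (0, 0, 0)).1 < 2048 := by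
    refine inW_lt (ck_tW.2.2.1 _ ?_)
    rw [List.getD_eq_getElem _ _ (by rw [ck_tW.1]; omega)]
    exact List.mem_map.mpr ⟨_, List.getElem_mem _, rfl⟩
  refine ⟨S.F.kap (ofList g) * h, mul_mem (stGen_mem_H S hgm) hh, ?_⟩
  rw [show S.F.kap (ofList g) * h * S.t0 * (S.F.kap (ofList g) * h)⁻¹ =
      S.F.kap (ofList g) * (h * S.t0 * h⁻¹) * (S.F.kap (ofList g))⁻¹ by group, eh, S.F.b_conj _ _ hlt,
    stGen_ofList hgm, e]

theorem inO_W {i : ℕ} (hi : i ∈ wList) : S.InO (S.F.b i) ↔ i ∈ tW := by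
  constructor
  · intro h
    obtain ⟨-, h1, h3⟩ := InO.invol S h
    rcases S.F.cases i (inW_lt hi) (fun e => h1 ((b_zero_iff S (inW_lt hi)).mpr e)) with hz | hp
    · exact absurd hz (InO.not_conj S h)
    · exact (ck_tW.2.2.2.2 i hi).mpr (mem_pairList.mpr hp)
  · intro h
    obtain ⟨e, he, rfl⟩ := List.mem_map.mp h
    obtain ⟨k, hk, rfl⟩ := List.mem_iff_getElem.mp he
    have := inO_tW S k (by rwa [← ck_tW.1])
    rwa [List.getD_eq_getElem _ _ hk] at this

theorem conjz_W {i : ℕ} (hi : i ∈ wList) : IsConj z (S.F.b i) ∧ S.F.b i ≠ S.w ↔ i ∈ zW := by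
  simp only [zW, List.mem_filter, Bool.and_eq_true, Bool.not_eq_true', bne_iff_ne, List.contains_eq_mem,
    decide_eq_false_iff_not]
  constructor
  · rintro ⟨h, hne⟩
    refine ⟨hi, ⟨fun ht => InO.not_conj S ((inO_W S hi).mpr ht) h, fun e => ?_⟩, fun e => hne (by rw [e])⟩
    rw [e, S.F.b_zero] at h
    have hw : S.F.b zIdx = 1 := isConj_one_right.mp (h.symm.trans S.F.zconj)
    exact absurd ((b_zero_iff S ck_zIdx.1).mp hw) (by decide +kernel)
  · rintro ⟨-, ⟨ht, h0⟩, hz⟩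
    refine ⟨?_, fun e => hz (S.F.b_inj i (inW_lt hi) _ ck_zIdx.1 e)⟩
    rcases S.F.cases i (inW_lt hi) h0 with h | h
    · exact h
    · exact absurd ((ck_tW.2.2.2.2 i hi).mpr (mem_pairList.mpr h)) ht

/-- The involutions of the class of `z` other than the chosen one. -/
def Setup.InU (x : G) : Prop := IsConj z x ∧ x * x = 1 ∧ x ≠ S.w

/-- The class of a root. -/
def Setup.rootZ (k : ℕ) : Prop := IsConj z (S.F.b (root k).2 * S.F.kap (rg (root k).1))

/-- The outcome: the classes of the four roots, 77 hexads, and one hexad over each element of the orbit. -/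
structure Setup.SplitFacts : Prop where
  zero : S.rootZ 0
  one : ¬ S.rootZ 1
  two_three : S.rootZ 2 ↔ ¬ S.rootZ 3
  card : Nat.card S.Hex = 77
  unique : ∀ x : G, S.InO x → ∀ ω ν : S.Hex, x ∈ ω.1 → x ∈ ν.1 → ω = ν
  inO : ∀ k < 4, ¬ S.rootZ k → S.InO (S.F.b (root k).2 * S.F.kap (rg (root k).1))

theorem card_fiber_hex (ω : S.Hex) : Nat.card {x : G // S.InO x ∧ x ∈ ω.1} = 36 := by
  obtain ⟨a, rfl⟩ := exists_smul_base S ω
  have e1 : Nat.card {x : G // S.InO x ∧ x ∈ (a • S.base).1} = Nat.card {x : G // S.InO x ∧ x ∈ S.W} := by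
    symm
    refine Nat.card_congr (Equiv.subtypeEquiv (MulAut.conj (a : G)).toEquiv fun x => and_congr (inO_conj S a.2) ?_)
    show x ∈ S.W ↔ (a : G) * x * (a : G)⁻¹ ∈ S.W.map (MulAut.conj (a : G)).toMonoidHom
    rw [mem_conj_map]; simp [mul_assoc]
  rw [e1]
  let f : {i // i ∈ tW.toFinset} → {x : G // S.InO x ∧ x ∈ S.W} := fun i => ⟨S.F.b i.1, by
    have hi := ck_tW.2.2.1 _ (List.mem_toFinset.mp i.2)
    exact ⟨(inO_W S hi).mpr (List.mem_toFinset.mp i.2),
      (S.data.b_mem_iff S.unique (inW_lt hi)).mpr (ck_wList.2.2 _ hi).2, S.F.b_mem _ (inW_lt hi)⟩⟩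
  have hf : Function.Bijective f := by
    refine ⟨fun i j e => Subtype.ext (S.F.b_inj _ (inW_lt (ck_tW.2.2.1 _ (List.mem_toFinset.mp i.2))) _
      (inW_lt (ck_tW.2.2.1 _ (List.mem_toFinset.mp j.2))) (congrArg Subtype.val e)), fun x => ?_⟩
    obtain ⟨x, hx, hxE, hxV⟩ := x
    obtain ⟨i, hi, rfl⟩ := S.F.b_surj x hxV
    have hw := (inW_iff hi).mp ((S.data.b_mem_iff S.unique hi).mp hxE)
    exact ⟨⟨i, List.mem_toFinset.mpr ((inO_W S hw).mp hx)⟩, rfl⟩
  rw [← Nat.card_congr (Equiv.ofBijective f hf), Nat.card_eq_fintype_card, Fintype.card_coe,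
    List.toFinset_card_of_nodup ck_tW.2.1, tW, List.length_map, ck_tW.1]

theorem inO_mem_E {x : G} (hx : S.InO x) : x ∈ S.E := by
  obtain ⟨h, hh, rfl⟩ := hx
  refine conj_mem_E S hh ((S.data.b_mem_iff S.unique (by norm_num)).mpr ?_)
  decide +kernel

/-- Double counting of hexads against the orbit. -/
theorem incidence : ∃ k, 0 < k ∧ Nat.card S.Hex * 36 = Nat.card {x : G // x ∈ S.E ∧ S.InO x} * k ∧
    (k = 1 → ∀ x : G, S.InO x → ∀ ω ν : S.Hex, x ∈ ω.1 → x ∈ ν.1 → ω = ν) := by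
  have hfib : ∀ x, S.InO x → Nat.card {ω : S.Hex // x ∈ ω.1} = Nat.card {ω : S.Hex // S.t0 ∈ ω.1} := by
    rintro x ⟨h, hh, rfl⟩
    symm
    refine Nat.card_congr (Equiv.subtypeEquiv (MulAction.toPerm (⟨h, hh⟩ : ↥S.H)) fun ω => ?_)
    show S.t0 ∈ ω.1 ↔ h * S.t0 * h⁻¹ ∈ ω.1.map (MulAut.conj h).toMonoidHom
    rw [mem_conj_map]; simp [mul_assoc]
  set k := Nat.card {ω : S.Hex // S.t0 ∈ ω.1} with hk
  have hpos : 0 < k := by
    refine Nat.card_pos_iff.mpr ⟨⟨S.base, ?_, S.F.b_mem _ (by norm_num)⟩, inferInstance⟩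
    exact inO_mem_E S ⟨1, one_mem _, by simp⟩
  refine ⟨k, hpos, ?_, fun h1 x hx ω ν hω hν => ?_⟩
  · haveI := Fintype.ofFinite S.Hex
    haveI := Fintype.ofFinite {x : G // x ∈ S.E ∧ S.InO x}
    let e : (Σ ω : S.Hex, {x : G // S.InO x ∧ x ∈ ω.1}) ≃
        Σ x : {x : G // x ∈ S.E ∧ S.InO x}, {ω : S.Hex // x.1 ∈ ω.1} :=
      { toFun := fun p => ⟨⟨p.2.1, inO_mem_E S p.2.2.1, p.2.2.1⟩, p.1, p.2.2.2⟩
        invFun := fun p => ⟨p.2.1, p.1.1, p.1.2.2, p.2.2⟩
        left_inv := fun _ => rfl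
        right_inv := fun _ => rfl }
    have := Nat.card_congr e
    rw [Nat.card_sigma, Nat.card_sigma, Finset.sum_congr rfl (fun ω _ => card_fiber_hex S ω),
      Finset.sum_congr rfl (fun x _ => hfib _ x.2.2), Finset.sum_const, Finset.sum_const, smul_eq_mul,
      smul_eq_mul, Finset.card_univ, Finset.card_univ, ← Nat.card_eq_fintype_card, ← Nat.card_eq_fintype_card] at this
    exact this
  · haveI : Subsingleton {ω : S.Hex // x ∈ ω.1} :=
      (Nat.card_eq_one_iff_unique.mp ((hfib x hx).trans h1)).1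
    exact congrArg Subtype.val (Subsingleton.elim (⟨ω, hω⟩ : {ω : S.Hex // x ∈ ω.1}) ⟨ν, hν⟩)

open Classical in
theorem split (hH : Nat.card ↥S.H = 21799895040) : S.SplitFacts := by
  have hw0 : S.w ≠ 1 := fun e => absurd ((b_zero_iff S ck_zIdx.1).mp e) (by decide +kernel)
  have hzne : z ≠ 1 := fun e => hw0 (isConj_one_right.mp ((isConj_iff.mpr ⟨1, by simp [e]⟩ : IsConj 1 z).trans S.F.zconj))
  have hU1 : ∀ h ∈ S.H, ∀ x, S.InU x ↔ S.InU (h * x * h⁻¹) := by
    intro h hh x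
    have hc : IsConj x (h * x * h⁻¹) := isConj_iff.mpr ⟨h, rfl⟩
    have hwc : h * S.w * h⁻¹ = S.w :=
      mul_inv_eq_iff_eq_mul.mpr (Subgroup.mem_centralizer_singleton_iff.mp hh)
    constructor
    · rintro ⟨h1, h2, h3⟩
      refine ⟨h1.trans hc, by rw [show h * x * h⁻¹ * (h * x * h⁻¹) = h * (x * x) * h⁻¹ by group, h2]; group,
        fun e => h3 ?_⟩
      exact mul_left_cancel (mul_right_cancel (e.trans hwc.symm))
    · rintro ⟨h1, h2, h3⟩
      refine ⟨h1.trans hc.symm, ?_, fun e => h3 (by rw [e, hwc])⟩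
      rw [show h * x * h⁻¹ * (h * x * h⁻¹) = h * (x * x) * h⁻¹ by group, conj_eq_one_iff] at h2
      exact h2
  obtain ⟨oc, om⟩ := card_class_eleven S S.InO (fun h hh x => inO_conj S hh) fun x _ hx => InO.invol S hx
  obtain ⟨uc, um⟩ := card_class_eleven S S.InU hU1 fun x _ hx =>
    ⟨hx.2.1, fun e => hzne (isConj_one_left.mp (e ▸ hx.1)), hx.2.2⟩
  have hlo : (wList.filter fun i => decide (S.InO (S.F.b i))).length = 36 := by
    have e : (wList.filter fun i => decide (S.InO (S.F.b i))).toFinset = tW.toFinset := by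
      ext i
      simp only [List.mem_toFinset, List.mem_filter, decide_eq_true_eq]
      exact ⟨fun h => (inO_W S h.1).mp h.2,
        fun h => ⟨ck_tW.2.2.1 i h, (inO_W S (ck_tW.2.2.1 i h)).mpr h⟩⟩
    have := congrArg Finset.card e
    rw [List.toFinset_card_of_nodup (ck_wList.1.filter _), List.toFinset_card_of_nodup ck_tW.2.1] at this
    rw [this, tW, List.length_map, ck_tW.1]
  have hlu : (wList.filter fun i => decide (S.InU (S.F.b i))).length = 90 := by
    have e : (wList.filter fun i => decide (S.InU (S.F.b i))).toFinset = zW.toFinset := by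
      ext i
      simp only [List.mem_toFinset, List.mem_filter, decide_eq_true_eq]
      refine ⟨fun h => (conjz_W S h.1).mp ⟨h.2.1, h.2.2.2⟩, fun h => ?_⟩
      have hi : i ∈ wList := List.mem_of_mem_filter h
      obtain ⟨a, b⟩ := (conjz_W S hi).mpr h
      exact ⟨hi, a, S.F.b_sq (inW_lt hi), b⟩
    have := congrArg Finset.card e
    rw [List.toFinset_card_of_nodup (ck_wList.1.filter _),
      List.toFinset_card_of_nodup (show zW.Nodup from ck_wList.1.filter _)] at this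
    rw [this, ck_tW.2.2.2.1]
  have hroot : ∀ k < 4, S.InU (S.F.b (root k).2 * S.F.kap (rg (root k).1)) ↔ S.rootZ k := by
    intro k hk
    refine ⟨fun h => h.1, fun h => ⟨h, ?_, fun e => ?_⟩⟩
    · obtain ⟨s, hs⟩ : ∃ s, s ∈ cls k := by
        have hh := ck_sizes
        refine List.exists_mem_of_ne_nil _ fun e => ?_
        interval_cases k <;> simp_all
      have hz2 : ∀ x : G, IsConj z x → x * x = 1 := fun x hx => by
        obtain ⟨g, hg⟩ := isConj_iff.mp (S.F.zconj.symm.trans hx)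
        rw [← hg, show g * S.w * g⁻¹ * (g * S.w * g⁻¹) = g * (S.w * S.w) * g⁻¹ by group, S.F.b_sq ck_zIdx.1]
        group
      exact hz2 _ h
    · have hr := ck_roots.2.1 k hk
      have h1 : rg (root k).1 = 1 := (S.F.form_inj (root_lt k hk) ck_zIdx.1
        (e.trans (by rw [map_one, mul_one]))).2
      exact absurd (rg_inj hr.2 (by norm_num) (h1.trans rg_zero.symm)) hr.1.ne'
  have hdis : ∀ k, ¬ (S.InO (S.F.b (root k).2 * S.F.kap (rg (root k).1)) ∧
      S.InU (S.F.b (root k).2 * S.F.kap (rg (root k).1))) := fun k h => InO.not_conj S h.1 h.2.1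
  rw [hlo] at oc
  rw [hlu] at uc
  set o0 := S.InO (S.F.b (root 0).2 * S.F.kap (rg (root 0).1)) with ho0
  set o1 := S.InO (S.F.b (root 1).2 * S.F.kap (rg (root 1).1)) with ho1
  set o2 := S.InO (S.F.b (root 2).2 * S.F.kap (rg (root 2).1)) with ho2
  set o3 := S.InO (S.F.b (root 3).2 * S.F.kap (rg (root 3).1)) with ho3
  simp only [hroot 0 (by norm_num), hroot 1 (by norm_num), hroot 2 (by norm_num), hroot 3 (by norm_num)] at uc hdis
  -- the orbit does not meet the first class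
  rw [oc] at om
  rw [uc] at um
  have hk1 : ¬ (o1 ∧ S.rootZ 1) := fun h => InO.not_conj S (ho1 ▸ h.1) h.2
  have hk2 : ¬ (o2 ∧ S.rootZ 2) := fun h => InO.not_conj S (ho2 ▸ h.1) h.2
  have hk3 : ¬ (o3 ∧ S.rootZ 3) := fun h => InO.not_conj S (ho3 ▸ h.1) h.2
  have ho0' : ¬ o0 := by
    intro h0
    rw [if_pos h0] at om
    by_cases a : o1 <;> by_cases b : o2 <;> by_cases c : o3 <;> simp [a, b, c] at om
  rw [if_neg ho0', Nat.add_zero] at om oc
  rcases ck_subsets3 (decide o1) (decide o2) (decide o3) (decide (S.rootZ 0)) (decide (S.rootZ 1))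
    (decide (S.rootZ 2)) (decide (S.rootZ 3)) (by simpa only [decide_eq_true_eq] using om)
    (by simpa only [decide_eq_true_eq] using um) (by simpa using fun a b => hk1 ⟨a, b⟩)
    (by simpa using fun a b => hk2 ⟨a, b⟩) (by simpa using fun a b => hk3 ⟨a, b⟩) with hC | hA | hB
  all_goals
    obtain ⟨k, hk, hinc, huni⟩ := incidence S
    have hdvd := card_hex_dvd S hH
    have hle : Nat.card S.Hex ≤ 77 := Nat.le_of_dvd (by norm_num) hdvd
  · obtain ⟨a1, a2, a3⟩ := hC
    rw [oc] at hinc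
    simp only [decide_eq_true_eq, decide_eq_false_iff_not] at a1 a2 a3
    rw [if_neg a1, if_pos a2, if_pos a3] at hinc
    exfalso
    generalize Nat.card S.Hex = N at hinc hdvd hle
    have h33 : 33 ∣ N := ⟨k, by omega⟩
    have : 33 ∣ 77 := h33.trans hdvd
    omega
  · obtain ⟨a1, a2, a3, b0, b1, b2, b3⟩ := hA
    simp only [decide_eq_true_eq, decide_eq_false_iff_not] at a1 a2 a3 b0 b1 b2 b3
    rw [oc, if_pos a1, if_pos a2, if_neg a3] at hinc
    refine ⟨b0, b1, iff_of_false b2 (not_not_intro b3), by omega, huni (by omega), fun j hj hn => ?_⟩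
    interval_cases j
    exacts [absurd b0 hn, a1, a2, absurd b3 hn]
  · obtain ⟨a1, a2, a3, b0, b1, b2, b3⟩ := hB
    simp only [decide_eq_true_eq, decide_eq_false_iff_not] at a1 a2 a3 b0 b1 b2 b3
    rw [oc, if_pos a1, if_neg a2, if_pos a3] at hinc
    refine ⟨b0, b1, iff_of_true b2 b3, by omega, huni (by omega), fun j hj hn => ?_⟩
    interval_cases j
    exacts [absurd b0 hn, a1, absurd b2 hn, a3]

end CfsgLib.J4Order
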