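import Cfsg.Agent.J4Local.Order.Move
import Cfsg.Agent.J4Local.Order.Split
import Cfsg.Agent.J4Local.Order.HexData

/-!
The permutation of the 77 hexads given by an element of the normaliser, packed in one number.
-/

set_option autoImplicit false
set_option maxRecDepth 100000

namespace CfsgLib.J4Order

open Cfsg CfsgLib.J4CentT CfsgLib.Golay CfsgLib.Golay.Cert MulAction

/-- An entry of a packed permutation. -/
def pget (P k : ℕ) : ℕ := Nat.land (Nat.shiftRight P (8 * k)) 255

/-- The codes of the generators of a hexad. -/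
def hexGens (k : ℕ) : List ℕ := ((hexTab.getD k (0, 0, [])).2.2).map fun e => 128 * e.1 + e.2 / 16

/-- All products of subsets, in order. -/
def spanList : List ℕ → List ℕ
  | [] => [0]
  | g :: gs => (spanList gs).map (fun c => cmul g c) ++ spanList gs

/-- The set of a list of codes as a mask. -/
def maskList (l : List ℕ) : ℕ := l.foldl (fun m c => Nat.lor m (Nat.shiftLeft 1 c)) 0

/-- Check of a packed permutation against a table of images. -/
def permOK (tab : List ℕ) (P : ℕ) : Bool :=
  (List.range 77).all fun k => decide (pget P k < 77) &&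
    (hexGens k).all fun c => Nat.testBit (hexMasks.getD (pget P k) 0) (mvImg tab c)

theorem ck_hexSpan : ∀ k < 77, maskList (spanList (hexGens k)) = hexMasks.getD k 0 ∧
    (hexGens k).all (fun c => decide (c < 8192)) = true := by decide +kernel

theorem testBit_maskList {l : List ℕ} {c : ℕ} : (maskList l).testBit c = true ↔ c ∈ l := by
  suffices h : ∀ m, (l.foldl (fun m c => Nat.lor m (Nat.shiftLeft 1 c)) m).testBit c = true ↔
      m.testBit c = true ∨ c ∈ l by
    rw [maskList, h]; simp
  induction l with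
  | nil => simp
  | cons a l ih =>
    intro m
    rw [List.foldl_cons, ih]
    rw [show Nat.lor m (Nat.shiftLeft 1 a) = m ||| 2 ^ a by rw [← Nat.one_shiftLeft]; rfl, Nat.testBit_or,
      Bool.or_eq_true, Nat.testBit_two_pow, decide_eq_true_eq, List.mem_cons]
    constructor
    · rintro ((h | rfl) | h) <;> simp_all
    · rintro (h | rfl | h) <;> simp_all

variable {G : Type*} [Group G] [Finite G] {z : G} (S : Setup z)

theorem el_mem_span {A : Subgroup G} : ∀ gs : List ℕ, (∀ g ∈ gs, g < 8192 ∧ S.el g ∈ A) →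
    ∀ c ∈ spanList gs, c < 8192 ∧ S.el c ∈ A := by
  intro gs
  induction gs with
  | nil =>
    intro _ c hc
    rw [spanList, List.mem_singleton] at hc
    subst hc
    exact ⟨by norm_num, by rw [el_zero]; exact one_mem A⟩
  | cons g gs ih =>
    intro h c hc
    have hg := h g List.mem_cons_self
    have ih' := ih fun x hx => h x (List.mem_cons_of_mem _ hx)
    rcases List.mem_append.mp hc with hc | hc
    · obtain ⟨d, hd, rfl⟩ := List.mem_map.mp hc
      exact ⟨cmul_lt hg.1 (ih' d hd).1, by rw [← el_mul S hg.1 (ih' d hd).1]; exact mul_mem hg.2 (ih' d hd).2⟩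
    · exact ih' c hc

/-- The hexads in the order of the tables. -/
def Setup.IsEnum (e : Fin 77 ≃ S.Hex) : Prop :=
  ∀ k : Fin 77, ∀ c < 8192, (S.el c ∈ (e k).1 ↔ (hexMasks.getD k 0).testBit c = true)

theorem hex_sub_E (ω : S.Hex) : ω.1 ≤ S.E := by
  obtain ⟨h, hh, e⟩ := ω.2
  rw [e]
  rintro _ ⟨x, hx, rfl⟩
  exact conj_mem_E S hh hx.1

theorem card_hexad (ω : S.Hex) : Nat.card ↥ω.1 = 128 := by
  obtain ⟨h, -, e⟩ := ω.2
  rw [e, Subgroup.card_map_of_injective (MulAut.conj h).injective]
  exact S.data.card_inter S.unique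

variable {S}

theorem perm_smul {e : Fin 77 ≃ S.Hex} (he : S.IsEnum e) {i : ℕ} {L tab : List ℕ} (hm : mvOK i L tab = true)
    {P : ℕ} (hP : permOK tab P = true) {d : ↥S.H} (hd : (d : G) = S.F.b i * S.F.kap (ofList L)) (k : Fin 77) :
    ∃ h : pget P k < 77, d • e k = e ⟨pget P k, h⟩ := by
  simp only [permOK, List.all_eq_true, List.mem_range, Bool.and_eq_true, decide_eq_true_eq] at hP
  obtain ⟨h, himg⟩ := hP k k.2
  obtain ⟨hspan, hlt⟩ := ck_hexSpan k k.2
  simp only [List.all_eq_true, decide_eq_true_eq] at hlt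
  refine ⟨h, Subtype.ext (Subgroup.eq_of_le_of_card_ge ?_ (by rw [card_hexad, card_hexad]))⟩
  intro x hx
  rw [smul_val, mem_conj_map] at hx
  obtain ⟨c, hc, ec⟩ := (mem_E_iff_el S).mp (hex_sub_E S _ hx)
  rw [ec] at hx
  have hcm := (he k c hc).mp hx
  rw [← hspan, testBit_maskList] at hcm
  have key := el_mem_span S (A := ((e ⟨pget P k, h⟩).1).comap (MulAut.conj (d : G)).toMonoidHom) (hexGens k)
    (fun g hg => ⟨hlt g hg, by
      obtain ⟨h1, h2⟩ := conj_el S hm (hlt g hg)
      rw [Subgroup.mem_comap, MulEquiv.coe_toMonoidHom, MulAut.conj_apply, hd, h2]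
      exact (he ⟨pget P k, h⟩ _ h1).mpr (himg g hg)⟩) c hcm
  have hk := key.2
  rw [Subgroup.mem_comap, MulEquiv.coe_toMonoidHom, MulAut.conj_apply, ← ec] at hk
  simpa [mul_assoc] using hk

theorem perm_fixes {e : Fin 77 ≃ S.Hex} (he : S.IsEnum e) {i : ℕ} {L tab : List ℕ} (hm : mvOK i L tab = true)
    {P : ℕ} (hP : permOK tab P = true) (hd : S.F.b i * S.F.kap (ofList L) ∈ S.H) (k : Fin 77) :
    S.Fixes (S.F.b i * S.F.kap (ofList L)) (e k) ↔ pget P k = k := by
  obtain ⟨h, hk⟩ := perm_smul he hm hP (d := ⟨_, hd⟩) rfl k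
  rw [← smul_eq_iff S ⟨_, hd⟩, hk, e.injective.eq_iff, Fin.ext_iff]

end CfsgLib.J4Order
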