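import Cfsg.Agent.J4Local.CentT.Ops

/-!
Powers in the normaliser: when a sum lies among the powers of an element.
-/

set_option autoImplicit false

namespace CfsgLib.J4Order

open Cfsg CfsgLib.Golay CfsgLib.Golay.Cert CfsgLib.J4CentT MulAction
open scoped Pointwise

/-- The sum of the images of `a` under the first `m` powers of `σ`. -/
def Nsum (σ : M24) : ℕ → ℕ → ℕ
  | 0, _ => 0
  | m + 1, a => Nat.xor a (actG σ (Nsum σ m a))

theorem Nsum_lt (σ : M24) {a : ℕ} (ha : a < 2048) : ∀ m, Nsum σ m a < 2048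
  | 0 => by norm_num [Nsum]
  | _ + 1 => xor_lt ha (act_lt _ _)

/-- The same sum on position lists. -/
def NsumL (L : List ℕ) : ℕ → ℕ → ℕ
  | 0, _ => 0
  | m + 1, a => Nat.xor a (act L (NsumL L m a))

theorem Nsum_eq (σ : M24) : ∀ m a, Nsum σ m a = NsumL (toList σ.1) m a
  | 0, _ => rfl
  | m + 1, a => by rw [Nsum, NsumL, Nsum_eq σ m a]

variable {G : Type*} [Group G] [Finite G] {z : G} (F : Fr z)

theorem pow_form (σ : M24) {a : ℕ} (ha : a < 2048) :
    ∀ m : ℕ, (F.b a * F.kap σ) ^ m = F.b (Nsum σ m a) * F.kap (σ ^ m)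
  | 0 => by rw [pow_zero, pow_zero, map_one, Nsum, F.b_zero, one_mul]
  | m + 1 => by
    rw [pow_succ', pow_form σ ha m, F.mul_form σ _ ha (Nsum_lt σ ha m), ← pow_succ']
    rfl

/-- A non-trivial sum lies among the powers of an element exactly when it is the power whose exponent
is the order of the permutation part. -/
theorem mem_zpowers_iff (σ : M24) {a c m : ℕ} (ha : a < 2048) (hc : c < 2048) (hc0 : c ≠ 0)
    (hm : orderOf σ = m) :
    F.b c ∈ Subgroup.zpowers (F.b a * F.kap σ) ↔ Nsum σ m a = c := by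
  have hN := Nsum_lt σ ha m
  have hpow : (F.b a * F.kap σ) ^ m = F.b (Nsum σ m a) := by
    rw [pow_form F σ ha, ← hm, pow_orderOf_eq_one, map_one, mul_one]
  constructor
  · intro h
    obtain ⟨k, hk⟩ := Submonoid.mem_powers_iff _ _ |>.mp (mem_powers_iff_mem_zpowers.2 h)
    have hform : F.b (Nsum σ k a) * F.kap (σ ^ k) = F.b c * F.kap 1 := by
      rw [← pow_form F σ ha, map_one, mul_one]; exact hk
    have hdvd : m ∣ k := hm ▸ orderOf_dvd_of_pow_eq_one (F.form_inj (Nsum_lt σ ha k) hc hform).2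
    obtain ⟨q, rfl⟩ := hdvd
    rw [pow_mul, hpow] at hk
    have hsq : F.b (Nsum σ m a) * F.b (Nsum σ m a) = 1 := F.b_sq hN
    rcases Nat.even_or_odd q with ⟨d, rfl⟩ | ⟨d, rfl⟩
    · exfalso
      rw [← two_mul, pow_mul, pow_two, hsq, one_pow] at hk
      exact hc0 (F.b_inj c hc 0 (by norm_num) (by rw [F.b_zero]; exact hk.symm))
    · rw [pow_succ, pow_mul, pow_two, hsq, one_pow, one_mul] at hk
      exact F.b_inj _ hN _ hc hk
  · intro h
    rw [← h, ← hpow]
    exact Subgroup.npow_mem_zpowers _ _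

/-- The version for a product of two elements. -/
theorem pair_zpowers_iff (σ τ : M24) {i j c m : ℕ} (hi : i < 2048) (hj : j < 2048) (hc : c < 2048)
    (hc0 : c ≠ 0) (hm : orderOf (σ * τ) = m) :
    F.b c ∈ Subgroup.zpowers (F.b i * F.kap σ * (F.b j * F.kap τ)) ↔
      Nsum (σ * τ) m (Nat.xor i (actG σ j)) = c := by
  rw [F.mul_form σ τ hi hj]
  exact mem_zpowers_iff F (σ * τ) (xor_lt hi (act_lt _ _)) hc hc0 hm

end CfsgLib.J4Order
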