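import Cfsg.Agent.J4Local.Order.Split

/-!
Weighting: pairs in the centraliser against pairs fixing the base hexad.
-/

set_option autoImplicit false
set_option maxRecDepth 100000

namespace CfsgLib.J4Order

open Cfsg CfsgLib.J4CentT CfsgLib.Golay CfsgLib.Golay.Cert MulAction
open scoped Pointwise

variable {G : Type*} [Group G] [Finite G] {z : G} {S : Setup z}

theorem good_conj {h : G} (hh : h ∈ S.H) (q : G × G) :
    S.Good (h * q.1 * h⁻¹, h * q.2 * h⁻¹) ↔ S.Good q := by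
  have hw : MulAut.conj h S.w = S.w :=
    mul_inv_eq_iff_eq_mul.mpr (Subgroup.mem_centralizer_singleton_iff.mp hh)
  have hc : ∀ x : G, IsConj z (h * x * h⁻¹) ↔ IsConj z x := fun x =>
    ⟨fun e => e.trans (isConj_iff.mpr ⟨h, rfl⟩).symm, fun e => e.trans (isConj_iff.mpr ⟨h, rfl⟩)⟩
  have ho : orderOf (h * q.2 * h⁻¹) = orderOf q.2 := MulEquiv.orderOf_eq (MulAut.conj h) q.2
  have hz : S.w ∈ Subgroup.zpowers (h * q.1 * h⁻¹ * (h * q.2 * h⁻¹)) ↔ S.w ∈ Subgroup.zpowers (q.1 * q.2) := by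
    rw [show h * q.1 * h⁻¹ * (h * q.2 * h⁻¹) = MulAut.conj h (q.1 * q.2) by simp only [MulAut.conj_apply]; group]
    conv_lhs => rw [← hw]
    constructor
    · rintro ⟨k, hk⟩
      exact ⟨k, (MulAut.conj h).injective (by rw [map_zpow]; exact hk)⟩
    · rintro ⟨k, hk⟩
      exact ⟨k, by show MulAut.conj h (q.1 * q.2) ^ k = _; rw [← map_zpow]; exact congrArg _ hk⟩
  exact and_congr (hc _) (and_congr (by rw [ho]) (and_congr (not_congr (hc _)) hz))

theorem mem_H0_of_fixes (hs : S.SplitFacts) (hH : Nat.card ↥S.H = 21799895040) {d : G} (hd : d ∈ S.H)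
    (hf : S.Fixes d S.base) : d ∈ S.H0 := by
  have hi := MulAction.index_stabilizer_of_transitive ↥S.H S.base
  rw [hs.card] at hi
  have h1 := (stabilizer ↥S.H S.base).card_mul_index
  rw [hi, hH] at h1
  have hle : S.H0.subgroupOf S.H ≤ stabilizer ↥S.H S.base := fun a ha =>
    mem_stabilizer_iff.mpr ((smul_eq_iff S a _).mpr (H0_fixes S (Subgroup.mem_subgroupOf.mp ha)))
  have e := Subgroup.eq_of_le_of_card_ge hle (by
    rw [Nat.card_congr (Subgroup.subgroupOfEquivOfLe (inf_le_left : S.H0 ≤ S.H)).toEquiv, card_H0]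
    omega)
  have hm : (⟨d, hd⟩ : ↥S.H) ∈ stabilizer ↥S.H S.base := mem_stabilizer_iff.mpr ((smul_eq_iff S ⟨d, hd⟩ _).mpr hf)
  rw [← e] at hm
  exact Subgroup.mem_subgroupOf.mp hm

theorem mem_H_of_good {u v : G} (h : S.Good (u, v)) : u ∈ S.H ∧ v ∈ S.H := by
  obtain ⟨hu, hv, -, hw⟩ := h
  change IsConj z u at hu
  change orderOf v = 2 at hv
  change S.w ∈ Subgroup.zpowers (u * v) at hw
  have hu2 : u * u = 1 := by
    obtain ⟨g, hg⟩ := isConj_iff.mp (S.F.zconj.symm.trans hu)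
    rw [← hg, show g * S.w * g⁻¹ * (g * S.w * g⁻¹) = g * (S.w * S.w) * g⁻¹ by group, S.F.b_sq ck_zIdx.1]
    group
  have hv2 : v * v = 1 := by rw [← pow_two, ← hv]; exact pow_orderOf_eq_one v
  obtain ⟨k, hk⟩ := hw
  have hk' : (u * v) ^ k = S.w := hk
  have hw2 : S.w⁻¹ = S.w := inv_eq_of_mul_eq_one_right (S.F.b_sq ck_zIdx.1)
  have hui : u⁻¹ = u := inv_eq_of_mul_eq_one_right hu2
  have hvi : v⁻¹ = v := inv_eq_of_mul_eq_one_right hv2
  have e1 : u * S.w * u⁻¹ = S.w := by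
    conv_rhs => rw [← hw2, ← hk', ← inv_zpow]
    rw [← hk', ← MulAut.conj_apply, map_zpow, MulAut.conj_apply]
    congr 1
    rw [mul_inv_rev, hui, hvi, show u * (u * v) * u = (u * u) * (v * u) by group, hu2, one_mul]
  have hU : u ∈ S.H := Subgroup.mem_centralizer_singleton_iff.mpr (mul_inv_eq_iff_eq_mul.mp e1)
  refine ⟨hU, ?_⟩
  have huv : u * v ∈ S.H := Subgroup.mem_centralizer_singleton_iff.mpr (by
    have : Commute (u * v) S.w := by rw [← hk']; exact Commute.self_zpow _ _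
    exact this.eq)
  have := mul_mem hU huv
  rwa [← mul_assoc, hu2, one_mul] at this

/-- Good pairs fixing exactly `f` hexads, against those among them fixing the base. -/
theorem fix_mul_card (hs : S.SplitFacts) (f : ℕ) :
    f * Nat.card {q : G × G // S.Good q ∧ S.fix q.1 q.2 = f} =
      77 * Nat.card {q : G × G // S.Good q ∧ S.fix q.1 q.2 = f ∧ S.Fixes q.1 S.base ∧ S.Fixes q.2 S.base} := by
  classical
  let X := {q : G × G // S.Good q ∧ S.fix q.1 q.2 = f}
  haveI := Fintype.ofFinite S.Hex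
  haveI := Fintype.ofFinite X
  let e : (Σ q : X, {ω : S.Hex // S.Fixes q.1.1 ω ∧ S.Fixes q.1.2 ω}) ≃
      Σ ω : S.Hex, {q : G × G // S.Good q ∧ S.fix q.1 q.2 = f ∧ S.Fixes q.1 ω ∧ S.Fixes q.2 ω} :=
    { toFun := fun p => ⟨p.2.1, p.1.1, p.1.2.1, p.1.2.2, p.2.2⟩
      invFun := fun p => ⟨⟨p.2.1, p.2.2.1, p.2.2.2.1⟩, p.1, p.2.2.2.2⟩
      left_inv := fun _ => rfl
      right_inv := fun _ => rfl }
  have hfib : ∀ ω : S.Hex,
      Nat.card {q : G × G // S.Good q ∧ S.fix q.1 q.2 = f ∧ S.Fixes q.1 ω ∧ S.Fixes q.2 ω} =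
      Nat.card {q : G × G // S.Good q ∧ S.fix q.1 q.2 = f ∧ S.Fixes q.1 S.base ∧ S.Fixes q.2 S.base} := by
    intro ω
    obtain ⟨a, rfl⟩ := exists_smul_base S ω
    symm
    refine Nat.card_congr (Equiv.subtypeEquiv ((MulAut.conj (a : G)).toEquiv.prodCongr (MulAut.conj (a : G)).toEquiv)
      fun q => ?_)
    have key : ∀ d : G, S.Fixes d S.base ↔ S.Fixes ((a : G) * d * (a : G)⁻¹) (a • S.base) := by
      intro d
      simp only [Setup.Fixes, Subgroup.mem_normalizer_iff, smul_val, mem_conj_map]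
      constructor
      · intro H x
        have := H ((a : G)⁻¹ * x * a)
        simpa [mul_assoc] using this
      · intro H x
        have := H ((a : G) * x * (a : G)⁻¹)
        simpa [mul_assoc] using this
    show _ ↔ S.Good ((a : G) * q.1 * (a : G)⁻¹, (a : G) * q.2 * (a : G)⁻¹) ∧
      S.fix ((a : G) * q.1 * (a : G)⁻¹) ((a : G) * q.2 * (a : G)⁻¹) = f ∧ _ ∧ _
    rw [good_conj a.2, fix_conj S a.2]
    exact and_congr Iff.rfl (and_congr Iff.rfl (and_congr (key _) (key _)))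
  have h := Nat.card_congr e
  rw [Nat.card_sigma, Nat.card_sigma, Finset.sum_congr rfl (fun ω _ => hfib ω), Finset.sum_const, smul_eq_mul,
    Finset.card_univ, ← Nat.card_eq_fintype_card, hs.card] at h
  rw [← h, Finset.sum_congr rfl (fun (q : X) _ => show Nat.card {ω : S.Hex // S.Fixes q.1.1 ω ∧ S.Fixes q.1.2 ω} = f
    from q.2.2), Finset.sum_const, smul_eq_mul, Finset.card_univ, ← Nat.card_eq_fintype_card, mul_comm]

end CfsgLib.J4Order
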