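import Cfsg.Agent.J4Local.Order.ZDefs

/-!
Elements acting on the hexads by packed permutations.
-/

set_option autoImplicit false
set_option maxRecDepth 100000

namespace CfsgLib.J4Order

open Cfsg CfsgLib.J4CentT CfsgLib.Golay CfsgLib.Golay.Cert MulAction

variable {G : Type*} [Group G] [Finite G] {z : G} {S : Setup z}

/-- The element acts on the numbered hexads by the packed permutation. -/
def Setup.Acts (S : Setup z) (e : Fin 77 ≃ S.Hex) (d : G) (P : ℕ) : Prop :=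
  ∃ hd : d ∈ S.H, ∀ k : Fin 77, ∃ h : pget P k < 77, (⟨d, hd⟩ : ↥S.H) • e k = e ⟨pget P k, h⟩

variable {e : Fin 77 ≃ S.Hex}

theorem Acts.fixes {d : G} {P : ℕ} (h : S.Acts e d P) (k : Fin 77) : S.Fixes d (e k) ↔ pget P k = k := by
  obtain ⟨hd, hk⟩ := h
  obtain ⟨hlt, hk⟩ := hk k
  rw [← smul_eq_iff S ⟨d, hd⟩, hk, e.injective.eq_iff, Fin.ext_iff]

theorem Acts.mul {d d' : G} {P Q R : ℕ} (h : S.Acts e d P) (h' : S.Acts e d' Q)
    (hR : ∀ k < 77, pget R k = pget P (pget Q k)) : S.Acts e (d * d') R := by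
  obtain ⟨hd, hk⟩ := h
  obtain ⟨hd', hk'⟩ := h'
  refine ⟨mul_mem hd hd', fun k => ?_⟩
  obtain ⟨l1, e1⟩ := hk' k
  obtain ⟨l2, e2⟩ := hk ⟨pget Q k, l1⟩
  refine ⟨by rw [hR k k.2]; exact l2, ?_⟩
  rw [show (⟨d * d', mul_mem hd hd'⟩ : ↥S.H) = ⟨d, hd⟩ * ⟨d', hd'⟩ from rfl, mul_smul, e1, e2]
  exact congrArg e (Fin.ext (hR k k.2).symm)

theorem b_mem_H {i : ℕ} (hi : i < 2048) : S.F.b i ∈ S.H :=
  Subgroup.mem_centralizer_singleton_iff.mpr (S.F.b_comm hi ck_zIdx.1)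

theorem kap_mem_H {σ : M24} (h : actG σ zIdx = zIdx) : S.F.kap σ ∈ S.H :=
  Subgroup.mem_centralizer_singleton_iff.mpr (by rw [S.F.swap σ ck_zIdx.1, h])

theorem Acts.of_table (he : S.IsEnum e) {i : ℕ} {L tab : List ℕ} (hm : mvOK i L tab = true) {P : ℕ}
    (hP : permOK tab P = true) (hd : S.F.b i * S.F.kap (ofList L) ∈ S.H) :
    S.Acts e (S.F.b i * S.F.kap (ofList L)) P :=
  ⟨hd, fun k => perm_smul he hm hP rfl k⟩

theorem ck_central : ∀ n < 64, Nat.testBit oddMask (Nat.land (betaTab.getD n 0) 90) = false := by decide +kernel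

theorem el_shift {X : ℕ} (hX : X < 8192) : S.el (Nat.xor X 90) = S.el X * S.el 90 := by
  rw [el_mul S hX (by norm_num)]
  congr 1
  rw [cmul, show (90 : ℕ) % 128 = 90 from rfl, ck_central _ (by omega)]
  simp

theorem el_ninety : S.el 90 = S.w := by
  rw [Setup.el, show (90 : ℕ) % 128 = 90 from rfl, show (90 : ℕ) / 128 = 0 from rfl, ck_code.2.1, rg_zero, map_one,
    mul_one]

theorem w_mem_hex (ω : S.Hex) : S.w ∈ ω.1 := by
  obtain ⟨h, hh, e⟩ := ω.2
  rw [e, mem_conj_map]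
  have hw : h⁻¹ * S.w * h = S.w := by
    rw [mul_assoc, ← Subgroup.mem_centralizer_singleton_iff.mp hh, inv_mul_cancel_left]
  rw [hw]
  exact ⟨(S.data.b_mem_iff S.unique ck_zIdx.1).mpr (by decide +kernel), S.F.b_mem _ ck_zIdx.1⟩

theorem E_fixes {a : G} (ha : a ∈ S.E) (ω : S.Hex) : S.Fixes a ω := by
  obtain ⟨c, hc, rfl⟩ := (mem_E_iff_el S).mp ha
  have key : ∀ x ∈ ω.1, ∀ c < 8192, S.el c * x * (S.el c)⁻¹ ∈ ω.1 := by
    intro x hx c hc
    obtain ⟨d, hd, rfl⟩ := (mem_E_iff_el S).mp (hex_sub_E S ω hx)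
    have h1 : cmul c d = Nat.xor c d ∨ cmul c d = Nat.xor (Nat.xor c d) 90 := by
      rw [cmul]; split
      · exact Or.inr rfl
      · exact Or.inl (Nat.xor_zero _)
    have h2 : cmul d c = Nat.xor c d ∨ cmul d c = Nat.xor (Nat.xor c d) 90 := by
      rw [cmul, show Nat.xor d c = Nat.xor c d from Nat.xor_comm _ _]; split
      · exact Or.inr rfl
      · exact Or.inl (Nat.xor_zero _)
    have hX : Nat.xor c d < 8192 := Nat.xor_lt_two_pow (n := 13) hc hd
    have hwc : S.w * S.w = 1 := S.F.b_sq ck_zIdx.1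
    have h3 : S.el (cmul c d) = S.el (cmul d c) ∨ S.el (cmul c d) = S.el (cmul d c) * S.w := by
      rcases h1 with h1 | h1 <;> rcases h2 with h2 | h2 <;> rw [h1, h2]
      · exact Or.inl rfl
      · exact Or.inr (by rw [el_shift hX, el_ninety, mul_assoc, hwc, mul_one])
      · exact Or.inr (by rw [el_shift hX, el_ninety])
      · exact Or.inl rfl
    rw [← el_mul S hc hd, ← el_mul S hd hc] at h3
    rcases h3 with h | h
    · rw [h, mul_inv_cancel_right]; exact hx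
    · have hwE : S.el c * S.w = S.w * S.el c :=
        Subgroup.mem_centralizer_singleton_iff.mp (S.data.le_cent ((mem_E_iff_el S).mpr ⟨c, hc, rfl⟩))
      rw [h, mul_assoc (S.el d) (S.el c) S.w, hwE, ← mul_assoc, mul_inv_cancel_right]
      exact mul_mem hx (w_mem_hex ω)
  refine Subgroup.mem_normalizer_iff.mpr fun x => ⟨fun hx => key x hx c hc, fun hx => ?_⟩
  obtain ⟨c', hc', e'⟩ := (mem_E_iff_el S).mp (inv_mem ha)
  have := key _ hx c' hc'
  rw [← e', inv_inv] at this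
  simpa [mul_assoc] using this

theorem Acts.of_E {a : G} (ha : a ∈ S.E) {P : ℕ} (hP : ∀ k < 77, pget P k = k) : S.Acts e a P := by
  refine ⟨S.data.le_cent ha, fun k => ⟨by rw [hP k k.2]; exact k.2, ?_⟩⟩
  rw [(smul_eq_iff S ⟨a, S.data.le_cent ha⟩ _).mpr (E_fixes ha _)]
  exact congrArg e (Fin.ext (hP k k.2).symm)

end CfsgLib.J4Order
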