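import Cfsg.Agent.J4Local.Order.ZData

/-!
Kernel checks of the tables for the pairs over the base hexad.
-/

set_option autoImplicit false
set_option maxRecDepth 100000

namespace CfsgLib.J4Order

theorem ck_zEl4 : ∀ a ∈ zTab4, elOK a = true ∧ groupsOK qTab a.perm a.groups = true := by decide +kernel

theorem ck_zScan4 : ∀ a ∈ zTab4, elScan a = true := by decide +kernel

end CfsgLib.J4Order
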