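import Cfsg.Agent.J4Local.Order.Perm
import Cfsg.Agent.J4Local.Order.Classes

/-!
The computation of the pair counts over the base hexad.
-/

set_option autoImplicit false
set_option maxRecDepth 100000

namespace CfsgLib.J4Order

open Cfsg CfsgLib.J4CentT CfsgLib.Golay CfsgLib.Golay.Cert

/-- The images of the powers of two under a position list. -/
def colsOf (L : List ℕ) : List ℕ := (List.range 11).map fun k => act L (2 ^ k)

/-- The part of a number outside the subgroup of order 128. -/
def qOf (i : ℕ) : ℕ := Nat.xor i (wv (i / 16))

/-- One composed packed permutation is another. -/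
def compOK (P Q R : ℕ) : Bool := (List.range 77).all fun k => pget R k == pget P (pget Q k)

/-- A group of numbers with one permutation: the permutation, its fixed set, the residues allowed, the
numbers giving the class of `z` and those giving the other class. -/
structure ZGroup where
  perm : ℕ
  fixed : ℕ
  res : ℕ
  zs : List ℕ
  ts : List ℕ

/-- An involution or the identity of the sextet stabiliser with its tables. -/
structure ZEl where
  list : List ℕ
  kind : ℕ
  conj : List ℕ
  tab : List ℕ
  perm : ℕ
  groups : List ZGroup

/-- The class test. -/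
def isZk (kind : ℕ) (mc : List ℕ) (pm i : ℕ) : Bool :=
  if kind = 0 then !(i == 0) && !Nat.testBit pm i
  else if kind = 1 then Nat.testBit zMaskA (comb mc i) else Nat.testBit zMaskB (comb mc i)

/-- The numbers of the pairs, as a mask. -/
def pairMask : ℕ := maskList pairList

/-- The scan over all numbers. -/
def scanOK (kind : ℕ) (c mc : List ℕ) (ZM TM nz nt : ℕ) : Bool :=
  ((List.range 2048).all fun i =>
    (Nat.testBit ZM i == ((comb c i == i) && isZk kind mc pairMask i)) &&
      (Nat.testBit TM i == ((comb c i == i) && !isZk kind mc pairMask i && (!(kind == 0) || !(i == 0))))) &&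
    ((List.range 2048).countP fun i => Nat.testBit ZM i) == nz &&
    ((List.range 2048).countP fun i => Nat.testBit TM i) == nt

/-- The groups agree with the permutations of the residues. -/
def groupsOK (qs : List ℕ) (P0 : ℕ) (gs : List ZGroup) : Bool :=
  gs.all fun g =>
    ((List.range 16).all fun q => !Nat.testBit g.res q || compOK (qs.getD q 0) P0 g.perm) &&
      ((g.zs ++ g.ts).all fun i => decide (i < 2048) && Nat.testBit g.res (qOf i)) &&
      decide (g.fixed < 2 ^ 77) &&
      ((List.range 77).all fun k => Nat.testBit g.fixed k == (pget g.perm k == k))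

/-- The shape of an entry. -/
def elOK (e : ZEl) : Bool :=
  genOK e.list && (compL e.list e.list == List.range 24) && (act e.list zIdx == zIdx) &&
    (if e.kind = 0 then e.list == List.range 24 else genOK e.conj &&
      (if e.kind = 1 then compL e.conj e.list == compL (rEl idxA) e.conj
       else e.kind == 2 && compL e.conj e.list == compL (rEl idxB) e.conj)) &&
    mvOK 0 e.list e.tab && permOK e.tab e.perm &&
    ((List.range 11).all fun j => decide ((colsOf e.list).getD j 0 < 2048))

/-- The class scan of an entry. -/
def elScan (e : ZEl) : Bool :=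
  let Z := e.groups.flatMap ZGroup.zs
  let T := e.groups.flatMap ZGroup.ts
  scanOK e.kind (colsOf e.list) (colsOf e.conj) (maskList Z) (maskList T) Z.length T.length

/-- The sum of the first `m` images. -/
def nsumL (L : List ℕ) : ℕ → ℕ → ℕ
  | 0, _ => 0
  | m + 1, a => Nat.xor a (act L (nsumL L m a))

/-- Powers of a position list. -/
def powL (L : List ℕ) : ℕ → List ℕ
  | 0 => List.range 24
  | m + 1 => compL L (powL L m)

/-- A list of numbers below 256 in number, as a packed histogram. -/
def hist (l : List ℕ) : ℕ := l.foldr (fun v H => Nat.shiftLeft 1 (8 * v) + H) 0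

/-- An entry of a packed histogram. -/
def hget (H v : ℕ) : ℕ := Nat.land (Nat.shiftRight H (8 * v)) 255

/-- The permutations of two groups commute. -/
def commOK (P Q : ℕ) : Bool := (List.range 77).all fun k => pget P (pget Q k) == pget Q (pget P k)

/-- Adding to one place of a list. -/
def addAt : List ℕ → ℕ → ℕ → List ℕ
  | [], _, _ => []
  | a :: l, 0, c => (a + c) :: l
  | a :: l, f + 1, c => a :: addAt l f c

/-- The contributions of a pair of entries: number of fixed hexads or 78 for a forbidden pair, and count. -/
def contribs (C Cs : List ℕ) (g1 g2 : List ZGroup) : List (ℕ × ℕ) :=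
  g2.flatMap fun b =>
    let H := hist (b.ts.map fun j => comb C (comb Cs j))
    g1.flatMap fun a =>
      let n := (a.zs.map fun i => hget H (Nat.xor zIdx (comb C i))).sum
      if n == 0 then []
      else if wt 77 a.fixed == 13 && wt 77 b.fixed == 5 && commOK a.perm b.perm then
        [(wt 77 (Nat.land a.fixed b.fixed), n), (78, n)]
      else [(wt 77 (Nat.land a.fixed b.fixed), n)]

/-- Zeros, one for each possible number and one for the forbidden pairs. -/
def zeros : List ℕ := List.replicate 79 0

/-- The weighted counts of one pair of representatives. -/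
def repAdd (tab : List ZEl) (r : ℕ × ℕ × ℕ × ℕ) (acc : List ℕ) : List ℕ :=
  let e1 := tab.getD r.1 ⟨[], 0, [], [], 0, []⟩
  let e2 := tab.getD r.2.1 ⟨[], 0, [], [], 0, []⟩
  let ρ := compL e1.list e2.list
  let C := (List.range 11).map fun k => nsumL ρ r.2.2.2 (2 ^ k)
  (contribs C (colsOf e1.list) e1.groups e2.groups).foldl (fun a p => addAt a p.1 (r.2.2.1 * p.2)) acc

/-- The order of the product is as stated and the lists are short. -/
def repOK (tab : List ZEl) (r : ℕ × ℕ × ℕ × ℕ) : Bool :=
  decide (r.1 < tab.length) && decide (r.2.1 < tab.length) && decide (0 < r.2.2.2) &&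
    (powL (compL (tab.getD r.1 ⟨[], 0, [], [], 0, []⟩).list (tab.getD r.2.1 ⟨[], 0, [], [], 0, []⟩).list) r.2.2.2 ==
      List.range 24) &&
    ((List.range r.2.2.2).all fun k => k == 0 ||
      !(powL (compL (tab.getD r.1 ⟨[], 0, [], [], 0, []⟩).list (tab.getD r.2.1 ⟨[], 0, [], [], 0, []⟩).list) k ==
        List.range 24)) &&
    ((tab.getD r.2.1 ⟨[], 0, [], [], 0, []⟩).groups.all fun b => decide (b.ts.length < 256))

/-- The total over a list of representatives. -/
def repTotal (tab : List ZEl) (rs : List (ℕ × ℕ × ℕ × ℕ)) : List ℕ := rs.foldr (repAdd tab) zeros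

end CfsgLib.J4Order
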