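import Cfsg.Agent.J4Local.Order.ZDefs

/-!
Arithmetic lemmas for the computation: packed histograms, linear columns, updates of lists.
-/

set_option autoImplicit false
set_option maxRecDepth 100000

namespace CfsgLib.J4Order

open Cfsg CfsgLib.J4CentT CfsgLib.Golay CfsgLib.Golay.Cert

theorem hist_split : ∀ l : List ℕ,
    hist l = l.count 0 + 256 * hist ((l.filter fun v => v != 0).map fun v => v - 1) := by
  intro l
  induction l with
  | nil => rfl
  | cons v l ih =>
    have hh : hist (v :: l) = 2 ^ (8 * v) + hist l := by
      rw [hist, List.foldr_cons, show Nat.shiftLeft 1 (8 * v) = 1 <<< (8 * v) from rfl, Nat.one_shiftLeft]; rfl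
    rw [hh, ih]
    rcases v with _ | v
    · rw [List.count_cons_self, List.filter_cons_of_neg (by simp)]
      omega
    · rw [List.count_cons_of_ne (by omega), List.filter_cons_of_pos (by simp), List.map_cons, Nat.add_sub_cancel]
      have hh' : ∀ m, hist (v :: m) = 2 ^ (8 * v) + hist m := fun m => by
        rw [hist, List.foldr_cons, show Nat.shiftLeft 1 (8 * v) = 1 <<< (8 * v) from rfl, Nat.one_shiftLeft]; rfl
      rw [hh', show 8 * (v + 1) = 8 * v + 8 by ring, pow_add]
      omega

theorem count_pred (l : List ℕ) (v : ℕ) :
    ((l.filter fun x => x != 0).map fun x => x - 1).count v = l.count (v + 1) := by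
  induction l with
  | nil => rfl
  | cons a l ih =>
    rcases a with _ | a
    · rw [List.filter_cons_of_neg (by simp), ih, List.count_cons_of_ne (by omega)]
    · rw [List.filter_cons_of_pos (by simp), List.map_cons, Nat.add_sub_cancel, List.count_cons, List.count_cons, ih]
      by_cases h : a = v <;> simp [h]

theorem hget_hist : ∀ (v : ℕ) (l : List ℕ), l.length < 256 → hget (hist l) v = l.count v := by
  intro v
  induction v with
  | zero =>
    intro l hl
    have h := List.count_le_length (a := 0) (l := l)
    show (hist l >>> (8 * 0)) &&& 255 = _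
    rw [hist_split l, show (255 : ℕ) = 2 ^ 8 - 1 from rfl, Nat.and_two_pow_sub_one_eq_mod, Nat.shiftRight_eq_div_pow]
    norm_num
    omega
  | succ v ih =>
    intro l hl
    have h := List.count_le_length (a := 0) (l := l)
    have hlen : ((l.filter fun x => x != 0).map fun x => x - 1).length < 256 := by
      rw [List.length_map]; exact lt_of_le_of_lt (List.length_filter_le _ _) hl
    rw [← count_pred, ← ih _ hlen]
    show (hist l >>> (8 * (v + 1))) &&& 255 = (_ >>> (8 * v)) &&& 255
    congr 1
    rw [Nat.shiftRight_eq_div_pow, Nat.shiftRight_eq_div_pow, hist_split l, show 8 * (v + 1) = 8 + 8 * v by ring,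
      pow_add, ← Nat.div_div_eq_div_mul]
    congr 1
    norm_num
    omega

/-- Columns give the values of a map additive for exclusive or. -/
theorem comb_cols : ∀ (n : ℕ) (f : ℕ → ℕ), f 0 = 0 →
    (∀ a b, a < 2 ^ n → b < 2 ^ n → f (a ^^^ b) = f a ^^^ f b) →
    ∀ i < 2 ^ n, comb ((List.range n).map fun k => f (2 ^ k)) i = f i := by
  intro n
  induction n with
  | zero =>
    intro f h0 _ i hi
    rw [pow_zero, Nat.lt_one_iff] at hi
    subst hi
    rw [h0]; rfl
  | succ n ih =>
    intro f h0 hadd i hi
    have h1 : i / 2 < 2 ^ n := by rw [pow_succ] at hi; omega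
    rw [List.range_succ_eq_map, List.map_cons, List.map_map, comb]
    have e : ((fun k => f (2 ^ k)) ∘ Nat.succ) = fun k => (fun x => f (2 * x)) (2 ^ k) := by
      funext k; simp [pow_succ, mul_comm]
    have h2 := ih (fun x => f (2 * x)) (by simpa using h0) (fun a b ha hb => by
      show f (2 * (a ^^^ b)) = f (2 * a) ^^^ f (2 * b)
      rw [← hadd (2 * a) (2 * b) (by rw [pow_succ]; omega) (by rw [pow_succ]; omega)]
      congr 1
      refine Nat.eq_of_testBit_eq fun k => ?_
      rcases k with _ | k <;> simp [Nat.testBit_succ, Nat.testBit_zero, Nat.xor_div_two]) (i / 2) h1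
    rw [e, h2, pow_zero]
    have h3 : i = (i % 2) ^^^ (2 * (i / 2)) := by
      refine Nat.eq_of_testBit_eq fun k => ?_
      rcases k with _ | k
      · simp [Nat.testBit_zero]
      · simp [Nat.testBit_succ, Nat.xor_div_two, Nat.div_eq_of_lt (Nat.mod_lt i two_pos)]
    conv_rhs => rw [h3, hadd _ _ (by rw [pow_succ]; omega) (by rw [pow_succ]; omega)]
    rcases Nat.mod_two_eq_zero_or_one i with h | h <;> simp [h, h0]

theorem addAt_length : ∀ (l : List ℕ) (f c : ℕ), (addAt l f c).length = l.length := by
  intro l
  induction l with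
  | nil => intro f c; rfl
  | cons a l ih => intro f c; rcases f with _ | f <;> simp [addAt, ih]

theorem addAt_getD : ∀ (l : List ℕ) (f c g : ℕ), g < l.length →
    (addAt l f c).getD g 0 = l.getD g 0 + if f = g then c else 0 := by
  intro l
  induction l with
  | nil => intro f c g hg; simp at hg
  | cons a l ih =>
    intro f c g hg
    rcases f with _ | f <;> rcases g with _ | g
    · simp [addAt]
    · simp [addAt]
    · simp [addAt]
    · simp only [addAt, List.getD_cons_succ]
      rw [ih f c g (by simpa using hg)]
      simp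

theorem foldl_addAt (w : ℕ) : ∀ (ps : List (ℕ × ℕ)) (acc : List ℕ) (g : ℕ), g < acc.length →
    (ps.foldl (fun a p => addAt a p.1 (w * p.2)) acc).getD g 0 =
      acc.getD g 0 + w * (ps.map fun p => if p.1 = g then p.2 else 0).sum := by
  intro ps
  induction ps with
  | nil => intro acc g hg; simp
  | cons p ps ih =>
    intro acc g hg
    rw [List.foldl_cons, ih _ g (by rw [addAt_length]; exact hg), addAt_getD _ _ _ _ hg, List.map_cons, List.sum_cons,
      mul_add, add_assoc]
    split <;> simp

end CfsgLib.J4Order
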