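import Cfsg.Agent.J4Local.Order.ZActs
import Cfsg.Agent.J4Local.Order.ZHist

/-!
The meaning of a checked entry.
-/

set_option autoImplicit false
set_option maxRecDepth 100000

namespace CfsgLib.J4Order

open Cfsg CfsgLib.J4CentT CfsgLib.Golay CfsgLib.Golay.Cert MulAction

/-- The packed permutations of the sixteen residues are those of their elements. -/
def qsOK (qs : List ℕ) (imgs : List (List ℕ)) : Bool :=
  ((List.range 4).all fun j => mvOK (2 ^ j) (List.range 24) (imgs.getD j []) &&
    permOK (imgs.getD j []) (qs.getD (2 ^ j) 0)) &&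
  ((List.range 77).all fun k => pget (qs.getD 0 0) k == k) &&
  ((List.range 16).all fun x => (List.range 4).all fun j =>
    compOK (qs.getD (2 ^ j) 0) (qs.getD x 0) (qs.getD (Nat.xor x (2 ^ j)) 0))

theorem ck_range : genOK (List.range 24) = true ∧
    ∀ i < 2048, qOf i < 16 ∧ i / 16 < 128 := ⟨by decide +kernel, forall_lt_2048 (by decide +kernel)⟩

theorem list_id {σ : M24} (h : toList σ.1 = List.range 24) : σ = 1 :=
  toList_coe_injective (by show toList σ.1 = toList (1 : Equiv.Perm GolayPt); rw [h, toList_one])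

theorem ofList_range : ofList (List.range 24) = 1 := list_id (toList_ofList ck_range.1)

variable {G : Type*} [Group G] [Finite G] {z : G} {S : Setup z}

theorem colsOf_eq (S : Setup z) {L : List ℕ} (hg : genOK L = true) {i : ℕ} (hi : i < 2048) :
    comb (colsOf L) i = actG (ofList L) i := by
  have h := comb_cols 11 (fun j => act L j) (act_zero L) (fun a c ha hc => by
    have := S.F.act_xor (ofList L) (show a < 2048 from ha) (show c < 2048 from hc)
    simpa only [actG, toList_ofList hg] using this) i hi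
  rw [actG, toList_ofList hg]
  exact h

theorem act_qs {qs : List ℕ} {imgs : List (List ℕ)} (h : qsOK qs imgs = true) {e : Fin 77 ≃ S.Hex}
    (he : S.IsEnum e) : ∀ q < 16, S.Acts e (S.F.b q) (qs.getD q 0) := by
  simp only [qsOK, Bool.and_eq_true, List.all_eq_true, List.mem_range, beq_iff_eq, compOK] at h
  obtain ⟨⟨hgen, h0⟩, hcomp⟩ := h
  intro q
  induction q using Nat.strongRecOn with | ind q ih => ?_
  intro hq
  rcases Nat.eq_zero_or_pos q with rfl | hpos
  · rw [S.F.b_zero]
    exact Acts.of_E (one_mem _) h0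
  have hk : q.log2 < 4 := (Nat.log2_lt (by omega)).mpr (by omega)
  have hlt : q ^^^ 2 ^ q.log2 < q := by
    have hb : q.testBit q.log2 = true := Nat.testBit_log2 (by omega)
    refine Nat.lt_of_testBit q.log2 (by simp [hb, Nat.testBit_two_pow]) hb fun j hj => ?_
    simp [Nat.testBit_xor, Nat.testBit_two_pow, (Nat.ne_of_lt hj)]
  have h2 : 2 ^ q.log2 < 2048 :=
    lt_of_le_of_lt (Nat.pow_le_pow_right (by norm_num) (show q.log2 ≤ 3 by omega)) (by norm_num)
  obtain ⟨hm, hP⟩ := hgen _ hk
  have h1 := Acts.of_table he hm hP (by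
    rw [ofList_range, map_one, mul_one]; exact b_mem_H h2)
  rw [ofList_range, map_one, mul_one] at h1
  have := Acts.mul h1 (ih _ hlt (by omega)) (hcomp (q ^^^ 2 ^ q.log2) (by omega) _ hk)
  rw [show Nat.xor (q ^^^ 2 ^ q.log2) (2 ^ q.log2) = q by
      show q ^^^ 2 ^ q.log2 ^^^ 2 ^ q.log2 = q
      rw [Nat.xor_assoc, Nat.xor_self, Nat.xor_zero],
    S.F.b_mul _ h2 _ (by omega),
    show 2 ^ q.log2 ^^^ (q ^^^ 2 ^ q.log2) = q by
      rw [Nat.xor_comm q, ← Nat.xor_assoc, Nat.xor_self, Nat.zero_xor]] at this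
  exact this

/-- All numbers of the first kind in the groups. -/
def ZEl.allZ (e : ZEl) : List ℕ := e.groups.flatMap ZGroup.zs

/-- All numbers of the second kind in the groups. -/
def ZEl.allT (e : ZEl) : List ℕ := e.groups.flatMap ZGroup.ts

/-- The element of an entry. -/
noncomputable abbrev ZEl.sig (e : ZEl) : M24 := ofList e.list

/-- What a checked entry says. -/
structure ElFacts (S : Setup z) (e : Fin 77 ≃ S.Hex) (a : ZEl) : Prop where
  gen : genOK a.list = true
  sq : a.sig * a.sig = 1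
  fixz : actG a.sig zIdx = zIdx
  cols : ∀ i < 2048, comb (colsOf a.list) i = actG a.sig i
  ndZ : a.allZ.Nodup
  ndT : a.allT.Nodup
  ltZ : ∀ i ∈ a.allZ, i < 2048
  ltT : ∀ i ∈ a.allT, i < 2048
  memZ : ∀ i < 2048, (i ∈ a.allZ ↔ IsConj z (S.F.b i * S.F.kap a.sig))
  memT : ∀ i < 2048, (i ∈ a.allT ↔
    orderOf (S.F.b i * S.F.kap a.sig) = 2 ∧ ¬ IsConj z (S.F.b i * S.F.kap a.sig))
  acts : ∀ g ∈ a.groups, ∀ i ∈ g.zs ++ g.ts, S.Acts e (S.F.b i * S.F.kap a.sig) g.perm
  mask : ∀ g ∈ a.groups, g.fixed < 2 ^ 77 ∧ ∀ k < 77, (g.fixed.testBit k = true ↔ pget g.perm k = k)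

theorem el_sound (hs : S.SplitFacts) (hz2 : S.rootZ 2) {e : Fin 77 ≃ S.Hex} (he : S.IsEnum e) {qs : List ℕ}
    {imgs : List (List ℕ)} (hq : qsOK qs imgs = true) {a : ZEl} (h1 : elOK a = true) (h2 : elScan a = true)
    (h3 : groupsOK qs a.perm a.groups = true) : ElFacts S e a := by
  simp only [elOK, Bool.and_eq_true, beq_iff_eq, List.all_eq_true, List.mem_range, decide_eq_true_eq] at h1
  obtain ⟨⟨⟨⟨⟨⟨hg, hsq⟩, hz⟩, hkind⟩, hmv⟩, hperm⟩, -⟩ := h1
  simp only [elScan, scanOK, Bool.and_eq_true, beq_iff_eq, List.all_eq_true, List.mem_range] at h2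
  obtain ⟨⟨hscan, hnz⟩, hnt⟩ := h2
  simp only [groupsOK, Bool.and_eq_true, List.all_eq_true, List.mem_range, decide_eq_true_eq, beq_iff_eq,
    Bool.or_eq_true, Bool.not_eq_true'] at h3
  have hL : toList a.sig.1 = a.list := toList_ofList hg
  have hσ2 : a.sig * a.sig = 1 := list_id (by rw [Subgroup.coe_mul, toList_mul, hL]; exact hsq)
  have hσz : actG a.sig zIdx = zIdx := by rw [actG, hL]; exact hz
  have hcols : ∀ i < 2048, comb (colsOf a.list) i = actG a.sig i := fun i hi => colsOf_eq S hg hi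
  -- involutions over the element are the fixed numbers
  have hinv : ∀ i < 2048, S.F.b i * S.F.kap a.sig * (S.F.b i * S.F.kap a.sig) = 1 ↔ actG a.sig i = i := by
    intro i hi
    rw [S.F.mul_form _ _ hi hi, hσ2, map_one, mul_one, b_zero_iff S (xor_lt hi (act_lt _ _))]
    exact ⟨fun h => by simpa [← Nat.xor_assoc] using congrArg (i ^^^ ·) h, fun h => (congrArg (i ^^^ ·) h).trans (Nat.xor_self i)⟩
  have hzfix : ∀ i < 2048, IsConj z (S.F.b i * S.F.kap a.sig) → actG a.sig i = i := by
    intro i hi h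
    refine (hinv i hi).mp ?_
    obtain ⟨g, hg'⟩ := isConj_iff.mp (S.F.zconj.symm.trans h)
    rw [← hg', show g * S.w * g⁻¹ * (g * S.w * g⁻¹) = g * (S.w * S.w) * g⁻¹ by group, S.F.b_sq ck_zIdx.1]
    group
  have hisz : ∀ i < 2048, actG a.sig i = i →
      (isZk a.kind (colsOf a.conj) pairMask i = true ↔ IsConj z (S.F.b i * S.F.kap a.sig)) := by
    intro i hi hfix
    by_cases k0 : a.kind = 0
    · rw [if_pos k0, beq_iff_eq] at hkind
      have h1' : a.sig = 1 := list_id (by rw [hL, hkind])
      rw [h1', map_one, mul_one, conj_iff_one hi, isZk, if_pos k0, pairMask]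
      simp only [Bool.and_eq_true, Bool.not_eq_true', beq_eq_false_iff_ne, ne_eq]
      rw [← Bool.not_eq_true, testBit_maskList]
    rw [if_neg k0, Bool.and_eq_true] at hkind
    obtain ⟨hm, hkind⟩ := hkind
    have hcm : comb (colsOf a.conj) i = actG (ofList a.conj) i := colsOf_eq S hm hi
    by_cases k1 : a.kind = 1
    · rw [if_pos k1, beq_iff_eq] at hkind
      rw [isZk, if_neg k0, if_pos k1, hcm]
      refine (conj_iffA hs hz2 hi ?_ hfix).symm
      rw [mul_inv_eq_iff_eq_mul]
      refine toList_coe_injective ?_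
      show toList ((ofList a.conj * a.sig : M24)).1 = toList ((rg idxA * ofList a.conj : M24)).1
      rw [Subgroup.coe_mul, Subgroup.coe_mul, toList_mul, toList_mul, toList_ofList hm, hL,
        rg_list ck_conj.2.2.2.2.1]
      exact hkind
    · rw [if_neg k1, Bool.and_eq_true, beq_iff_eq, beq_iff_eq] at hkind
      rw [isZk, if_neg k0, if_neg k1, hcm]
      refine (conj_iffB hs hz2 hi ?_ hfix).symm
      rw [mul_inv_eq_iff_eq_mul]
      refine toList_coe_injective ?_
      show toList ((ofList a.conj * a.sig : M24)).1 = toList ((rg idxB * ofList a.conj : M24)).1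
      rw [Subgroup.coe_mul, Subgroup.coe_mul, toList_mul, toList_mul, toList_ofList hm, hL,
        rg_list ck_conj.2.2.2.2.2.1]
      exact hkind.2
  have hone : ∀ i < 2048, S.F.b i * S.F.kap a.sig = 1 ↔ (a.kind = 0 ∧ i = 0) := by
    intro i hi
    constructor
    · intro h
      obtain ⟨e1, e2⟩ := S.F.form_inj (j := 0) (τ := 1) hi (by norm_num)
        (h.trans (by rw [S.F.b_zero, map_one, mul_one]))
      refine ⟨?_, e1⟩
      by_contra k0
      rw [if_neg k0, Bool.and_eq_true] at hkind
      have hl : a.list = List.range 24 := by rw [← hL, e2]; exact toList_one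
      have hk2 := hkind.2
      have key : ∀ n < 64, compL a.conj a.list = compL (rEl n) a.conj → n = 0 := by
        intro n hn h'
        have e3 : ofList a.conj * a.sig = rg n * ofList a.conj := toList_coe_injective (by
          show toList ((ofList a.conj * a.sig : M24)).1 = toList ((rg n * ofList a.conj : M24)).1
          rw [Subgroup.coe_mul, Subgroup.coe_mul, toList_mul, toList_mul, toList_ofList hkind.1, hL, rg_list hn]
          exact h')
        rw [e2, mul_one] at e3
        exact rg_inj hn (by norm_num) (by rw [rg_zero]; exact (mul_eq_right.mp e3.symm))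
      by_cases k1 : a.kind = 1
      · rw [if_pos k1, beq_iff_eq] at hk2
        exact absurd (key _ ck_conj.2.2.2.2.1 hk2) (by decide)
      · rw [if_neg k1, Bool.and_eq_true, beq_iff_eq, beq_iff_eq] at hk2
        exact absurd (key _ ck_conj.2.2.2.2.2.1 hk2.2) (by decide)
    · rintro ⟨k0, rfl⟩
      rw [if_pos k0, beq_iff_eq] at hkind
      rw [list_id (show toList a.sig.1 = List.range 24 by rw [hL, hkind]), map_one, mul_one, S.F.b_zero]
  haveI : Fact (Nat.Prime 2) := ⟨Nat.prime_two⟩
  have hmemZ : ∀ i < 2048, ((maskList a.allZ).testBit i = true ↔ IsConj z (S.F.b i * S.F.kap a.sig)) := by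
    intro i hi
    have := (hscan i hi).1
    rw [show maskList (a.groups.flatMap ZGroup.zs) = maskList a.allZ from rfl] at this
    rw [this, Bool.and_eq_true, beq_iff_eq, hcols i hi]
    exact ⟨fun h => (hisz i hi h.1).mp h.2, fun h => ⟨hzfix i hi h, (hisz i hi (hzfix i hi h)).mpr h⟩⟩
  have hmemT : ∀ i < 2048, ((maskList a.allT).testBit i = true ↔
      orderOf (S.F.b i * S.F.kap a.sig) = 2 ∧ ¬ IsConj z (S.F.b i * S.F.kap a.sig)) := by
    intro i hi
    have := (hscan i hi).2
    rw [show maskList (a.groups.flatMap ZGroup.ts) = maskList a.allT from rfl] at this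
    rw [this, Bool.and_eq_true, Bool.and_eq_true, beq_iff_eq, hcols i hi, Bool.not_eq_true', Bool.or_eq_true,
      Bool.not_eq_true', Bool.not_eq_true', beq_eq_false_iff_ne, beq_eq_false_iff_ne]
    constructor
    · rintro ⟨⟨hfix, hnz'⟩, hne⟩
      refine ⟨orderOf_eq_prime ((pow_two _).trans ((hinv i hi).mpr hfix)) fun h => ?_, fun h => ?_⟩
      · obtain ⟨a1, a2⟩ := (hone i hi).mp h
        exact hne.elim (fun h => h a1) (fun h => h a2)
      · exact Bool.false_ne_true (hnz'.symm.trans ((hisz i hi hfix).mpr h))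
    · rintro ⟨ho, hn⟩
      have hfix : actG a.sig i = i := (hinv i hi).mp (by rw [← pow_two, ← ho]; exact pow_orderOf_eq_one _)
      refine ⟨⟨hfix, Bool.eq_false_iff.mpr fun h => hn ((hisz i hi hfix).mp h)⟩, ?_⟩
      by_contra hh
      push Not at hh
      rw [(hone i hi).mpr hh, orderOf_one] at ho
      norm_num at ho
  have hlt : ∀ g ∈ a.groups, ∀ i ∈ g.zs ++ g.ts, i < 2048 ∧ g.res.testBit (qOf i) = true := fun g hgm i hi =>
    (h3 g hgm).1.1.2 i hi
  have hltZ : ∀ i ∈ a.allZ, i < 2048 := fun i hi => by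
    obtain ⟨g, hgm, hig⟩ := List.mem_flatMap.mp hi
    exact (hlt g hgm i (List.mem_append_left _ hig)).1
  have hltT : ∀ i ∈ a.allT, i < 2048 := fun i hi => by
    obtain ⟨g, hgm, hig⟩ := List.mem_flatMap.mp hi
    exact (hlt g hgm i (List.mem_append_right _ hig)).1
  have nd : ∀ l : List ℕ, (∀ i ∈ l, i < 2048) →
      ((List.range 2048).countP fun i => Nat.testBit (maskList l) i) = l.length → l.Nodup := by
    intro l hl h
    have hperm : (List.range 2048).filter (fun i => Nat.testBit (maskList l) i) |>.Nodup := List.nodup_range.filter _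
    have e : ((List.range 2048).filter fun i => Nat.testBit (maskList l) i).toFinset = l.toFinset := by
      ext i
      simp only [List.mem_toFinset, List.mem_filter, List.mem_range, testBit_maskList]
      exact ⟨fun h => h.2, fun h => ⟨hl i h, h⟩⟩
    have := congrArg Finset.card e
    rw [List.toFinset_card_of_nodup hperm, ← List.countP_eq_length_filter, h] at this
    rw [← List.dedup_eq_self]
    exact (List.dedup_sublist l).eq_of_length (by rw [← List.card_toFinset]; exact this.symm)
  refine ⟨hg, hσ2, hσz, hcols, nd _ hltZ hnz, nd _ hltT hnt, hltZ, hltT,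
    fun i hi => by rw [← hmemZ i hi, testBit_maskList],
    fun i hi => by rw [← hmemT i hi, testBit_maskList], fun g hgm i hi => ?_,
    fun g hgm => ⟨(h3 g hgm).1.2, fun k hk => by
      have := (h3 g hgm).2 k hk
      rw [this, beq_iff_eq]⟩⟩
  obtain ⟨hi', hres⟩ := hlt g hgm i hi
  obtain ⟨hq16, hx⟩ := ck_range.2 i hi'
  have hcomp : compOK (qs.getD (qOf i) 0) a.perm g.perm = true := by
    rcases (h3 g hgm).1.1.1 _ hq16 with h | h
    · rw [hres] at h; exact absurd h (by simp)
    · exact h
  simp only [compOK, List.all_eq_true, List.mem_range, beq_iff_eq] at hcomp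
  have hbase := Acts.of_table he hmv hperm (by
    rw [S.F.b_zero, one_mul]; exact kap_mem_H hσz)
  rw [S.F.b_zero, one_mul] at hbase
  have hx2 := (ck_code.1 _ hx)
  have hE : S.F.b (wv (i / 16)) ∈ S.E := (S.data.b_mem_iff S.unique hx2.1).mpr hx2.2.1
  obtain ⟨idP, hid⟩ : ∃ P, ∀ k < 77, pget P k = k :=
    ⟨qs.getD 0 0, fun k hk => by
      simp only [qsOK, Bool.and_eq_true, List.all_eq_true, List.mem_range, beq_iff_eq] at hq
      exact hq.1.2 k hk⟩
  have hbi : S.Acts e (S.F.b i) (qs.getD (qOf i) 0) := by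
    have h := Acts.mul (act_qs hq he _ hq16) (Acts.of_E (e := e) hE hid) (R := qs.getD (qOf i) 0)
      fun k hk => by rw [hid k hk]
    rwa [S.F.b_mul _ (by omega) _ hx2.1, show qOf i ^^^ wv (i / 16) = i by
      show i ^^^ wv (i / 16) ^^^ wv (i / 16) = i
      rw [Nat.xor_assoc, Nat.xor_self, Nat.xor_zero]] at h
  exact Acts.mul hbi hbase hcomp

end CfsgLib.J4Order
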