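import Cfsg.Agent.J4Local.Order.ZData

/-!
The representative pairs in chunks, with the expected totals.
-/

set_option autoImplicit false
set_option maxRecDepth 100000

namespace CfsgLib.J4Order

/-- Chunk 0. -/
def zReps0 : List (ℕ × ℕ × ℕ × ℕ) := [(0,0,1,1),(0,1,180,2),(0,2,45,2),(0,3,360,2),(0,4,540,2)]

/-- Expected total of chunk 0. -/
def zOut0 : List ℕ := [0,0,0,0,0,552960,0,0,0,276480,0,0,0,599280,0,0,0,0,0,0,0,0,0,0,0,0,0,0,0,0,0,0,0,0,0,0,0,0,0,0,0,0,0,0,0,0,0,0,0,0,0,0,0,0,0,0,0,0,0,0,0,0,0,0,0,0,0,0,0,0,0,0,0,0,0,0,0,103680,0]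

/-- Chunk 1. -/
def zReps1 : List (ℕ × ℕ × ℕ × ℕ) := [(0,5,18,2),(0,6,360,2),(1,0,180,2),(1,1,180,1),(1,2,540,2),(1,3,4320,2),(1,4,34560,10),(1,5,1080,2),(1,6,2160,2),(1,7,11520,5),(1,8,4320,4),(1,9,34560,6),(1,10,4320,4),(1,11,17280,6),(1,12,1080,2),(1,13,4320,2),(1,14,4320,4),(1,15,1080,2),(1,16,2160,4),(1,17,8640,4),(1,18,8640,4),(1,19,34560,6),(1,20,2160,2),(1,21,2880,4),(1,22,1080,2),(1,23,17280,4),(1,24,1080,2),(1,25,2160,2),(1,26,8640,4),(1,27,5760,3),(1,28,2160,4),(1,29,8640,4),(1,30,2880,4),(1,31,17280,6),(1,32,1440,2),(1,33,1080,2)]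

/-- Expected total of chunk 1. -/
def zOut1 : List ℕ := [0,0,2949120,737280,0,0,0,0,0,0,0,0,0,2880,0,0,0,0,0,0,0,0,0,0,0,0,0,0,0,0,0,0,0,0,0,0,0,0,0,0,0,0,0,0,0,0,0,0,0,0,0,0,0,0,0,0,0,0,0,0,0,0,0,0,0,0,0,0,0,0,0,0,0,0,0,0,0,23040,0]

/-- Chunk 2. -/
def zReps2 : List (ℕ × ℕ × ℕ × ℕ) := [(1,34,360,2),(1,35,2160,4),(1,36,2160,4),(1,37,5760,3),(1,38,4320,4),(1,39,540,2),(1,40,1080,2),(2,0,45,2),(2,1,540,2),(2,2,45,1),(2,3,4320,4),(2,4,8640,4),(2,5,540,2),(2,6,2160,4),(2,7,4320,4),(2,8,1080,2),(2,9,8640,4),(2,10,540,2),(2,11,4320,4),(2,12,2160,2),(2,13,1080,2),(2,14,2160,2),(2,15,540,2),(2,16,270,2),(2,17,8640,4),(2,18,4320,4),(2,19,4320,4),(2,20,1080,2),(2,21,2160,4),(2,22,1080,2),(2,24,1080,2),(2,25,720,4),(2,28,270,2),(2,41,2160,4),(2,36,360,2),(2,42,90,2),(3,0,360,2),(3,1,4320,2),(3,2,4320,4),(3,3,360,1),(3,4,34560,6),(3,5,4320,4),(3,6,2160,2),(3,7,34560,6),(3,8,8640,4),(3,9,34560,6),(3,10,34560,8),(3,11,69120,12),(3,12,4320,2),(3,13,69120,12),(3,14,5760,3)]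

/-- Expected total of chunk 2. -/
def zOut2 : List ℕ := [0,0,0,1474560,0,13271040,0,0,0,0,0,0,0,1013760,0,0,0,0,0,0,0,743040,0,0,0,0,0,0,0,0,0,0,0,0,0,0,0,0,0,0,0,0,0,0,0,0,0,0,0,0,0,0,0,0,0,0,0,0,0,0,0,0,0,0,0,0,0,0,0,0,0,0,0,0,0,0,0,1013760,0]

/-- Chunk 3. -/
def zReps3 : List (ℕ × ℕ × ℕ × ℕ) := [(3,15,2160,2),(3,17,17280,6),(3,18,2160,2),(3,19,17280,4),(3,20,8640,4),(3,21,17280,4),(3,22,4320,4),(3,23,34560,6),(3,24,4320,4),(3,25,4320,2),(3,26,2160,2),(3,43,8640,4),(3,44,34560,3),(3,45,17280,4),(3,46,2160,4),(3,47,4320,4),(3,48,17280,4),(3,49,4320,2),(3,33,8640,4),(3,34,2160,2),(3,41,8640,4),(3,50,2160,4),(3,51,2160,2),(3,52,360,2),(3,53,360,2),(3,54,720,4),(3,55,2160,4),(4,0,540,2),(4,1,34560,10),(4,2,8640,4),(4,3,34560,6),(4,4,540,1),(4,5,1080,2),(4,6,69120,12),(4,7,17280,6),(4,8,540,2),(4,9,8640,4),(4,10,34560,5),(4,11,34560,10),(4,12,34560,6),(4,13,17280,4),(4,14,69120,12),(4,15,4320,4),(4,16,4320,4),(4,17,34560,6),(4,18,34560,10),(4,19,17280,4),(4,20,17280,3),(4,21,8640,4),(4,22,17280,6),(4,23,17280,4),(4,26,8640,4),(4,27,4320,4),(4,43,34560,8)]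

/-- Expected total of chunk 3. -/
def zOut3 : List ℕ := [0,230031360,141557760,106168320,0,13271040,0,0,0,276480,0,0,0,414720,0,0,0,0,0,0,0,0,0,0,0,0,0,0,0,0,0,0,0,0,0,0,0,0,0,0,0,0,0,0,0,0,0,0,0,0,0,0,0,0,0,0,0,0,0,0,0,0,0,0,0,0,0,0,0,0,0,0,0,0,0,0,0,0,0]

/-- Chunk 4. -/
def zReps4 : List (ℕ × ℕ × ℕ × ℕ) := [(4,28,4320,4),(4,44,8640,4),(4,45,34560,6),(4,46,2160,4),(4,29,17280,4),(4,30,8640,4),(4,47,8640,4),(4,48,17280,4),(4,31,8640,4),(4,56,1080,2),(4,49,4320,2),(4,57,8640,4),(4,58,4320,2),(4,59,2160,2),(4,50,17280,3),(4,37,1080,2),(4,60,1080,2),(4,61,1080,2),(4,62,4320,4),(4,63,1080,2),(4,64,1080,2),(4,65,540,2),(4,66,2160,2),(4,67,2160,4),(4,68,2160,2),(4,69,2160,2),(4,70,8640,4),(4,71,8640,4),(4,72,8640,4),(4,73,17280,4),(4,74,2160,2),(4,75,2160,2),(4,76,4320,4),(4,77,1080,2),(4,78,1080,2),(4,79,2160,2),(4,80,2160,2),(4,81,1080,2),(4,82,2160,4),(4,83,4320,2),(4,84,2160,4),(4,85,2160,2),(4,86,2160,2),(4,87,2160,2),(4,88,2160,2),(5,0,18,2),(5,1,1080,2),(5,2,540,2),(5,3,4320,4),(5,4,1080,2),(5,5,18,1),(5,6,2160,4),(5,7,2160,4),(5,8,270,2)]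

/-- Expected total of chunk 4. -/
def zOut4 : List ℕ := [0,17694720,0,26542080,0,24330240,0,0,0,1935360,0,0,0,4008960,0,0,0,0,0,0,0,0,0,0,0,0,0,0,0,0,0,0,0,0,0,0,0,0,0,0,0,0,0,0,0,0,0,0,0,0,0,0,0,0,0,0,0,0,0,0,0,0,0,0,0,0,0,0,0,0,0,0,0,0,0,0,0,635904,0]

/-- Chunk 5. -/
def zReps5 : List (ℕ × ℕ × ℕ × ℕ) := [(5,9,2160,4),(5,10,4320,4),(5,11,2160,4),(5,12,2160,2),(5,13,2880,4),(5,16,270,2),(5,17,1440,2),(5,59,36,2),(6,0,360,2),(6,1,2160,2),(6,2,2160,4),(6,3,2160,2),(6,4,69120,12),(6,5,2160,4),(6,6,360,1),(6,7,34560,6),(6,8,8640,4),(6,9,69120,12),(6,10,17280,4),(6,11,17280,4),(6,12,2160,2),(6,13,34560,6),(6,14,17280,6),(6,15,1080,2),(6,16,2880,4),(6,18,4320,4),(6,19,34560,3),(6,20,8640,4),(6,21,4320,4),(6,22,2160,4),(6,23,17280,4),(6,24,2160,4),(6,25,2160,2),(6,26,4320,4),(6,27,8640,4),(6,43,4320,4),(6,44,17280,4),(6,45,4320,2),(6,46,1440,2),(6,29,8640,4),(6,30,8640,4),(6,47,4320,4),(6,48,34560,6),(6,31,34560,6),(6,32,4320,2),(6,56,4320,4),(6,57,8640,4),(6,58,17280,4),(6,35,5760,3),(6,38,4320,2),(6,89,4320,2),(6,90,1080,2),(6,91,1440,2)]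

/-- Expected total of chunk 5. -/
def zOut5 : List ℕ := [0,0,0,0,0,17694720,0,0,0,0,0,0,0,552960,0,0,0,0,0,0,0,1486080,0,0,0,0,0,0,0,0,0,0,0,0,0,0,0,0,0,0,0,0,0,0,0,0,0,0,0,0,0,0,0,0,0,0,0,0,0,0,0,0,0,0,0,0,0,0,0,0,0,0,0,0,0,0,0,175104,0]

/-- The expected totals. -/
def zTotal : List ℕ := [0,247726080,144506880,134922240,0,69120000,0,0,0,2488320,0,0,0,6592560,0,0,0,0,0,0,0,2229120,0,0,0,0,0,0,0,0,0,0,0,0,0,0,0,0,0,0,0,0,0,0,0,0,0,0,0,0,0,0,0,0,0,0,0,0,0,0,0,0,0,0,0,0,0,0,0,0,0,0,0,0,0,0,0,1951488,0]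

end CfsgLib.J4Order
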