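import Cfsg.Agent.J4Local.Order.ZRepData

/-!
Kernel checks of the tables for the pairs over the base hexad.
-/

set_option autoImplicit false
set_option maxRecDepth 100000

namespace CfsgLib.J4Order

theorem ck_zRepOK1 : ∀ r ∈ zReps1, repOK zTab r = true := by decide +kernel

theorem ck_zRun1 : repTotal zTab zReps1 = zOut1 := by decide +kernel

end CfsgLib.J4Order
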