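import Cfsg.Agent.J4Local.Order.ZTotal
import Cfsg.Agent.J4Local.Order.ZRepData
import Cfsg.Agent.J4Local.Order.ZQCheck
import Cfsg.Agent.J4Local.Order.ZCheck0
import Cfsg.Agent.J4Local.Order.ZCheck1
import Cfsg.Agent.J4Local.Order.ZCheck2
import Cfsg.Agent.J4Local.Order.ZCheck3
import Cfsg.Agent.J4Local.Order.ZCheck4
import Cfsg.Agent.J4Local.Order.ZCheck5
import Cfsg.Agent.J4Local.Order.ZRun0
import Cfsg.Agent.J4Local.Order.ZRun1
import Cfsg.Agent.J4Local.Order.ZRun2
import Cfsg.Agent.J4Local.Order.ZRun3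
import Cfsg.Agent.J4Local.Order.ZRun4
import Cfsg.Agent.J4Local.Order.ZRun5

/-!
The counts at the base hexad, and no forbidden pair, from the orbit list of pairs.
-/

set_option autoImplicit false
set_option maxRecDepth 100000

namespace CfsgLib.J4Order

open Cfsg CfsgLib.J4CentT CfsgLib.Golay CfsgLib.Golay.Cert MulAction

/-- The chunks of representative pairs with their totals. -/
def zChunks : List (List (ℕ × ℕ × ℕ × ℕ) × List ℕ) :=
  [(zReps0, zOut0), (zReps1, zOut1), (zReps2, zOut2), (zReps3, zOut3), (zReps4, zOut4), (zReps5, zOut5)]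

/-- All representative pairs as position lists with weights. -/
def zRepLists : List (List ℕ × List ℕ × ℕ) :=
  (zChunks.flatMap Prod.fst).map fun r => ((elAt zTab r.1).list, (elAt zTab r.2.1).list, r.2.2.1)

theorem ck_zOut : ∀ f < 79, (zChunks.map fun c => c.2.getD f 0).sum = zTotal.getD f 0 := by decide +kernel

theorem ck_zBad : ∀ c ∈ zChunks, c.2.getD 78 0 = 0 := by decide +kernel

theorem zTab_len : zTab.length = 92 ∧ zTab0.length = 16 ∧ zTab1.length = 16 ∧ zTab2.length = 16 ∧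
    zTab3.length = 16 ∧ zTab4.length = 16 := by decide +kernel

variable {G : Type*} [Group G] [Finite G] {z : G} {S : Setup z} {e : Fin 77 ≃ S.Hex}

theorem zel (hs : S.SplitFacts) (hz2 : S.rootZ 2) (he : S.IsEnum e) :
    ∀ k < zTab.length, ElFacts S e (elAt zTab k) := by
  intro k hk
  have hm : elAt zTab k ∈ zTab := by
    rw [elAt, List.getD_eq_getElem _ _ hk]; exact List.getElem_mem _
  have h : elOK (elAt zTab k) = true ∧ elScan (elAt zTab k) = true ∧
      groupsOK qTab (elAt zTab k).perm (elAt zTab k).groups = true := by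
    generalize elAt zTab k = a at hm
    simp only [zTab, List.mem_append] at hm
    rcases hm with ((((h | h) | h) | h) | h) | h
    · exact ⟨(ck_zEl0 a h).1, ck_zScan0 a h, (ck_zEl0 a h).2⟩
    · exact ⟨(ck_zEl1 a h).1, ck_zScan1 a h, (ck_zEl1 a h).2⟩
    · exact ⟨(ck_zEl2 a h).1, ck_zScan2 a h, (ck_zEl2 a h).2⟩
    · exact ⟨(ck_zEl3 a h).1, ck_zScan3 a h, (ck_zEl3 a h).2⟩
    · exact ⟨(ck_zEl4 a h).1, ck_zScan4 a h, (ck_zEl4 a h).2⟩
    · exact ⟨(ck_zEl5 a h).1, ck_zScan5 a h, (ck_zEl5 a h).2⟩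
  exact el_sound hs hz2 he ck_qs h.1 h.2.1 h.2.2

theorem zChunks_ok : ∀ c ∈ zChunks, (∀ r ∈ c.1, repOK zTab r = true) ∧ repTotal zTab c.1 = c.2 := by
  intro c hc
  simp only [zChunks, List.mem_cons, List.not_mem_nil, or_false] at hc
  rcases hc with rfl | rfl | rfl | rfl | rfl | rfl
  exacts [⟨ck_zRepOK0, ck_zRun0⟩, ⟨ck_zRepOK1, ck_zRun1⟩, ⟨ck_zRepOK2, ck_zRun2⟩, ⟨ck_zRepOK3, ck_zRun3⟩,
    ⟨ck_zRepOK4, ck_zRun4⟩, ⟨ck_zRepOK5, ck_zRun5⟩]

theorem sum_zRepLists (F : M24 → M24 → ℕ) :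
    (zRepLists.map fun r => r.2.2 * F (ofList r.1) (ofList r.2.1)).sum =
      (zChunks.map fun c => (c.1.map fun r => r.2.2.1 * F (elAt zTab r.1).sig (elAt zTab r.2.1).sig).sum).sum := by
  rw [zRepLists, List.map_map]
  generalize zChunks = l
  induction l with
  | nil => rfl
  | cons c l ih =>
    rw [List.flatMap_cons, List.map_append, List.sum_append, List.map_cons, List.sum_cons, ih]
    rfl

/-- The counts at the base. -/
theorem zCounts (hs : S.SplitFacts) (hz2 : S.rootZ 2) (he : S.IsEnum e) (I : Finset M24)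
    (hsum : ∀ F : M24 → M24 → ℕ, (∀ g, actG g zIdx = zIdx → ∀ σ τ, F (g * σ * g⁻¹) (g * τ * g⁻¹) = F σ τ) →
      ∑ σ ∈ I, ∑ τ ∈ I, F σ τ = (zRepLists.map fun r => r.2.2 * F (ofList r.1) (ofList r.2.1)).sum) :
    (∀ f, ∑ σ ∈ I, ∑ τ ∈ I, S.pairsAt f σ τ = (zTotal.take 78).getD f 0) ∧
      ∑ σ ∈ I, ∑ τ ∈ I, S.badAt σ τ = 0 := by
  have hel := zel hs hz2 he
  refine ⟨fun f => ?_, ?_⟩
  · rcases Nat.lt_or_ge f 78 with hf | hf
    · rw [hsum _ (fun g hg σ τ => pairsAt_conj f hg σ τ), sum_zRepLists]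
      have e1 : (zTotal.take 78).getD f 0 = zTotal.getD f 0 := by
        rw [List.getD_eq_getElem?_getD, List.getD_eq_getElem?_getD, List.getElem?_take, if_pos hf]
      rw [e1, ← ck_zOut f (by omega)]
      refine congrArg List.sum (List.map_congr_left fun c hc => ?_)
      obtain ⟨hok, htot⟩ := zChunks_ok c hc
      rw [← (repTotal_getD hel hok).1 f hf, htot]
    · rw [List.getD_eq_default _ _ (le_trans (List.length_take_le _ _) hf)]
      refine Finset.sum_eq_zero fun σ _ => Finset.sum_eq_zero fun τ _ => ?_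
      rw [Setup.pairsAt, Nat.card_eq_zero]
      left
      constructor
      rintro ⟨p, -, hp⟩
      have : S.fix (S.F.b p.1 * S.F.kap σ) (S.F.b p.2 * S.F.kap τ) ≤ 77 := by
        rw [← hs.card]; exact Nat.card_le_card_of_injective _ Subtype.val_injective
      omega
  · rw [hsum _ (fun g hg σ τ => badAt_conj hg σ τ), sum_zRepLists]
    refine List.sum_eq_zero fun x hx => ?_
    obtain ⟨c, hc, rfl⟩ := List.mem_map.mp hx
    obtain ⟨hok, htot⟩ := zChunks_ok c hc
    exact (repTotal_getD hel hok).2 (by rw [htot]; exact ck_zBad c hc)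

theorem no_forbidden (hs : S.SplitFacts) (hH : Nat.card ↥S.H = 21799895040) (I : Finset M24)
    (hI : ∀ σ, σ ∈ I ↔ σ * σ = 1 ∧ actG σ zIdx = zIdx) (hbad : ∑ σ ∈ I, ∑ τ ∈ I, S.badAt σ τ = 0)
    {u v : G} (hg : S.Good (u, v)) (hu : S.fix u u = 13) (hv : S.fix v v = 5) :
    ¬ ∀ ω : S.Hex, S.Fixes (u * v * (u * v)) ω := by
  classical
  intro hall
  obtain ⟨huH, hvH⟩ := mem_H_of_good hg
  obtain ⟨hu2, hv2⟩ := good_invol hg
  set U : ↥S.H := ⟨u, huH⟩
  set V : ↥S.H := ⟨v, hvH⟩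
  have hUU : U * U = 1 := Subtype.ext hu2
  have hVV : V * V = 1 := Subtype.ext hv2
  have hcomm : ∀ ω : S.Hex, U • V • ω = V • U • ω := by
    intro ω
    have h := (smul_eq_iff S (U * V * (U * V)) (V • U • ω)).mpr (hall _)
    rw [← mul_smul, ← mul_smul, show U * V * (U * V) * V * U = U * V * (U * (V * V) * U) by group, hVV,
      mul_one, hUU, mul_one, mul_smul] at h
    exact h
  -- the second fixes one of the thirteen
  haveI : Fintype {ω : S.Hex // S.Fixes u ω} := Fintype.ofFinite _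
  let f : {ω : S.Hex // S.Fixes u ω} → {ω : S.Hex // S.Fixes u ω} := fun ω => ⟨V • ω.1, by
    rw [← smul_eq_iff S U, hcomm, (smul_eq_iff S U ω.1).mpr ω.2]⟩
  have hf : Function.Involutive f := fun ω => Subtype.ext (by
    show V • V • ω.1 = ω.1
    rw [← mul_smul, hVV, one_smul])
  have hodd : ∃ ω, f ω = ω := by
    by_contra hne
    push Not at hne
    haveI : Fact (Nat.Prime 2) := ⟨Nat.prime_two⟩
    have h2 : (hf.toPerm) ^ 2 ^ 1 = 1 := Equiv.ext fun ω => by
      rw [pow_one, pow_two]; exact hf ω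
    have h := Equiv.Perm.card_compl_support_modEq (p := 2) h2
    rw [Finset.card_eq_zero.mpr (by
      refine Finset.eq_empty_of_forall_notMem fun ω hω => ?_
      rw [Finset.mem_compl, Equiv.Perm.notMem_support] at hω
      exact hne ω hω)] at h
    have hc : Fintype.card {ω : S.Hex // S.Fixes u ω} = 13 := by
      rw [← Nat.card_eq_fintype_card, ← hu]
      exact Nat.card_congr (Equiv.subtypeEquivRight fun ω => ⟨fun h => ⟨h, h⟩, fun h => h.1⟩)
    rw [hc] at h
    exact absurd h (by decide)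
  obtain ⟨⟨ω, hω⟩, hfix⟩ := hodd
  have hvω : S.Fixes v ω := (smul_eq_iff S V ω).mp (congrArg Subtype.val hfix)
  obtain ⟨a, rfl⟩ := exists_smul_base S ω
  have key : ∀ d : G, S.Fixes d (a • S.base) → S.Fixes ((a : G)⁻¹ * d * a) S.base := by
    intro d h
    simp only [Setup.Fixes, Subgroup.mem_normalizer_iff, smul_val, mem_conj_map] at h ⊢
    intro x
    have := h ((a : G) * x * (a : G)⁻¹)
    simpa [mul_assoc] using this
  have hai : (a : G)⁻¹ ∈ S.H := inv_mem a.2
  have hg' : S.Good ((a : G)⁻¹ * u * a, (a : G)⁻¹ * v * a) := by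
    have := (good_conj hai (u, v)).mpr hg
    simpa only [inv_inv] using this
  have hu' : S.fix ((a : G)⁻¹ * u * a) ((a : G)⁻¹ * u * a) = 13 := by
    have := fix_conj S hai u u
    simp only [inv_inv] at this
    rw [this, hu]
  have hv' : S.fix ((a : G)⁻¹ * v * a) ((a : G)⁻¹ * v * a) = 5 := by
    have := fix_conj S hai v v
    simp only [inv_inv] at this
    rw [this, hv]
  obtain ⟨h1, h2⟩ := mem_H_of_good hg'
  obtain ⟨i, hi, σ, hσ, eu⟩ := (mem_H0_iff S).mp (mem_H0_of_fixes hs hH h1 (key u hω))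
  obtain ⟨j, hj, τ, hτ, ev⟩ := (mem_H0_iff S).mp (mem_H0_of_fixes hs hH h2 (key v hvω))
  obtain ⟨su, sv⟩ := good_invol hg'
  have inv_of : ∀ {k : ℕ} {π : M24}, k < 2048 → S.F.b k * S.F.kap π * (S.F.b k * S.F.kap π) = 1 →
      π * π = 1 := by
    intro k π hk h
    rw [S.F.mul_form π π hk hk] at h
    exact (S.F.form_inj (j := 0) (τ := 1) (xor_lt hk (act_lt _ _)) (by norm_num)
      (by rw [S.F.b_zero, map_one, mul_one]; exact h)).2
  have hσI : σ ∈ I := (hI σ).mpr ⟨inv_of hi (eu ▸ su), hσ⟩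
  have hτI : τ ∈ I := (hI τ).mpr ⟨inv_of hj (ev ▸ sv), hτ⟩
  have h0 := (Finset.sum_eq_zero_iff.mp ((Finset.sum_eq_zero_iff.mp hbad) σ hσI)) τ hτI
  rw [Setup.badAt, Nat.card_eq_zero] at h0
  rcases h0 with h0 | h0
  · refine h0.false ⟨(⟨i, hi⟩, ⟨j, hj⟩), ?_, ?_, ?_, fun ω => ?_⟩
    · show S.Good (S.F.b i * S.F.kap σ, S.F.b j * S.F.kap τ)
      rw [← eu, ← ev]; exact hg'
    · show S.fix (S.F.b i * S.F.kap σ) (S.F.b i * S.F.kap σ) = 13
      rw [← eu]; exact hu'
    · show S.fix (S.F.b j * S.F.kap τ) (S.F.b j * S.F.kap τ) = 5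
      rw [← ev]; exact hv'
    · show S.Fixes (S.F.b i * S.F.kap σ * (S.F.b j * S.F.kap τ) * (S.F.b i * S.F.kap σ * (S.F.b j * S.F.kap τ))) ω
      rw [← eu, ← ev, show (a : G)⁻¹ * u * a * ((a : G)⁻¹ * v * a) * ((a : G)⁻¹ * u * a * ((a : G)⁻¹ * v * a)) =
        (a : G)⁻¹ * (u * v * (u * v)) * a by group]
      have h := hall (a • ω)
      revert h
      generalize u * v * (u * v) = d
      intro h
      simp only [Setup.Fixes, Subgroup.mem_normalizer_iff, smul_val, mem_conj_map] at h ⊢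
      intro x
      have := h ((a : G) * x * (a : G)⁻¹)
      simpa [mul_assoc] using this
  · exact absurd h0 (not_infinite_iff_finite.mpr inferInstance)

end CfsgLib.J4Order
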