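import Cfsg.Agent.J4Local.Order.ZSound
import Cfsg.Agent.J4Local.Order.Fibre
import Cfsg.Agent.J4Local.Order.Power

/-!
The computed counts are the numbers of pairs.
-/

set_option autoImplicit false
set_option maxRecDepth 100000

namespace CfsgLib.J4Order

open Cfsg CfsgLib.J4CentT CfsgLib.Golay CfsgLib.Golay.Cert MulAction

theorem powL_eq {L : List ℕ} {ρ : M24} (hL : toList ρ.1 = L) : ∀ m, toList (ρ ^ m).1 = powL L m
  | 0 => by rw [pow_zero]; exact toList_one
  | m + 1 => by rw [pow_succ', Subgroup.coe_mul, toList_mul, powL_eq hL m, hL]; rfl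

theorem nsumL_eq {L : List ℕ} {ρ : M24} (hL : toList ρ.1 = L) (a : ℕ) : ∀ m, Nsum ρ m a = nsumL L m a
  | 0 => rfl
  | m + 1 => by
    show Nat.xor a (actG ρ (Nsum ρ m a)) = Nat.xor a (act L (nsumL L m a))
    rw [nsumL_eq hL a m, actG, hL]

theorem sum_flatMap_groups {α : Type} (gs : List α) (f : α → List ℕ) (h : ℕ → ℕ) :
    ((gs.flatMap f).map h).sum = (gs.map fun g => ((f g).map h).sum).sum := by
  induction gs with
  | nil => rfl
  | cons g gs ih => rw [List.flatMap_cons, List.map_append, List.sum_append, List.map_cons, List.sum_cons, ih]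

theorem sum_range_list {l : List ℕ} (hnd : l.Nodup) (hlt : ∀ i ∈ l, i < 2048) (h : ℕ → ℕ) :
    (∑ i : Fin 2048, if (i : ℕ) ∈ l then h i else 0) = (l.map h).sum := by
  classical
  rw [← List.sum_toFinset h hnd, Fin.sum_univ_eq_sum_range (fun i => if i ∈ l then h i else 0) 2048,
    ← Finset.sum_filter]
  refine Finset.sum_congr ?_ fun _ _ => rfl
  ext i
  simp only [Finset.mem_filter, Finset.mem_range, List.mem_toFinset]
  exact ⟨fun a => a.2, fun a => ⟨hlt i a, a⟩⟩

theorem sum_eq_count (f : ℕ → ℕ) (l : List ℕ) (c : ℕ) :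
    (l.map fun j => if f j = c then 1 else 0).sum = (l.map f).count c := by
  induction l with
  | nil => rfl
  | cons a l ih =>
    rw [List.map_cons, List.sum_cons, List.map_cons, List.count_cons, ih]
    by_cases h : f a = c <;> simp [h, add_comm]

theorem sum_contrib (C Cs : List ℕ) (g1 g2 : List ZGroup) (f : ℕ) (hf : f < 78) :
    ((contribs C Cs g1 g2).map fun p => if p.1 = f then p.2 else 0).sum =
      (g2.map fun b => (g1.map fun a => if wt 77 (Nat.land a.fixed b.fixed) = f then
        (a.zs.map fun i => hget (hist (b.ts.map fun j => comb C (comb Cs j))) (Nat.xor zIdx (comb C i))).sum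
        else 0).sum).sum := by
  have hh : (f = 78) = False := eq_false (by omega)
  simp only [contribs]
  induction g2 with
  | nil => rfl
  | cons b g2 ih =>
    simp only [List.flatMap_cons, List.map_append, List.sum_append, List.map_cons, List.sum_cons, ih]
    congr 1
    clear ih
    induction g1 with
    | nil => rfl
    | cons a g1 ih' =>
      simp only [List.flatMap_cons, List.map_append, List.sum_append, List.map_cons, List.sum_cons]
      refine congrArg₂ (· + ·) ?_ ih'
      · generalize (a.zs.map fun i => hget (hist (b.ts.map fun j => comb C (comb Cs j)))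
            (Nat.xor zIdx (comb C i))).sum = n
        by_cases hn : n = 0
        · subst hn; simp
        rw [if_neg (by simpa using hn)]
        by_cases hb : (wt 77 a.fixed == 13 && wt 77 b.fixed == 5 && commOK a.perm b.perm) = true
        · rw [if_pos hb]; simp [show ¬ (78 = f) by omega]
        · rw [if_neg hb]; simp

variable {G : Type*} [Group G] [Finite G] {z : G} {S : Setup z} {e : Fin 77 ≃ S.Hex}

theorem fix_eq_wt {u v : G} {P Q M N : ℕ}
    (hu : S.Acts e u P) (hv : S.Acts e v Q) (hM : ∀ k < 77, (M.testBit k = true ↔ pget P k = k))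
    (hN : ∀ k < 77, (N.testBit k = true ↔ pget Q k = k)) : S.fix u v = wt 77 (Nat.land M N) := by
  classical
  rw [← card_range_testBit 77, Setup.fix, ← Nat.card_congr (Equiv.subtypeEquiv e
    (p := fun k => S.Fixes u (e k) ∧ S.Fixes v (e k)) (fun k => Iff.rfl)), Nat.card_eq_fintype_card,
    Fintype.card_subtype]
  refine Finset.card_bij (fun k _ => (k : ℕ)) (fun k hk => ?_) (fun a _ b _ h => Fin.ext h) (fun k hk => ?_)
  · obtain ⟨h1, h2⟩ := (Finset.mem_filter.mp hk).2
    refine Finset.mem_filter.mpr ⟨Finset.mem_range.mpr k.2, ?_⟩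
    show (M &&& N).testBit k = true
    rw [Nat.testBit_and, Bool.and_eq_true, hM k k.2, hN k k.2]
    exact ⟨(Acts.fixes hu k).mp h1, (Acts.fixes hv k).mp h2⟩
  · obtain ⟨hk', hb⟩ := Finset.mem_filter.mp hk
    rw [Finset.mem_range] at hk'
    change (M &&& N).testBit k = true at hb
    rw [Nat.testBit_and, Bool.and_eq_true, hM k hk', hN k hk'] at hb
    exact ⟨⟨k, hk'⟩, Finset.mem_filter.mpr ⟨Finset.mem_univ _, (Acts.fixes hu _).mpr hb.1,
      (Acts.fixes hv _).mpr hb.2⟩, rfl⟩

/-- The facts of a representative pair. -/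
theorem pairs_rep {a b : ZEl} (ha : ElFacts S e a) (hb : ElFacts S e b) {m : ℕ} (hm0 : 0 < m)
    (hpow : powL (compL a.list b.list) m = List.range 24)
    (hmin : ∀ k, 0 < k → k < m → powL (compL a.list b.list) k ≠ List.range 24)
    (hlen : ∀ g ∈ b.groups, g.ts.length < 256) (f : ℕ) (hf : f < 78) :
    ((contribs ((List.range 11).map fun k => nsumL (compL a.list b.list) m (2 ^ k)) (colsOf a.list)
      a.groups b.groups).map fun p => if p.1 = f then p.2 else 0).sum = S.pairsAt f a.sig b.sig := by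
  classical
  set σ := a.sig with hσ
  set τ := b.sig with hτ
  set L := compL a.list b.list with hLdef
  have hL : toList (σ * τ).1 = L := by
    rw [Subgroup.coe_mul, toList_mul, hσ, hτ, ZEl.sig, ZEl.sig, toList_ofList ha.gen, toList_ofList hb.gen]
  have hord : orderOf (σ * τ) = m := (orderOf_eq_iff hm0).mpr ⟨list_id (by rw [powL_eq hL]; exact hpow),
    fun k hk hk0 h => hmin k hk0 hk (by
      rw [← powL_eq hL, h]; exact toList_one)⟩
  set C := (List.range 11).map fun k => nsumL L m (2 ^ k) with hC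
  have hN0 : ∀ n, Nsum (σ * τ) n 0 = 0 := by
    intro n
    induction n with
    | zero => rfl
    | succ n ih =>
      show Nat.xor 0 (actG (σ * τ) (Nsum (σ * τ) n 0)) = 0
      rw [ih, actG, act_zero]; rfl
  have hNadd : ∀ n x y, x < 2048 → y < 2048 →
      Nsum (σ * τ) n (x ^^^ y) = Nsum (σ * τ) n x ^^^ Nsum (σ * τ) n y := by
    intro n x y hx hy
    induction n with
    | zero => simp [Nsum]
    | succ n ih =>
      show (x ^^^ y) ^^^ actG (σ * τ) (Nsum (σ * τ) n (x ^^^ y)) =
        (x ^^^ actG (σ * τ) (Nsum (σ * τ) n x)) ^^^ (y ^^^ actG (σ * τ) (Nsum (σ * τ) n y))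
      rw [ih, S.F.act_xor _ (Nsum_lt _ hx n) (Nsum_lt _ hy n)]
      ac_rfl
  have hNC : ∀ i < 2048, comb C i = Nsum (σ * τ) m i := by
    intro i hi
    rw [nsumL_eq hL]
    exact comb_cols 11 (fun j => nsumL L m j) (by rw [← nsumL_eq hL]; exact hN0 m)
      (fun x y hx hy => by simp only [← nsumL_eq hL]; exact hNadd m x y hx hy) i hi
  let cond : ℕ → ℕ → Prop := fun i j => Nsum (σ * τ) m i ^^^ Nsum (σ * τ) m (actG σ j) = zIdx
  have hgood : ∀ i < 2048, ∀ j < 2048, S.Good (S.F.b i * S.F.kap σ, S.F.b j * S.F.kap τ) ↔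
      i ∈ a.allZ ∧ j ∈ b.allT ∧ cond i j := by
    intro i hi j hj
    rw [ha.memZ i hi, hb.memT j hj]
    have hz : S.w ∈ Subgroup.zpowers (S.F.b i * S.F.kap σ * (S.F.b j * S.F.kap τ)) ↔ cond i j := by
      rw [pair_zpowers_iff S.F σ τ hi hj ck_zIdx.1 (by decide +kernel) hord,
        show Nat.xor i (actG σ j) = i ^^^ actG σ j from rfl, hNadd m _ _ hi (act_lt _ _)]
    constructor
    · rintro ⟨h1, h2, h3, h4⟩; exact ⟨h1, ⟨h2, h3⟩, hz.mp h4⟩
    · rintro ⟨h1, ⟨h2, h3⟩, h4⟩; exact ⟨h1, h2, h3, hz.mpr h4⟩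
  rw [sum_contrib _ _ _ _ _ hf]
  symm
  rw [Setup.pairsAt, Nat.card_eq_fintype_card, Fintype.card_subtype, Finset.card_filter, Fintype.sum_prod_type,
    Finset.sum_comm]
  set val : ℕ → ℕ → ℕ := fun i j =>
    if cond i j ∧ S.fix (S.F.b i * S.F.kap σ) (S.F.b j * S.F.kap τ) = f then 1 else 0 with hval
  have hsum : (∑ j : Fin 2048, ∑ i : Fin 2048, (if S.Good (S.F.b i * S.F.kap σ, S.F.b j * S.F.kap τ) ∧
      S.fix (S.F.b i * S.F.kap σ) (S.F.b j * S.F.kap τ) = f then 1 else 0)) =
      (b.allT.map fun j => (a.allZ.map fun i => val i j).sum).sum := by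
    rw [← sum_range_list hb.ndT hb.ltT]
    refine Finset.sum_congr rfl fun j _ => ?_
    split
    · rename_i hjT
      rw [← sum_range_list ha.ndZ ha.ltZ]
      refine Finset.sum_congr rfl fun i _ => ?_
      rw [hval]
      simp only [hgood i i.2 j j.2]
      by_cases hiZ : (i : ℕ) ∈ a.allZ <;> simp [hiZ, hjT]
    · rename_i hjT
      refine Finset.sum_eq_zero fun i _ => ?_
      rw [if_neg fun h => hjT ((hgood i i.2 j j.2).mp h.1).2.1]
  rw [hsum, ZEl.allT, sum_flatMap_groups]
  refine congrArg List.sum (List.map_congr_left fun gb hgb => ?_)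
  have hswap : ∀ (gs : List ZGroup) (js : List ℕ) (F : ℕ → ℕ → ℕ),
      (js.map fun j => ((gs.flatMap ZGroup.zs).map fun i => F i j).sum).sum =
        (gs.map fun g => (g.zs.map fun i => (js.map fun j => F i j).sum).sum).sum := by
    intro gs js F
    induction js with
    | nil => simp
    | cons j js ih =>
      rw [List.map_cons, List.sum_cons, ih, sum_flatMap_groups, ← List.sum_map_add]
      refine congrArg List.sum (List.map_congr_left fun g _ => ?_)
      rw [← List.sum_map_add]
      simp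
  rw [ZEl.allZ, hswap]
  refine congrArg List.sum (List.map_congr_left fun ga hga => ?_)
  have hfix : ∀ i ∈ ga.zs, ∀ j ∈ gb.ts, S.fix (S.F.b i * S.F.kap σ) (S.F.b j * S.F.kap τ) =
      wt 77 (Nat.land ga.fixed gb.fixed) := fun i hi j hj =>
    fix_eq_wt (ha.acts ga hga i (List.mem_append_left _ hi))
      (hb.acts gb hgb j (List.mem_append_right _ hj)) (ha.mask ga hga).2 (hb.mask gb hgb).2
  by_cases hw : wt 77 (Nat.land ga.fixed gb.fixed) = f
  · rw [if_pos hw]
    refine congrArg List.sum (List.map_congr_left fun i hi => ?_)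
    have hiZ : i < 2048 := ha.ltZ i (List.mem_flatMap.mpr ⟨ga, hga, hi⟩)
    rw [hget_hist _ _ (by rw [List.length_map]; exact hlen gb hgb), ← sum_eq_count]
    refine congrArg List.sum (List.map_congr_left fun j hj => ?_)
    have hjT : j < 2048 := hb.ltT j (List.mem_flatMap.mpr ⟨gb, hgb, hj⟩)
    simp only [hval, cond, hfix i hi j hj, hw, and_true, ha.cols j hjT, hNC _ (act_lt _ _), hNC i hiZ]
    refine if_congr ⟨fun h => ?_, fun h => ?_⟩ rfl rfl
    · show Nsum (σ * τ) m (actG σ j) = zIdx ^^^ Nsum (σ * τ) m i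
      rw [← h, Nat.xor_comm (Nsum (σ * τ) m i), Nat.xor_assoc, Nat.xor_self, Nat.xor_zero]
    · rw [h]
      show Nsum (σ * τ) m i ^^^ (zIdx ^^^ Nsum (σ * τ) m i) = zIdx
      rw [Nat.xor_comm zIdx, ← Nat.xor_assoc, Nat.xor_self, Nat.zero_xor]
  · rw [if_neg hw]
    refine List.sum_eq_zero fun x hx => ?_
    obtain ⟨i, hi, rfl⟩ := List.mem_map.mp hx
    refine List.sum_eq_zero fun y hy => ?_
    obtain ⟨j, hj, rfl⟩ := List.mem_map.mp hy
    rw [hval]
    simp only [hfix i hi j hj, hw, and_false, if_false]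

end CfsgLib.J4Order
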