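import Cfsg.Agent.J4Local.Order.ZPairs

/-!
From checked tables to the counts at the base hexad and the absence of the forbidden kind of pair.
-/

set_option autoImplicit false
set_option maxRecDepth 100000

namespace CfsgLib.J4Order

open Cfsg CfsgLib.J4CentT CfsgLib.Golay CfsgLib.Golay.Cert MulAction

/-- The entry with a given number. -/
def elAt (tab : List ZEl) (k : ℕ) : ZEl := tab.getD k ⟨[], 0, [], [], 0, []⟩

theorem contribs_bad {C Cs : List ℕ} {g1 g2 : List ZGroup} {a b : ZGroup} (ha : a ∈ g1) (hb : b ∈ g2)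
    (hn : (a.zs.map fun i => hget (hist (b.ts.map fun j => comb C (comb Cs j))) (Nat.xor zIdx (comb C i))).sum ≠ 0)
    (h : (wt 77 a.fixed == 13 && wt 77 b.fixed == 5 && commOK a.perm b.perm) = true) :
    0 < ((contribs C Cs g1 g2).map fun p => if p.1 = 78 then p.2 else 0).sum := by
  refine lt_of_lt_of_le (Nat.pos_of_ne_zero hn) (List.single_le_sum (fun x _ => Nat.zero_le x) _ ?_)
  refine List.mem_map.mpr ⟨(78, (a.zs.map fun i =>
    hget (hist (b.ts.map fun j => comb C (comb Cs j))) (Nat.xor zIdx (comb C i))).sum), ?_, by simp⟩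
  simp only [contribs, List.mem_flatMap]
  refine ⟨b, hb, a, ha, ?_⟩
  rw [if_neg (by simpa using hn), if_pos h]
  simp

variable {G : Type*} [Group G] [Finite G] {z : G} {S : Setup z} {e : Fin 77 ≃ S.Hex}

/-- The forbidden pairs with given parts. -/
noncomputable def Setup.badAt (S : Setup z) (σ τ : M24) : ℕ :=
  Nat.card {p : Fin 2048 × Fin 2048 // S.Good (S.F.b p.1 * S.F.kap σ, S.F.b p.2 * S.F.kap τ) ∧
    S.fix (S.F.b p.1 * S.F.kap σ) (S.F.b p.1 * S.F.kap σ) = 13 ∧
    S.fix (S.F.b p.2 * S.F.kap τ) (S.F.b p.2 * S.F.kap τ) = 5 ∧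
    ∀ ω : S.Hex, S.Fixes (S.F.b p.1 * S.F.kap σ * (S.F.b p.2 * S.F.kap τ) *
      (S.F.b p.1 * S.F.kap σ * (S.F.b p.2 * S.F.kap τ))) ω}

theorem badAt_conj {g : M24} (hg : actG g zIdx = zIdx) (σ τ : M24) :
    S.badAt (g * σ * g⁻¹) (g * τ * g⁻¹) = S.badAt σ τ := by
  symm
  let a : Fin 2048 → Fin 2048 := fun i => ⟨actG g i, act_lt _ _⟩
  have ha : Function.Bijective a :=
    Finite.injective_iff_bijective.mp fun i j h => Fin.ext (actG_inj S g i.2 j.2 (congrArg Fin.val h))
  have hgH : S.F.kap g ∈ S.H := kap_mem_H hg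
  refine Nat.card_congr (Equiv.subtypeEquiv ((Equiv.ofBijective a ha).prodCongr (Equiv.ofBijective a ha)) fun p => ?_)
  show _ ↔ S.Good (S.F.b (actG g p.1) * S.F.kap (g * σ * g⁻¹), S.F.b (actG g p.2) * S.F.kap (g * τ * g⁻¹)) ∧
    S.fix (S.F.b (actG g p.1) * S.F.kap (g * σ * g⁻¹)) (S.F.b (actG g p.1) * S.F.kap (g * σ * g⁻¹)) = 13 ∧
    S.fix (S.F.b (actG g p.2) * S.F.kap (g * τ * g⁻¹)) (S.F.b (actG g p.2) * S.F.kap (g * τ * g⁻¹)) = 5 ∧
    ∀ ω : S.Hex, S.Fixes (S.F.b (actG g p.1) * S.F.kap (g * σ * g⁻¹) * (S.F.b (actG g p.2) * S.F.kap (g * τ * g⁻¹)) *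
      (S.F.b (actG g p.1) * S.F.kap (g * σ * g⁻¹) * (S.F.b (actG g p.2) * S.F.kap (g * τ * g⁻¹)))) ω
  rw [← S.F.conj_kap g σ p.1.2, ← S.F.conj_kap g τ p.2.2,
    good_conj hgH (S.F.b p.1 * S.F.kap σ, S.F.b p.2 * S.F.kap τ), fix_conj S hgH, fix_conj S hgH]
  refine and_congr Iff.rfl (and_congr Iff.rfl (and_congr Iff.rfl ?_))
  generalize S.F.b p.1 * S.F.kap σ = u
  generalize S.F.b p.2 * S.F.kap τ = v
  generalize hk : S.F.kap g = k at hgH ⊢
  have key : ∀ ω : S.Hex, S.Fixes (u * v * (u * v)) ω ↔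
      S.Fixes (k * u * k⁻¹ * (k * v * k⁻¹) * (k * u * k⁻¹ * (k * v * k⁻¹))) ((⟨k, hgH⟩ : ↥S.H) • ω) := by
    intro ω
    rw [show k * u * k⁻¹ * (k * v * k⁻¹) * (k * u * k⁻¹ * (k * v * k⁻¹)) = k * (u * v * (u * v)) * k⁻¹ by group]
    generalize u * v * (u * v) = d
    simp only [Setup.Fixes, Subgroup.mem_normalizer_iff, smul_val, mem_conj_map]
    constructor
    · intro H x
      have := H (k⁻¹ * x * k)
      simpa [mul_assoc] using this
    · intro H x
      have := H (k * x * k⁻¹)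
      simpa [mul_assoc] using this
  constructor
  · intro h ω
    have := (key ((⟨k, hgH⟩ : ↥S.H)⁻¹ • ω)).mp (h _)
    rwa [smul_inv_smul] at this
  · intro h ω
    exact (key ω).mpr (h _)

theorem fix_self_eq_wt {u : G} {P M : ℕ} (hu : S.Acts e u P)
    (hM : ∀ k < 77, (M.testBit k = true ↔ pget P k = k)) : S.fix u u = wt 77 M := by
  rw [fix_eq_wt hu hu hM hM]
  exact congrArg _ (Nat.and_self M)

theorem bad_rep {a b : ZEl} (ha : ElFacts S e a) (hb : ElFacts S e b) {m : ℕ} (hm0 : 0 < m)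
    (hpow : powL (compL a.list b.list) m = List.range 24)
    (hmin : ∀ k, 0 < k → k < m → powL (compL a.list b.list) k ≠ List.range 24)
    (hlen : ∀ g ∈ b.groups, g.ts.length < 256)
    (hzero : ((contribs ((List.range 11).map fun k => nsumL (compL a.list b.list) m (2 ^ k)) (colsOf a.list)
      a.groups b.groups).map fun p => if p.1 = 78 then p.2 else 0).sum = 0) :
    S.badAt a.sig b.sig = 0 := by
  rw [Setup.badAt, Nat.card_eq_zero]
  left
  constructor
  rintro ⟨⟨i, j⟩, hg, h13, h5, hall⟩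
  change S.Good (S.F.b i * S.F.kap a.sig, S.F.b j * S.F.kap b.sig) at hg
  change S.fix (S.F.b i * S.F.kap a.sig) (S.F.b i * S.F.kap a.sig) = 13 at h13
  change S.fix (S.F.b j * S.F.kap b.sig) (S.F.b j * S.F.kap b.sig) = 5 at h5
  change ∀ ω : S.Hex, S.Fixes (S.F.b i * S.F.kap a.sig * (S.F.b j * S.F.kap b.sig) *
      (S.F.b i * S.F.kap a.sig * (S.F.b j * S.F.kap b.sig))) ω at hall
  obtain ⟨hu2, hv2⟩ := good_invol hg
  obtain ⟨h1, h2, h3, hw⟩ := hg
  obtain ⟨ga, hga, hi⟩ := List.mem_flatMap.mp ((ha.memZ i i.2).mpr h1)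
  obtain ⟨gb, hgb, hj⟩ := List.mem_flatMap.mp ((hb.memT j j.2).mpr ⟨h2, h3⟩)
  have hu := ha.acts ga hga i (List.mem_append_left _ hi)
  have hv := hb.acts gb hgb j (List.mem_append_right _ hj)
  rw [fix_self_eq_wt hu (ha.mask ga hga).2] at h13
  rw [fix_self_eq_wt hv (hb.mask gb hgb).2] at h5
  have hcomm : commOK ga.perm gb.perm = true := by
    simp only [commOK, List.all_eq_true, List.mem_range, beq_iff_eq]
    intro k hk
    obtain ⟨hd, hP⟩ := hu
    obtain ⟨hd', hQ⟩ := hv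
    obtain ⟨l1, e1⟩ := hQ ⟨k, hk⟩
    obtain ⟨l2, e2⟩ := hP ⟨_, l1⟩
    obtain ⟨l3, e3⟩ := hP ⟨k, hk⟩
    obtain ⟨l4, e4⟩ := hQ ⟨_, l3⟩
    set U : ↥S.H := ⟨_, hd⟩
    set V : ↥S.H := ⟨_, hd'⟩
    have hfix := (smul_eq_iff S (U * V * (U * V)) ((V * U) • e ⟨k, hk⟩)).mpr (hall _)
    have hUU : U * U = 1 := Subtype.ext hu2
    have hVV : V * V = 1 := Subtype.ext hv2
    rw [smul_smul, show U * V * (U * V) * (V * U) = U * V * (U * (V * V) * U) by group, hVV, mul_one, hUU, mul_one,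
      mul_smul, mul_smul, e1, e2, e3, e4] at hfix
    exact congrArg Fin.val (e.injective hfix)
  have hpos : (ga.zs.map fun i => hget (hist (gb.ts.map fun j =>
      comb ((List.range 11).map fun k => nsumL (compL a.list b.list) m (2 ^ k)) (comb (colsOf a.list) j)))
      (Nat.xor zIdx (comb ((List.range 11).map fun k => nsumL (compL a.list b.list) m (2 ^ k)) i))).sum ≠ 0 := by
    intro h0
    have hz := List.sum_eq_zero_iff.mp h0 _ (List.mem_map.mpr ⟨i, hi, rfl⟩)
    rw [hget_hist _ _ (by rw [List.length_map]; exact hlen gb hgb), List.count_eq_zero] at hz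
    refine hz (List.mem_map.mpr ⟨j, hj, ?_⟩)
    set σ := a.sig with hσ
    set τ := b.sig with hτ
    have hL : toList (σ * τ).1 = compL a.list b.list := by
      rw [Subgroup.coe_mul, toList_mul, hσ, hτ, ZEl.sig, ZEl.sig, toList_ofList ha.gen, toList_ofList hb.gen]
    have hord : orderOf (σ * τ) = m := (orderOf_eq_iff hm0).mpr ⟨list_id (by rw [powL_eq hL]; exact hpow),
      fun k hk hk0 h => hmin k hk0 hk (by rw [← powL_eq hL, h]; exact toList_one)⟩
    change S.w ∈ Subgroup.zpowers (S.F.b i * S.F.kap σ * (S.F.b j * S.F.kap τ)) at hw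
    rw [pair_zpowers_iff S.F σ τ i.2 j.2 ck_zIdx.1 (by decide +kernel) hord] at hw
    have hadd : ∀ n x y, x < 2048 → y < 2048 →
        Nsum (σ * τ) n (x ^^^ y) = Nsum (σ * τ) n x ^^^ Nsum (σ * τ) n y := by
      intro n x y hx hy
      induction n with
      | zero => simp [Nsum]
      | succ n ih =>
        show (x ^^^ y) ^^^ actG (σ * τ) (Nsum (σ * τ) n (x ^^^ y)) =
          (x ^^^ actG (σ * τ) (Nsum (σ * τ) n x)) ^^^ (y ^^^ actG (σ * τ) (Nsum (σ * τ) n y))
        rw [ih, S.F.act_xor _ (Nsum_lt _ hx n) (Nsum_lt _ hy n)]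
        ac_rfl
    have hN0 : Nsum (σ * τ) m 0 = 0 := by
      have := hadd m 0 0 (by norm_num) (by norm_num)
      simpa using this
    have hNC : ∀ x < 2048, comb ((List.range 11).map fun k => nsumL (compL a.list b.list) m (2 ^ k)) x =
        Nsum (σ * τ) m x := fun x hx => by
      rw [nsumL_eq hL]
      exact comb_cols 11 (fun y => nsumL (compL a.list b.list) m y) (by rw [← nsumL_eq hL]; exact hN0)
        (fun x y hx hy => by simp only [← nsumL_eq hL]; exact hadd m x y hx hy) x hx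
    rw [show Nat.xor i (actG σ j) = (i : ℕ) ^^^ actG σ j from rfl, hadd m _ _ i.2 (act_lt _ _)] at hw
    rw [hb.cols j j.2 |> fun _ => ha.cols j j.2, hNC _ (act_lt _ _), hNC _ i.2]
    show Nsum (σ * τ) m (actG σ j) = zIdx ^^^ Nsum (σ * τ) m i
    rw [← hw, Nat.xor_comm (Nsum (σ * τ) m i), Nat.xor_assoc, Nat.xor_self, Nat.xor_zero]
  exact absurd hzero (contribs_bad hga hgb hpos (by simp [h13, h5, hcomm])).ne'

theorem repTotal_length (tab : List ZEl) : ∀ rs, (repTotal tab rs).length = 79 := by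
  intro rs
  induction rs with
  | nil => rfl
  | cons r rs ih =>
    rw [repTotal, List.foldr_cons, repAdd]
    have : ∀ (ps : List (ℕ × ℕ)) (acc : List ℕ),
        (ps.foldl (fun a p => addAt a p.1 (r.2.2.1 * p.2)) acc).length = acc.length := by
      intro ps
      induction ps with
      | nil => intro acc; rfl
      | cons p ps ihp => intro acc; rw [List.foldl_cons, ihp, addAt_length]
    rw [this]; exact ih

theorem repTotal_getD {tab : List ZEl} (hel : ∀ k < tab.length, ElFacts S e (elAt tab k))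
    {rs : List (ℕ × ℕ × ℕ × ℕ)} (hok : ∀ r ∈ rs, repOK tab r = true) :
    (∀ f < 78, (repTotal tab rs).getD f 0 =
      (rs.map fun r => r.2.2.1 * S.pairsAt f (elAt tab r.1).sig (elAt tab r.2.1).sig).sum) ∧
    ((repTotal tab rs).getD 78 0 = 0 →
      (rs.map fun r => r.2.2.1 * S.badAt (elAt tab r.1).sig (elAt tab r.2.1).sig).sum = 0) := by
  induction rs with
  | nil => exact ⟨fun f hf => by
    rw [repTotal, List.foldr_nil, zeros, List.getD_eq_getElem _ _ (by rw [List.length_replicate]; omega),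
      List.getElem_replicate]
    rfl, fun _ => rfl⟩
  | cons r rs ih =>
    obtain ⟨ih1, ih2⟩ := ih fun x hx => hok x (List.mem_cons_of_mem _ hx)
    have h := hok r List.mem_cons_self
    simp only [repOK, Bool.and_eq_true, decide_eq_true_eq, beq_iff_eq, List.all_eq_true, List.mem_range,
      Bool.or_eq_true, Bool.not_eq_true', beq_eq_false_iff_ne] at h
    obtain ⟨⟨⟨⟨⟨h1, h2⟩, hm⟩, hpow⟩, hmin⟩, hlen⟩ := h
    have hmin' : ∀ k, 0 < k → k < r.2.2.2 → powL (compL (elAt tab r.1).list (elAt tab r.2.1).list) k ≠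
        List.range 24 := fun k hk0 hk => (hmin k hk).resolve_left hk0.ne'
    have hacc : ∀ g < 79, (repTotal tab (r :: rs)).getD g 0 = (repTotal tab rs).getD g 0 + r.2.2.1 *
        ((contribs ((List.range 11).map fun k => nsumL (compL (elAt tab r.1).list (elAt tab r.2.1).list) r.2.2.2
          (2 ^ k)) (colsOf (elAt tab r.1).list) (elAt tab r.1).groups (elAt tab r.2.1).groups).map
          fun p => if p.1 = g then p.2 else 0).sum := fun g hg => by
      rw [repTotal, List.foldr_cons, repAdd]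
      exact foldl_addAt _ _ _ g (by rw [← repTotal, repTotal_length]; exact hg)
    refine ⟨fun f hf => ?_, fun h0 => ?_⟩
    · rw [hacc f (by omega), ih1 f hf, pairs_rep (hel _ h1) (hel _ h2) hm hpow hmin' hlen f hf, List.map_cons,
        List.sum_cons, add_comm]
    · rw [hacc 78 (by norm_num), Nat.add_eq_zero, mul_eq_zero] at h0
      rw [List.map_cons, List.sum_cons, ih2 h0.1, add_zero]
      rcases h0.2 with h | h
      · rw [h, zero_mul]
      · rw [bad_rep (hel _ h1) (hel _ h2) hm hpow hmin' hlen h, mul_zero]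

end CfsgLib.J4Order
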